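import Groth.Agent.HenselLib.Criteria

/-! Permanence properties of Henselian pairs. -/

set_option autoImplicit false
universe u v

noncomputable section

open Polynomial Ideal

namespace HenselLib

variable {A : Type u} [CommRing A] {I : Ideal A}

theorem sub_mem_of_root (hI : I ≤ Ideal.jacobson ⊥) {f : A[X]} {a a₀ : A} (ha : f.IsRoot a)
    (h0 : f.eval a₀ ∈ I) (hu : IsUnit (Ideal.Quotient.mk I (f.derivative.eval a₀)))
    {J : Ideal A} (hJ : J ≤ Ideal.jacobson ⊥) (h : a - a₀ ∈ J) : a - a₀ ∈ I := by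
  obtain ⟨c, hc⟩ := exists_mul_sq_add_linear_part_eq_eval_add f a₀ (a - a₀)
  have := isLocalHom_of_le_jacobson_bot I hI
  have hu' : IsUnit (f.derivative.eval a₀) := IsUnit.of_map (Ideal.Quotient.mk I) _ hu
  have hu2 : IsUnit (c * (a - a₀) + f.derivative.eval a₀) :=
    isUnit_of_sub_mem hJ hu' (by rw [add_sub_cancel_right]; exact J.mul_mem_left _ h)
  have h1 : (c * (a - a₀) + f.derivative.eval a₀) * (a - a₀) = - f.eval a₀ := by
    have ha' : f.eval (a₀ + (a - a₀)) = 0 := by rw [add_sub_cancel]; exact ha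
    rw [ha'] at hc
    linear_combination hc
  obtain ⟨w, hw⟩ := hu2
  have h2 : a - a₀ = ↑w⁻¹ * (- f.eval a₀) := by rw [← h1, ← hw, Units.inv_mul_cancel_left]
  rw [h2]
  exact I.mul_mem_left _ (I.neg_mem h0)

theorem nilpotent_le_jacobson (hI : ∀ x ∈ I, IsNilpotent x) : I ≤ Ideal.jacobson ⊥ := fun x hx =>
  Ideal.radical_le_jacobson (R := A) (I := ⊥) (by
    obtain ⟨n, hn⟩ := hI x hx
    exact ⟨n, by rw [hn]; exact zero_mem _⟩)

/-- A ring is Henselian at a nil ideal. -/
theorem henselianRing_of_forall_isNilpotent (hI : ∀ x ∈ I, IsNilpotent x) : HenselianRing A I where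
  jac := nilpotent_le_jacobson hI
  is_henselian f _ a₀ h₁ h₂ := by
    have := isLocalHom_of_le_jacobson_bot I (nilpotent_le_jacobson hI)
    have hu : IsUnit (f.derivative.eval a₀) := IsUnit.of_map (Ideal.Quotient.mk I) _ h₂
    obtain ⟨r, ⟨hr, hr0⟩, -⟩ := existsUnique_nilpotent_sub_and_aeval_eq_zero (R := A) (S := A) (P := f) (x := a₀)
      (by simpa [coe_aeval_eq_eval] using hI _ h₁) (by simpa [coe_aeval_eq_eval] using hu)
    have hr0' : f.IsRoot r := by simpa [coe_aeval_eq_eval, IsRoot] using hr0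
    refine ⟨r, hr0', sub_mem_of_root (nilpotent_le_jacobson hI) hr0' h₁ h₂ (J := nilradical A) ?_ ?_⟩
    · exact nilpotent_le_jacobson fun x hx => hx
    · rw [← neg_sub]
      exact Submodule.neg_mem _ hr

/-- Henselian pairs ascend along integral maps. -/
theorem henselianRing_map_of_isIntegral [HenselianRing A I] {B : Type u} [CommRing B] [Algebra A B]
    [Algebra.IsIntegral A B] : HenselianRing B (I.map (algebraMap A B)) := by
  refine henselianRing_of_idempotents fun C _ _ _ => ?_
  letI : Algebra A C := ((algebraMap B C).comp (algebraMap A B)).toAlgebra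
  haveI : IsScalarTower A B C := IsScalarTower.of_algebraMap_eq' rfl
  haveI : Algebra.IsIntegral A C := Algebra.IsIntegral.trans B
  rw [Ideal.map_map, ← IsScalarTower.algebraMap_eq]
  exact idempotent_bijOn

theorem henselianRing_iff_of_le {J : Ideal A} (hIJ : I ≤ J) :
    HenselianRing A J ↔ HenselianRing A I ∧ HenselianRing (A ⧸ I) (J.map (Ideal.Quotient.mk I)) := by
  constructor
  · intro h
    refine ⟨⟨hIJ.trans HenselianRing.jac, fun f hf a₀ h₁ h₂ => ?_⟩, ?_⟩
    · obtain ⟨a, ha, ha'⟩ := HenselianRing.is_henselian (I := J) f hf a₀ (hIJ h₁) (by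
        have := h₂.map (Ideal.Quotient.factor hIJ)
        rwa [Ideal.Quotient.factor_mk] at this)
      exact ⟨a, ha, sub_mem_of_root (hIJ.trans HenselianRing.jac) ha h₁ h₂ HenselianRing.jac ha'⟩
    · exact henselianRing_map_of_isIntegral (I := J) (B := A ⧸ I)
  · rintro ⟨hA, hQ⟩
    let μ := Ideal.Quotient.mk I
    have hJ : J ≤ Ideal.jacobson ⊥ := fun x hx => by
      rw [Ideal.mem_jacobson_bot]
      intro y
      have h1 := Ideal.mem_jacobson_bot.1 (hQ.jac (Ideal.mem_map_of_mem μ hx)) (μ y)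
      rw [← map_mul, ← map_one μ, ← map_add] at h1
      have := isLocalHom_of_le_jacobson_bot I hA.jac
      exact IsUnit.of_map μ _ h1
    refine ⟨hJ, fun f hf a₀ h₁ h₂ => ?_⟩
    have hu0 : IsUnit (f.derivative.eval a₀) := by
      have := isLocalHom_of_le_jacobson_bot J hJ
      exact IsUnit.of_map (Ideal.Quotient.mk J) _ h₂
    obtain ⟨α, hα, hα'⟩ := hQ.is_henselian (f.map μ) (hf.map μ) (μ a₀)
      (by rw [eval_map_apply]; exact Ideal.mem_map_of_mem μ h₁)
      (by rw [derivative_map, eval_map_apply]; exact (hu0.map μ).map _)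
    obtain ⟨a₁, rfl⟩ := Ideal.Quotient.mk_surjective α
    have hmem : a₁ - a₀ ∈ J := by
      rw [← map_sub] at hα'
      have : a₁ - a₀ ∈ (J.map μ).comap μ := hα'
      rwa [Ideal.comap_map_of_surjective _ Ideal.Quotient.mk_surjective, ← RingHom.ker_eq_comap_bot,
        Ideal.mk_ker, sup_eq_left.2 hIJ] at this
    have hu1 : IsUnit (f.derivative.eval a₁) := isUnit_of_sub_mem hJ hu0 (by
      exact Ideal.mem_of_dvd _ (sub_dvd_eval_sub a₁ a₀ _) hmem)
    obtain ⟨a, ha, ha'⟩ := hA.is_henselian f hf a₁ (by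
      rw [← Ideal.Quotient.eq_zero_iff_mem, ← eval_map_apply]; exact hα) (hu1.map _)
    exact ⟨a, ha, by rw [← sub_add_sub_cancel a a₁ a₀]; exact J.add_mem (hIJ ha') hmem⟩

theorem henselianRing_of_le {J : Ideal A} [HenselianRing A J] (h : I ≤ J) : HenselianRing A I :=
  ((henselianRing_iff_of_le h).1 ‹_›).1

theorem henselianRing_of_le_radical {J : Ideal A} [HenselianRing A J] (h : I ≤ J.radical) : HenselianRing A I := by
  haveI : HenselianRing A J.radical := (henselianRing_iff_of_le Ideal.le_radical).2 ⟨‹_›,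
    henselianRing_of_forall_isNilpotent fun x hx => by
      obtain ⟨r, hr, rfl⟩ := (Ideal.mem_map_iff_of_surjective _ Ideal.Quotient.mk_surjective).1 hx
      obtain ⟨n, hn⟩ := hr
      exact ⟨n, by rw [← map_pow]; exact Ideal.Quotient.eq_zero_iff_mem.2 hn⟩⟩
  exact henselianRing_of_le h

theorem henselianRing_pi_iff {ι : Type u} {R : ι → Type u} [∀ j, CommRing (R j)] {J : ∀ j, Ideal (R j)} :
    HenselianRing (∀ j, R j) (⨅ j, (J j).comap (Pi.evalRingHom R j)) ↔ ∀ j, HenselianRing (R j) (J j) := by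
  classical
  constructor
  · intro h j
    have hsingle : ∀ x ∈ J j, (Pi.single j x : ∀ i, R i) ∈ ⨅ i, (J i).comap (Pi.evalRingHom R i) := by
      intro x hx
      rw [Ideal.mem_iInf]
      intro i
      show (Pi.single j x : ∀ i, R i) i ∈ J i
      rcases eq_or_ne i j with rfl | hi
      · rwa [Pi.single_eq_same]
      · rw [Pi.single_eq_of_ne hi]; exact zero_mem _
    refine henselianRing_of_gabberRoots (fun x hx => ?_) fun n hn p hp hc => ?_
    · rw [Ideal.mem_jacobson_bot]
      intro y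
      have h1 := (Ideal.mem_jacobson_bot.1 (h.jac (hsingle x hx)) (Pi.single j y)).map (Pi.evalRingHom R j)
      simpa using h1
    · let P : (∀ i, R i)[X] := ∑ k ∈ Finset.range (n + 1), monomial k (Pi.single j (p.coeff k))
      have hPn : P.natDegree ≤ n := natDegree_sum_le_of_forall_le _ _ fun k hk =>
        (natDegree_monomial_le _).trans (Nat.lt_succ_iff.1 (Finset.mem_range.1 hk))
      obtain ⟨α, hα, hroot⟩ := gabberRoots_of_henselianRing (I := ⨅ i, (J i).comap (Pi.evalRingHom R i)) n hn P hPn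
        fun i => by
          simp only [P, finset_sum_coeff, coeff_monomial]
          refine sum_mem fun k _ => ?_
          split_ifs
          · exact hsingle _ (hc k)
          · exact zero_mem _
      have hPp : P.map (Pi.evalRingHom R j) = p := by
        conv_rhs => rw [p.as_sum_range' (n + 1) (Nat.lt_succ_of_le hp)]
        simp [P, Polynomial.map_sum]
      refine ⟨α j, Ideal.mem_iInf.1 hα j, ?_⟩
      have := hroot.map (f := Pi.evalRingHom R j)
      simpa [Polynomial.map_add, hPp] using this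
  · intro h
    have hjac : (⨅ i, (J i).comap (Pi.evalRingHom R i)) ≤ Ideal.jacobson ⊥ := fun x hx => by
      rw [Ideal.mem_jacobson_bot]
      intro y
      rw [Pi.isUnit_iff]
      intro j
      exact Ideal.mem_jacobson_bot.1 ((h j).jac (Ideal.mem_iInf.1 hx j)) (y j)
    refine henselianRing_of_gabberRoots hjac fun n hn p hp hc => ?_
    have hex : ∀ j, ∃ α : R j, α - 1 ∈ J j ∧ (X ^ n * (X - 1) + p.map (Pi.evalRingHom R j)).IsRoot α := fun j => by
      haveI := h j
      exact gabberRoots_of_henselianRing (I := J j) n hn _ (natDegree_map_le.trans hp) fun i => by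
        rw [coeff_map]; exact Ideal.mem_iInf.1 (hc i) j
    choose α hα hroot using hex
    refine ⟨α, Ideal.mem_iInf.2 fun j => hα j, funext fun j => ?_⟩
    have h2 : ((X ^ n * (X - 1) + p).map (Pi.evalRingHom R j)).eval (α j) = 0 := by
      simpa [Polynomial.map_add, IsRoot] using hroot j
    rw [show α j = Pi.evalRingHom R j α from rfl, eval_map_apply] at h2
    exact h2

theorem connectedSpace_quotient_prime_sup [HenselianRing A I] (p : Ideal A) [p.IsPrime] :
    ConnectedSpace (PrimeSpectrum (A ⧸ p ⊔ I)) := by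
  let B := A ⧸ p
  let IB := I.map (algebraMap A B)
  let e : B ⧸ IB ≃+* A ⧸ p ⊔ I := DoubleQuot.quotQuotEquivQuotSup p I
  have htriv : ∀ y : A ⧸ p ⊔ I, IsIdempotentElem y → y = 0 ∨ y = 1 := by
    intro y hy
    obtain ⟨b, hb, hbe⟩ := (idempotent_bijOn (I := I) (B := B)).surjOn (hy.map e.symm)
    rcases IsIdempotentElem.iff_eq_zero_or_one.1 hb with rfl | rfl
    · exact Or.inl (e.symm.injective (by rw [← hbe, map_zero, map_zero]))
    · exact Or.inr (e.symm.injective (by rw [← hbe, map_one, map_one]))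
  haveI : Nontrivial (A ⧸ p ⊔ I) := Ideal.Quotient.nontrivial_iff.2 fun htop => by
    obtain ⟨m, hm, hpm⟩ := Ideal.exists_le_maximal p ‹p.IsPrime›.ne_top
    exact hm.ne_top (top_le_iff.1 (htop ▸ sup_le hpm ((HenselianRing.jac (I := I)).trans (sInf_le ⟨bot_le, hm⟩))))
  refine { toPreconnectedSpace := ?_, toNonempty := inferInstance }
  rw [preconnectedSpace_iff_clopen]
  intro s hs
  obtain ⟨e', he', rfl⟩ := PrimeSpectrum.isClopen_iff.1 hs
  rcases htriv e' he' with rfl | rfl
  · left; simp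
  · right; simp

theorem henselianRing_sup {J : Ideal A} [HenselianRing A I] [HenselianRing A J] : HenselianRing A (I ⊔ J) := by
  refine (henselianRing_iff_of_le le_sup_left).2 ⟨‹_›, ?_⟩
  rw [Ideal.map_sup, Ideal.map_quotient_self, bot_sup_eq]
  exact henselianRing_map_of_isIntegral (I := J) (B := A ⧸ I)

theorem exists_largest : ∃ I : Ideal A, HenselianRing A I ∧ ∀ J : Ideal A, HenselianRing A J → J ≤ I := by
  classical
  let S := {J : Ideal A | HenselianRing A J}
  have hne : S.Nonempty := ⟨⊥, henselianRing_of_forall_isNilpotent fun x hx => ⟨1, by simpa using hx⟩⟩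
  have hdir : DirectedOn (· ≤ ·) S := fun a ha b hb =>
    ⟨a ⊔ b, @henselianRing_sup A _ a b ha hb, le_sup_left, le_sup_right⟩
  have hjac : sSup S ≤ Ideal.jacobson ⊥ := sSup_le fun J hJ => hJ.jac
  refine ⟨sSup S, henselianRing_of_gabberRoots hjac fun n hn p hp hc => ?_, fun J hJ => le_sSup hJ⟩
  have key : ∀ m, ∃ J ∈ S, ∀ i < m, p.coeff i ∈ J := by
    intro m
    induction m with
    | zero => exact ⟨_, hne.some_mem, fun i hi => absurd hi (Nat.not_lt_zero i)⟩
    | succ m ih =>
      obtain ⟨J, hJ, hJc⟩ := ih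
      obtain ⟨J', hJ', hm⟩ := (Submodule.mem_sSup_of_directed hne hdir).1 (hc m)
      refine ⟨J ⊔ J', @henselianRing_sup A _ J J' hJ hJ', fun i hi => ?_⟩
      rcases Nat.lt_succ_iff_lt_or_eq.1 hi with h | rfl
      · exact Ideal.mem_sup_left (hJc i h)
      · exact Ideal.mem_sup_right hm
  obtain ⟨J, hJ, hJc⟩ := key (n + 1)
  haveI : HenselianRing A J := hJ
  obtain ⟨α, hα, hroot⟩ := gabberRoots_of_henselianRing (I := J) n hn p hp fun i => by
    rcases Nat.lt_or_ge i (n + 1) with h | h
    · exact hJc i h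
    · rw [coeff_eq_zero_of_natDegree_lt (hp.trans_lt h)]; exact zero_mem _
  exact ⟨α, le_sSup hJ hα, hroot⟩

end HenselLib
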