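import Groth.Agent.HenselLib.Basic

/-! Equivalent forms of the Henselian property. -/

set_option autoImplicit false
universe u v w

noncomputable section

open Polynomial Ideal Pointwise TensorProduct

namespace HenselLib

variable {A : Type u} [CommRing A] {I : Ideal A}

/-- Sections of étale algebras lift. -/
def EtaleLifts (I : Ideal A) : Prop :=
  ∀ (S : Type u) [CommRing S] [Algebra A S] [Algebra.Etale A S] (σ : S →ₐ[A] A ⧸ I),
    ∃ τ : S →ₐ[A] A, (Ideal.Quotient.mkₐ A I).comp τ = σ

theorem etaleLifts_of_gabberRoots (hI : I ≤ Ideal.jacobson ⊥) (hG : GabberRoots I) : EtaleLifts I :=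
  fun _ _ _ _ σ => exists_lift_of_etale hI hG σ

theorem etaleLifts_of_henselianRing [HenselianRing A I] : EtaleLifts I :=
  etaleLifts_of_gabberRoots HenselianRing.jac gabberRoots_of_henselianRing

theorem jac_of_etaleLifts (h : EtaleLifts I) : I ≤ Ideal.jacobson ⊥ := by
  intro x hx
  rw [Ideal.mem_jacobson_bot]
  intro y
  have h1 : Ideal.Quotient.mk I (x * y + 1) = 1 := by
    rw [← map_one (Ideal.Quotient.mk I), Ideal.Quotient.eq, add_sub_cancel_right]
    exact I.mul_mem_right _ hx
  haveI : Algebra.Etale A (Localization.Away (x * y + 1)) :=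
    Algebra.Etale.of_isLocalizationAway (x * y + 1)
  let σ : Localization.Away (x * y + 1) →ₐ[A] A ⧸ I :=
    IsLocalization.Away.liftAlgHom (x * y + 1) (f := Ideal.Quotient.mkₐ A I) (by
      show IsUnit (Ideal.Quotient.mk I (x * y + 1))
      rw [h1]; exact isUnit_one)
  obtain ⟨τ, -⟩ := h _ σ
  have := (IsLocalization.Away.algebraMap_isUnit (S := Localization.Away (x * y + 1)) (x * y + 1)).map τ
  rwa [τ.commutes] at this

/-- A standard pair for a simple root. -/
def rootPair (f : A[X]) (hf : f.Monic) : StandardEtalePair A where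
  f := f
  monic_f := hf
  g := derivative f
  cond := ⟨1, 0, 1, by simp⟩

theorem henselianRing_of_etaleLifts (h : EtaleLifts I) : HenselianRing A I where
  jac := jac_of_etaleLifts h
  is_henselian f hf a₀ h₁ h₂ := by
    let P := rootPair f hf
    have hm : P.HasMap (Ideal.Quotient.mk I a₀) := by
      constructor
      · rw [show P.f = f from rfl, ← Ideal.Quotient.algebraMap_eq, Polynomial.aeval_algebraMap_apply,
          Ideal.Quotient.algebraMap_eq, Ideal.Quotient.eq_zero_iff_mem]
        simpa using h₁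
      · rw [show P.g = derivative f from rfl, ← Ideal.Quotient.algebraMap_eq, Polynomial.aeval_algebraMap_apply]
        simpa using h₂
    obtain ⟨τ, hτ⟩ := h P.Ring (P.lift _ hm)
    refine ⟨τ P.X, ?_, ?_⟩
    · have := (StandardEtalePair.hasMap_X (P := P)).map τ |>.1
      rwa [show P.f = f from rfl, ← coe_aeval_eq_eval] at *
    · rw [← Ideal.Quotient.eq]
      simpa using DFunLike.congr_fun hτ P.X

theorem henselianRing_iff_etaleLifts : HenselianRing A I ↔ EtaleLifts I :=
  ⟨fun h => etaleLifts_of_henselianRing, henselianRing_of_etaleLifts⟩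

theorem henselianRing_of_gabberRoots (hI : I ≤ Ideal.jacobson ⊥) (hG : GabberRoots I) : HenselianRing A I :=
  henselianRing_of_etaleLifts (etaleLifts_of_gabberRoots hI hG)

/-- Simple roots are unique. -/
theorem root_eq_of_sub_mem (hI : I ≤ Ideal.jacobson ⊥) {f : A[X]} {a b : A} (ha : f.IsRoot a) (hb : f.IsRoot b)
    (hu : IsUnit (Ideal.Quotient.mk I (f.derivative.eval a))) (h : b - a ∈ I) : a = b := by
  obtain ⟨c, hc⟩ := exists_mul_sq_add_linear_part_eq_eval_add f a (b - a)
  have h0 : (c * (b - a) + f.derivative.eval a) * (b - a) = 0 := by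
    have ha' : f.eval a = 0 := ha
    have hb' : f.eval (a + (b - a)) = 0 := by rw [add_sub_cancel]; exact hb
    rw [ha', hb'] at hc
    linear_combination hc
  have := isLocalHom_of_le_jacobson_bot I hI
  have hu' : IsUnit (f.derivative.eval a) := IsUnit.of_map (Ideal.Quotient.mk I) _ hu
  have hu2 : IsUnit (c * (b - a) + f.derivative.eval a) :=
    isUnit_of_sub_mem hI hu' (by rw [add_sub_cancel_right]; exact I.mul_mem_left _ h)
  exact (sub_eq_zero.1 (hu2.mul_right_eq_zero.1 h0)).symm

/-- Monic coprime factorisations lift. -/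
theorem exists_factor_lift [HenselianRing A I] {f : A[X]} (hf : f.Monic) {g₀ h₀ : (A ⧸ I)[X]}
    (hg : g₀.Monic) (hh : h₀.Monic) (hc : IsCoprime g₀ h₀) (hfac : f.map (Ideal.Quotient.mk I) = g₀ * h₀) :
    ∃ g h : A[X], g.Monic ∧ h.Monic ∧ f = g * h ∧ g.map (Ideal.Quotient.mk I) = g₀ ∧
      h.map (Ideal.Quotient.mk I) = h₀ ∧ IsCoprime g h := by
  rcases subsingleton_or_nontrivial (A ⧸ I) with hs | hs
  · have hA : Subsingleton A := by
      rw [Ideal.Quotient.subsingleton_iff] at hs
      have h1 : IsUnit ((1 : A) * (-1) + 1) :=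
        Ideal.mem_jacobson_bot.1 (HenselianRing.jac (I := I) (hs ▸ Submodule.mem_top)) (-1)
      rw [one_mul, neg_add_cancel, isUnit_zero_iff] at h1
      exact ⟨fun a b => by rw [← mul_one a, ← mul_one b, ← h1, mul_zero, mul_zero]⟩
    haveI := hA
    exact ⟨1, 1, monic_one, monic_one, Subsingleton.elim _ _, Subsingleton.elim _ _, Subsingleton.elim _ _,
      isCoprime_one_left⟩
  haveI : Nontrivial A := (Ideal.Quotient.mk I).domain_nontrivial
  have hdeg : f.natDegree = g₀.natDegree + h₀.natDegree := by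
    rw [← hf.natDegree_map (Ideal.Quotient.mk I), hfac, hg.natDegree_mul hh]
  let p : MonicDegreeEq A f.natDegree := .mk f hf rfl
  let σ := (UniversalCoprimeFactorizationRing.homEquiv (A ⧸ I) g₀.natDegree h₀.natDegree hdeg p).symm
    ⟨(.mk g₀ hg rfl, .mk h₀ hh rfl), hfac.symm, hc⟩
  obtain ⟨τ, hτ⟩ := etaleLifts_of_henselianRing (I := I) _ σ
  let q := UniversalCoprimeFactorizationRing.homEquiv A g₀.natDegree h₀.natDegree hdeg p τ
  refine ⟨q.1.1.1, q.1.2.1, q.1.1.monic, q.1.2.monic, ?_, ?_, ?_, q.2.2⟩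
  · rw [q.2.1]
    exact (Polynomial.map_id (p := f)).symm
  · have := UniversalCoprimeFactorizationRing.homEquiv_comp_fst (T := A ⧸ I) (S := A) g₀.natDegree h₀.natDegree
      hdeg p τ (Ideal.Quotient.mkₐ A I)
    rw [hτ, Equiv.apply_symm_apply] at this
    exact (congrArg Subtype.val this).symm
  · have := UniversalCoprimeFactorizationRing.homEquiv_comp_snd (T := A ⧸ I) (S := A) g₀.natDegree h₀.natDegree
      hdeg p τ (Ideal.Quotient.mkₐ A I)
    rw [hτ, Equiv.apply_symm_apply] at this
    exact (congrArg Subtype.val this).symm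

/-- An almost idempotent element has a polynomial correction which is idempotent. -/
theorem exists_idem_polynomial [HenselianRing A I] {B : Type v} [Ring B] [Algebra A B] (b : B) (P : A[X])
    (hP : P.Monic) (hPc : ∀ i < P.natDegree, P.coeff i ∈ I) (h0 : aeval (b * b - b) P = 0) :
    ∃ E : A[X], IsIdempotentElem (aeval b E) ∧ ∀ {B' : Type w} [Ring B'] [Algebra A B'] (q : B →ₐ[A] B'),
      (∀ a ∈ I, algebraMap A B' a = 0) → IsIdempotentElem (q b) → q (aeval b E) = q b := by
  rcases subsingleton_or_nontrivial A with hA | hA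
  · haveI := Module.subsingleton A B
    refine ⟨0, Subsingleton.elim _ _, fun {B'} _ _ q _ _ => ?_⟩
    haveI := Module.subsingleton A B'
    exact Subsingleton.elim _ _
  let Q := P * X
  let n := P.natDegree + 1
  have hQ : Q.Monic := hP.mul monic_X
  have hQn : Q.natDegree = n := by rw [hP.natDegree_mul monic_X, natDegree_X]
  let π := Ideal.Quotient.mk I
  have hQπ : Q.map π = X ^ n := by
    have : P.map π = X ^ P.natDegree := by
      ext i
      rw [coeff_map, coeff_X_pow]
      rcases lt_trichotomy i P.natDegree with h | h | h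
      · rw [if_neg h.ne, Ideal.Quotient.eq_zero_iff_mem.2 (hPc i h)]
      · rw [if_pos h, h, coeff_natDegree, hP.leadingCoeff, map_one]
      · rw [if_neg h.ne', coeff_eq_zero_of_natDegree_lt h, map_zero]
    rw [Polynomial.map_mul, this, map_X, ← pow_succ]
  let r : A[X] := X ^ 2 - X
  have hr : r.Monic := monic_X_pow_sub (degree_X_le.trans_lt (by exact_mod_cast Nat.one_lt_two))
  have hrn : r.natDegree ≠ 0 := by
    have : r.natDegree = 2 := by
      rw [natDegree_sub_eq_left_of_natDegree_lt] <;> simp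
    omega
  let g := Q.comp r
  have hg : g.Monic := hQ.comp hr hrn
  have hgπ : g.map π = X ^ n * (X - 1) ^ n := by
    rw [Polynomial.map_comp, hQπ, X_pow_comp, ← mul_pow]
    congr 1
    simp [r]; ring
  have hcop : IsCoprime ((X : (A ⧸ I)[X]) ^ n) ((X - 1) ^ n) :=
    (IsCoprime.pow (m := n) (n := n) ⟨1, -1, by ring⟩)
  obtain ⟨g₁, g₂, -, -, hfac, hg₁, hg₂, u, v, huv⟩ :=
    exists_factor_lift (I := I) hg (monic_X_pow n) (by
      rw [← map_one (C : (A ⧸ I) →+* (A ⧸ I)[X])]; exact (monic_X_sub_C 1).pow n) hcop hgπ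
  have hgb : aeval b g = 0 := by
    rw [aeval_comp]
    have : aeval b r = b * b - b := by simp [r, pow_two]
    rw [this, map_mul, h0, zero_mul]
  refine ⟨u * g₁, ?_, fun {B'} _ _ q hq hb => ?_⟩
  · show aeval b (u * g₁) * aeval b (u * g₁) = _
    have : u * g₁ * (u * g₁) = u * g₁ - u * v * g := by
      rw [hfac]; linear_combination (u * g₁) * huv
    rw [← map_mul, this, map_sub, map_mul (aeval b) (u * v) g, hgb, mul_zero, sub_zero]
  · letI : Algebra (A ⧸ I) B' := ((Ideal.Quotient.lift I (algebraMap A B') hq).toAlgebra' fun c x => by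
      obtain ⟨c, rfl⟩ := Ideal.Quotient.mk_surjective c
      rw [Ideal.Quotient.lift_mk]
      exact Algebra.commutes c x)
    haveI : IsScalarTower A (A ⧸ I) B' := IsScalarTower.of_algebraMap_eq fun a => rfl
    have key : ∀ F : A[X], q (aeval b F) = aeval (q b) (F.map π) := fun F => by
      rw [← Polynomial.aeval_algHom_apply]
      exact (aeval_map_algebraMap (A ⧸ I) (q b) F).symm
    have hpow : ∀ k, q b ^ (k + 1) = q b := fun k => hb.pow_succ_eq k
    let Φ : (A ⧸ I)[X] →ₐ[A ⧸ I] B' := aeval (q b)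
    have h1 : Φ ((u.map π) * X ^ n + (v.map π) * (X - 1) ^ n) = 1 := by
      rw [← hg₁, ← hg₂, ← Polynomial.map_mul, ← Polynomial.map_mul, ← Polynomial.map_add, huv,
        Polynomial.map_one, map_one]
    have h2 : Φ (X * X - X) = 0 := by
      rw [map_sub, map_mul, show Φ X = q b from aeval_X _, hb.eq, sub_self]
    have h3 : Φ ((u.map π * X ^ n + v.map π * (X - 1) ^ n) * X) = q b := by
      rw [map_mul, h1, one_mul]
      exact aeval_X _
    have h4 : Φ (v.map π * (X - 1) ^ n * X) = 0 := by
      rw [show v.map π * (X - 1) ^ n * X = v.map π * (X - 1) ^ P.natDegree * (X * X - X) by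
        simp only [n, pow_succ]; ring, map_mul, h2, mul_zero]
    rw [add_mul, map_add, h4, add_zero, mul_assoc, ← pow_succ, map_mul, map_pow] at h3
    rw [key, Polynomial.map_mul, hg₁]
    show Φ (u.map π * X ^ n) = q b
    rw [map_mul, map_pow, show Φ X = q b from aeval_X _, show n = P.natDegree + 1 from rfl, hpow]
    rwa [show Φ X = q b from aeval_X _, hpow] at h3

variable {B : Type v} [CommRing B] [Algebra A B]

/-- Idempotents lift in integral algebras. -/
theorem exists_idempotent_lift [HenselianRing A I] [Algebra.IsIntegral A B] (b : B)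
    (hb : b * b - b ∈ I.map (algebraMap A B)) :
    ∃ e : B, IsIdempotentElem e ∧ e - b ∈ I.map (algebraMap A B) := by
  classical
  let IB := I.map (algebraMap A B)
  have hb' : b * b - b ∈ I • (⊤ : Submodule A B) := by rw [← map_eq_smul_top]; exact hb
  obtain ⟨s, hs⟩ : ∃ s : Finset B, b * b - b ∈ I • Submodule.span A (s : Set B) := by
    refine Submodule.smul_induction_on (p := fun z => ∃ s : Finset B, z ∈ I • Submodule.span A (s : Set B)) hb'
      (fun a ha x _ => ⟨{x}, Submodule.smul_mem_smul ha (Submodule.subset_span (by simp))⟩) fun x y hx hy => ?_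
    · obtain ⟨s, hs⟩ := hx
      obtain ⟨t, ht⟩ := hy
      exact ⟨s ∪ t, add_mem (Submodule.smul_mono le_rfl (Submodule.span_mono (by simp)) hs)
        (Submodule.smul_mono le_rfl (Submodule.span_mono (by simp)) ht)⟩
  let B₀ := Algebra.adjoin A (insert b (s : Set B))
  haveI : Module.Finite A B₀ := ⟨(Submodule.fg_top _).mpr (fg_adjoin_of_finite
    ((s.finite_toSet).insert b) fun x _ => Algebra.IsIntegral.isIntegral x)⟩
  let b₀ : B₀ := ⟨b, Algebra.subset_adjoin (Set.mem_insert _ _)⟩
  have hmem : b₀ * b₀ - b₀ ∈ I • (⊤ : Submodule A B₀) := by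
    have hle : I • Submodule.span A (s : Set B) ≤ Submodule.map B₀.val.toLinearMap (I • (⊤ : Submodule A B₀)) := by
      rw [Submodule.map_smul'']
      refine Submodule.smul_mono le_rfl (Submodule.span_le.2 fun x hx => ?_)
      exact ⟨⟨x, Algebra.subset_adjoin (Set.mem_insert_of_mem _ hx)⟩, trivial, rfl⟩
    obtain ⟨y, hy, hye⟩ := hle hs
    have : y = b₀ * b₀ - b₀ := Subtype.ext hye
    exact this ▸ hy
  have hrange : LinearMap.range (LinearMap.mulLeft A (b₀ * b₀ - b₀)) ≤ I • (⊤ : Submodule A B₀) := by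
    rintro _ ⟨x, rfl⟩
    rw [← map_eq_smul_top] at hmem ⊢
    exact Ideal.mul_mem_right _ (I.map (algebraMap A B₀)) hmem
  obtain ⟨P, hP, hdeg, hPc, hP0⟩ :=
    LinearMap.exists_monic_and_natDegree_eq_and_coeff_mem_pow_and_aeval_eq_zero A _ I hrange
  have h0 : aeval (b₀ * b₀ - b₀) P = 0 := by
    rw [show LinearMap.mulLeft A (b₀ * b₀ - b₀) = Algebra.lmul A B₀ (b₀ * b₀ - b₀) from rfl,
      Polynomial.aeval_algHom_apply] at hP0
    simpa using LinearMap.congr_fun hP0 1
  have h0' : aeval (b * b - b) P = 0 := by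
    have := congrArg B₀.val h0
    rwa [← Polynomial.aeval_algHom_apply, map_zero] at this
  obtain ⟨E, hE, hq⟩ := exists_idem_polynomial.{u, v, v} (I := I) b P hP
    (fun i hi => Ideal.pow_le_self (by omega) (hPc i)) h0'
  refine ⟨aeval b E, hE, ?_⟩
  rw [← Ideal.Quotient.eq]
  exact hq (Ideal.Quotient.mkₐ A IB) (fun a ha => Ideal.Quotient.eq_zero_iff_mem.2 (Ideal.mem_map_of_mem _ ha))
    (by
      show Ideal.Quotient.mk IB b * Ideal.Quotient.mk IB b = _
      rw [← map_mul]; exact Ideal.Quotient.eq.2 hb)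

theorem idempotent_bijOn [HenselianRing A I] [Algebra.IsIntegral A B] :
    Set.BijOn (Ideal.Quotient.mk (I.map (algebraMap A B))) {e : B | IsIdempotentElem e} {e | IsIdempotentElem e} := by
  refine ⟨fun e he => he.map _, fun e he e' he' h => ?_, fun y hy => ?_⟩
  · exact idem_eq_of_sub_mem (map_le_jacobson_bot (HenselianRing.jac (I := I))) he he' (Ideal.Quotient.eq.1 h)
  · obtain ⟨b, rfl⟩ := Ideal.Quotient.mk_surjective y
    obtain ⟨e, he, heb⟩ := exists_idempotent_lift b (Ideal.Quotient.eq.1 (by rw [map_mul]; exact hy))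
    exact ⟨e, he, Ideal.Quotient.eq.2 heb⟩

/-- The converse: lifting idempotents gives the Henselian property. -/
theorem henselianRing_of_idempotents (h : ∀ (B : Type u) [CommRing B] [Algebra A B], Module.Finite A B →
      Set.BijOn (Ideal.Quotient.mk (I.map (algebraMap A B))) {e : B | IsIdempotentElem e} {e | IsIdempotentElem e}) :
    HenselianRing A I := by
  have hI : I ≤ Ideal.jacobson ⊥ := fun x hx => by
    rw [Ideal.mem_jacobson_bot]
    intro y
    let B := A ⧸ Ideal.span {x * y + 1}
    have htop : I.map (algebraMap A B) = ⊤ := by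
      rw [Ideal.eq_top_iff_one]
      have h1 : algebraMap A B (-(x * y)) = 1 := by
        rw [← map_one (algebraMap A B), Ideal.Quotient.algebraMap_eq, Ideal.Quotient.eq]
        rw [show -(x * y) - 1 = -(x * y + 1) by ring]
        exact neg_mem (Ideal.mem_span_singleton_self _)
      rw [← h1]
      exact Ideal.mem_map_of_mem _ (I.neg_mem (I.mul_mem_right _ hx))
    have h01 : (0 : B) = 1 := (h B inferInstance).injOn IsIdempotentElem.zero IsIdempotentElem.one (by
      haveI : Subsingleton (B ⧸ I.map (algebraMap A B)) := Ideal.Quotient.subsingleton_iff.2 htop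
      exact Subsingleton.elim _ _)
    have : (1 : A) ∈ Ideal.span {x * y + 1} := Ideal.Quotient.eq_zero_iff_mem.1 (by rw [map_one]; exact h01.symm)
    exact Ideal.span_singleton_eq_top.1 ((Ideal.eq_top_iff_one _).2 this)
  refine henselianRing_of_gabberRoots hI fun n hn p hp hc => ?_
  let f := X ^ n * (X - 1) + p
  have hf : f.Monic := monic_gabber hp
  haveI := hf.finite_adjoinRoot
  haveI := hf.free_adjoinRoot
  let B := AdjoinRoot f
  let x : B := AdjoinRoot.root f
  let IB := I.map (algebraMap A B)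
  have hx : x ^ n * (x - 1) ∈ IB := by
    have h0 : aeval x f = 0 := AdjoinRoot.aeval_eq f ▸ AdjoinRoot.mk_self
    have hp' : aeval x p ∈ IB := by
      rw [aeval_eq_sum_range]
      exact sum_mem fun i _ => by
        rw [Algebra.smul_def]
        exact IB.mul_mem_right _ (Ideal.mem_map_of_mem _ (hc i))
    have : x ^ n * (x - 1) = - aeval x p := by
      rw [map_add] at h0
      simpa using eq_neg_of_add_eq_zero_left h0
    rw [this]; exact IB.neg_mem hp'
  have hstep : ∀ m, n ≤ m → x ^ m - x ^ n ∈ IB := by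
    intro m hm
    induction m, hm using Nat.le_induction with
    | base => simp
    | succ m hm ih =>
      have : x ^ (m + 1) - x ^ n = x * (x ^ m - x ^ n) + x ^ n * (x - 1) := by ring
      rw [this]
      exact IB.add_mem (IB.mul_mem_left _ ih) hx
  obtain ⟨e, he, hex⟩ := (h B inferInstance).surjOn (show IsIdempotentElem (Ideal.Quotient.mk IB (x ^ n)) by
    show _ * _ = _
    rw [← map_mul, ← pow_add, Ideal.Quotient.eq]
    exact hstep _ (Nat.le_add_right n n))
  have hex' : e - x ^ n ∈ IB := Ideal.Quotient.eq.1 hex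
  let C := B ⧸ Ideal.span {1 - e}
  let μ : B →ₐ[A] C := Ideal.Quotient.mkₐ A _
  have hμe : μ e = 1 := by
    have : μ (1 - e) = 0 := Ideal.Quotient.eq_zero_iff_mem.2 (Ideal.mem_span_singleton_self _)
    rw [map_sub, map_one, sub_eq_zero] at this
    exact this.symm
  have hμI : ∀ z ∈ IB, μ z ∈ I.map (algebraMap A C) := fun z hz => by
    have := Ideal.mem_map_of_mem (μ : B →+* C) hz
    rwa [Ideal.map_map, μ.comp_algebraMap] at this
  have hxm : (μ x) ^ n - 1 ∈ I.map (algebraMap A C) := by
    rw [← hμe, ← map_pow, ← map_sub, show x ^ n - e = -(e - x ^ n) by ring, map_neg]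
    exact neg_mem (hμI _ hex')
  have hx1 : μ x - 1 ∈ I.map (algebraMap A C) := by
    have h1 : (μ x) ^ n * (μ x - 1) ∈ I.map (algebraMap A C) := by simpa using hμI _ hx
    have : μ x - 1 = (μ x) ^ n * (μ x - 1) - ((μ x) ^ n - 1) * (μ x - 1) := by ring
    rw [this]
    exact (I.map _).sub_mem h1 ((I.map _).mul_mem_right _ hxm)
  haveI : Module.Flat A C := by
    have hproj : Module.Flat B C := by
      exact Ideal.Pure.of_isIdempotentElem ⟨{1 - e}, by simp⟩ (by
        show Ideal.span {1 - e} * Ideal.span {1 - e} = _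
        rw [Ideal.span_singleton_mul_span_singleton, he.one_sub.eq])
    exact Module.Flat.trans A B C
  have hsur : Function.Surjective (algebraMap A C) := surjective_algebraMap_of_le hI fun z => by
    obtain ⟨z, rfl⟩ := Ideal.Quotient.mk_surjective z
    obtain ⟨F, rfl⟩ := AdjoinRoot.mk_surjective z
    refine ⟨F.eval 1, ?_⟩
    show μ (AdjoinRoot.mk f F) - _ ∈ _
    rw [← AdjoinRoot.aeval_eq, ← Polynomial.aeval_algHom_apply, ← Polynomial.aeval_algebraMap_apply_eq_algebraMap_eval,
      map_one]
    exact Ideal.mem_of_dvd _ (sub_dvd_eval_sub (μ x) 1 (F.map (algebraMap A C)) |> fun d => by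
      simpa [eval_map_algebraMap] using d) hx1
  have haux : eval₂ (Algebra.ofId A (A ⧸ I) : A →+* A ⧸ I) 1 f = 0 := by
    have hpπ : p.map (Ideal.Quotient.mk I) = 0 := by
      ext i; rw [coeff_map, coeff_zero, Ideal.Quotient.eq_zero_iff_mem]; exact hc i
    rw [eval₂_eq_eval_map]
    show (f.map (Ideal.Quotient.mk I)).eval 1 = 0
    simp [f, Polynomial.map_add, hpπ]
  let σC : C →ₐ[A] A ⧸ I := Ideal.Quotient.liftₐ _
    (AdjoinRoot.liftAlgHom f (Algebra.ofId A (A ⧸ I)) 1 haux)
    (by
      intro z hz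
      obtain ⟨w, rfl⟩ := Ideal.mem_span_singleton.1 hz
      rw [map_mul, map_sub, map_one]
      let ψ := AdjoinRoot.liftAlgHom f (Algebra.ofId A (A ⧸ I)) 1 haux
      have hk : ∀ z ∈ IB, ψ z = 0 := fun z hz => by
        have : IB ≤ RingHom.ker ψ := Ideal.map_le_iff_le_comap.2 fun a ha => by
          show ψ (algebraMap A B a) = 0
          rw [ψ.commutes, Ideal.Quotient.algebraMap_eq, Ideal.Quotient.eq_zero_iff_mem.2 ha]
        exact this hz
      have h1 := hk _ hex'
      rw [map_sub, map_pow, show ψ x = 1 from AdjoinRoot.liftAlgHom_root .., one_pow, sub_eq_zero] at h1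
      rw [h1, sub_self, zero_mul])
  have hker : RingHom.ker (algebraMap A C) ≤ I := fun a ha => by
    have := σC.commutes a
    rw [show algebraMap A C a = 0 from ha, map_zero] at this
    exact Ideal.Quotient.eq_zero_iff_mem.1 this.symm
  have hinj := injective_algebraMap_of_flat hI hsur hker
  obtain ⟨α, hα⟩ := hsur (μ x)
  refine ⟨α, ?_, ?_⟩
  · rw [← Ideal.Quotient.eq]
    have h1 : σC (algebraMap A C α) = σC (μ x) := congrArg σC hα
    rw [σC.commutes, Ideal.Quotient.algebraMap_eq] at h1
    rw [h1, map_one]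
    show AdjoinRoot.liftAlgHom f (Algebra.ofId A (A ⧸ I)) 1 haux (AdjoinRoot.root f) = 1
    exact AdjoinRoot.liftAlgHom_root ..
  · show f.eval α = 0
    apply hinj
    rw [map_zero, ← Polynomial.aeval_algebraMap_apply_eq_algebraMap_eval, hα, Polynomial.aeval_algHom_apply,
      AdjoinRoot.aeval_eq, AdjoinRoot.mk_self, map_zero]

end HenselLib
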