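import Groth.Agent.HenselLib.Henselization
import Groth.Prelude.Def_Hensel

/-! Henselization and strict henselization of a local ring. -/

set_option autoImplicit false
universe u

noncomputable section

open IsLocalRing

namespace HenselLib

variable (R : Type u) [CommRing R] [IsLocalRing R]

/-- The henselization. -/
abbrev HR : Type u := Hens (R := R) (θ₀ := residue R) ker_residue

theorem hensθ_HR_surjective : Function.Surjective (hensθ (R := R) (θ₀ := residue R) ker_residue) := fun a => by
  obtain ⟨r, rfl⟩ := residue_surjective a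
  exact ⟨algebraMap R (HR R) r, by rw [← RingHom.comp_apply, hensθ_comp]⟩

theorem exists_sub_mem_max (z : HR R) : ∃ r : R, z - algebraMap R (HR R) r ∈ maximalIdeal (HR R) := by
  obtain ⟨r, hr⟩ := residue_surjective (hensθ (R := R) (θ₀ := residue R) ker_residue z)
  refine ⟨r, ?_⟩
  rw [← ker_hensθ, RingHom.mem_ker, map_sub, ← RingHom.comp_apply, hensθ_comp, hr, sub_self]

theorem residue_comp_eq {S T : Type u} [CommRing S] [IsLocalRing S] [Algebra R S] [CommRing T] [IsLocalRing T]
    (hmax : (maximalIdeal R).map (algebraMap R S) = maximalIdeal S)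
    (hres : ∀ z : S, ∃ r : R, z - algebraMap R S r ∈ maximalIdeal S)
    (f : R →+* T) [IsLocalHom f] (g : S →+* T) (hg : g.comp (algebraMap R S) = f) (z : S) (r : R)
    (hr : z - algebraMap R S r ∈ maximalIdeal S) : residue T (g z) = residue T (f r) := by
  have hle : maximalIdeal S ≤ (maximalIdeal T).comap g := by
    rw [← hmax, Ideal.map_le_iff_le_comap, Ideal.comap_comap, hg]
    exact fun x hx => map_nonunit f x hx
  rw [← sub_eq_zero, ← map_sub, residue_eq_zero_iff, ← hg, RingHom.comp_apply, ← map_sub]
  exact hle hr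

instance isHenselization_HR : Hensel.IsHenselization R (HR R) where
  henselian := henselianLocalRing_hens ker_residue
  universal T _ _ f hf := by
    haveI := hf
    let τ := ResidueField.map f
    obtain ⟨g, ⟨hg1, hg2⟩, hguniq⟩ := existsUnique_hens_lift (R := R) (θ₀ := residue R) ker_residue f τ
      (ResidueField.map_comp_residue f).symm
    refine ⟨g, hg1, fun g' hg' => hguniq g' ⟨hg', RingHom.ext fun z => ?_⟩⟩
    obtain ⟨r, hr⟩ := exists_sub_mem_max R z
    rw [RingHom.comp_apply, residue_comp_eq R (map_maximalIdeal_hens ker_residue) (exists_sub_mem_max R) f g' hg' z r hr]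
    rw [← ker_hensθ, RingHom.mem_ker, map_sub, sub_eq_zero] at hr
    rw [RingHom.comp_apply, hr, ← RingHom.comp_apply (hensθ ker_residue), hensθ_comp]
    rfl

variable {R}

/-- Henselizations are unique. -/
theorem nonempty_algEquiv_HR (S : Type u) [CommRing S] [IsLocalRing S] [Algebra R S] [IsLocalHom (algebraMap R S)]
    [hS : Hensel.IsHenselization R S] : Nonempty (HR R ≃ₐ[R] S) := by
  haveI := hS.henselian
  have hH : Hensel.IsHenselization R (HR R) := inferInstance
  obtain ⟨g, hg, -⟩ := hH.universal S (algebraMap R S) inferInstance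
  obtain ⟨h, hh, -⟩ := hS.universal (HR R) (algebraMap R (HR R)) inferInstance
  have h1 : h.comp g = RingHom.id _ := (hH.universal (HR R) (algebraMap R (HR R)) inferInstance).unique
    (by rw [RingHom.comp_assoc, hg, hh]) (RingHom.id_comp _)
  have h2 : g.comp h = RingHom.id _ := (hS.universal S (algebraMap R S) inferInstance).unique
    (by rw [RingHom.comp_assoc, hh, hg]) (RingHom.id_comp _)
  exact ⟨AlgEquiv.ofRingEquiv (f := RingEquiv.ofRingHom g h h2 h1) (fun r => RingHom.congr_fun hg r)⟩

variable (R)

/-- A separable closure of the residue field. -/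
abbrev SC : Type u := SeparableClosure (ResidueField R)

/-- The structure map to the separable closure. -/
abbrev scθ : R →+* SC R := (algebraMap (ResidueField R) (SC R)).comp (residue R)

theorem ker_scθ : RingHom.ker (scθ R) = maximalIdeal R := by
  rw [RingHom.ker_comp_of_injective _ (algebraMap (ResidueField R) (SC R)).injective, ker_residue]

/-- The strict henselization. -/
abbrev SH : Type u := Hens (R := R) (θ₀ := scθ R) (ker_scθ R)

theorem hensθ_SH_surjective : Function.Surjective (hensθ (ker_scθ R)) := fun a => by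
  have hint : IsIntegral (ResidueField R) a := Algebra.IsIntegral.isIntegral a
  obtain ⟨F, hF, -, hFm⟩ := Polynomial.lifts_and_natDegree_eq_and_monic
    (f := residue R) (p := minpoly (ResidueField R) a)
    (Polynomial.map_surjective _ residue_surjective _) (minpoly.monic hint)
  let i : Step.Idx (seq (ker_scθ R) 0).θ := ⟨(F, a), hFm, by
    show F.eval₂ (scθ R) a = 0
    rw [← Polynomial.eval₂_map, hF, ← Polynomial.aeval_def, minpoly.aeval], by
    show F.derivative.eval₂ (scθ R) a ≠ 0
    rw [← Polynomial.eval₂_map, ← Polynomial.derivative_map, hF, ← Polynomial.aeval_def]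
    exact (Algebra.IsSeparable.isSeparable (ResidueField R) a).aeval_derivative_ne_zero (minpoly.aeval _ _)⟩
  let r : G (ker_scθ R) 1 := Step.root (seq (ker_scθ R) 0).θ i
  exact ⟨of (ker_scθ R) 1 r, (hensθ_of (ker_scθ R) 1 r).trans (Step.nextθ_root (seq (ker_scθ R) 0).θ i)⟩

/-- The residue field of the strict henselization. -/
def residueEquivSC : ResidueField (SH R) ≃+* SC R :=
  (Ideal.quotEquivOfEq (ker_hensθ (ker_scθ R)).symm).trans (RingHom.quotientKerEquivOfSurjective (hensθ_SH_surjective R))

theorem residueEquivSC_residue (z : SH R) : residueEquivSC R (residue (SH R) z) = hensθ (ker_scθ R) z := rfl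

theorem residueEquivSC_map (x : ResidueField R) :
    residueEquivSC R (ResidueField.map (algebraMap R (SH R)) x) = algebraMap (ResidueField R) (SC R) x := by
  obtain ⟨r, rfl⟩ := residue_surjective x
  rw [ResidueField.map_residue, residueEquivSC_residue, ← RingHom.comp_apply, hensθ_comp]
  rfl

theorem isSepClosure_SH : IsSepClosure (ResidueField R) (ResidueField (SH R)) := by
  let e : SC R ≃ₐ[ResidueField R] ResidueField (SH R) :=
    AlgEquiv.ofRingEquiv (f := (residueEquivSC R).symm) fun x => by
      apply (residueEquivSC R).injective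
      rw [RingEquiv.apply_symm_apply]
      exact (residueEquivSC_map R x).symm
  haveI : IsSepClosed (SC R) := IsSepClosure.sep_closed (ResidueField R)
  refine ⟨IsSepClosed.of_exists_root _ fun p hp hirr hsep => ?_, AlgEquiv.Algebra.isSeparable e⟩
  let g : ResidueField (SH R) →+* SC R := (residueEquivSC R : ResidueField (SH R) →+* SC R)
  obtain ⟨y, hy⟩ := IsSepClosed.exists_root (p.map g)
    (by rw [Polynomial.degree_map]; exact (Polynomial.degree_pos_of_irreducible hirr).ne') hsep.map
  refine ⟨(residueEquivSC R).symm y, (residueEquivSC R).injective ?_⟩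
  rw [map_zero, ← hy.eq_zero]
  show g (Polynomial.eval _ p) = _
  rw [← Polynomial.eval_map_apply]
  exact congrArg (fun t => Polynomial.eval t (p.map g)) ((residueEquivSC R).apply_symm_apply y)

instance isStrictHenselization_SH : Hensel.IsStrictHenselization R (SH R) where
  henselian := henselianLocalRing_hens (ker_scθ R)
  isSepClosure := isSepClosure_SH R
  universal T _ _ f _ τ hτ := by
    let τ' : SC R →+* ResidueField T := τ.comp ((residueEquivSC R).symm : SC R →+* ResidueField (SH R))
    have hτ'θ : ∀ z, τ' (hensθ (ker_scθ R) z) = τ (residue (SH R) z) := fun z =>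
      congrArg τ (by rw [RingEquiv.coe_toRingHom, ← residueEquivSC_residue, RingEquiv.symm_apply_apply])
    obtain ⟨g, ⟨hg1, hg2⟩, hguniq⟩ := existsUnique_hens_lift (ker_scθ R) f τ' (RingHom.ext fun r => by
      simp only [RingHom.comp_apply]
      rw [show algebraMap (ResidueField R) (SC R) (residue R r) = hensθ (ker_scθ R) (algebraMap R (SH R) r) from
        (RingHom.congr_fun (hensθ_comp (ker_scθ R)) r).symm]
      show _ = τ' _
      rw [hτ'θ, ← ResidueField.map_residue (algebraMap R (SH R))]
      exact ((RingHom.congr_fun hτ (residue R r)).trans (ResidueField.map_residue f r)).symm)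
    refine ⟨g, ⟨hg1, fun z => (RingHom.congr_fun hg2 z).trans (hτ'θ z)⟩, fun g' ⟨h1, h2⟩ => ?_⟩
    exact hguniq g' ⟨h1, RingHom.ext fun z => (h2 z).trans (hτ'θ z).symm⟩

variable {R}

/-- Strict henselizations are unique. -/
theorem nonempty_algEquiv_SH (S : Type u) [CommRing S] [IsLocalRing S] [Algebra R S] [IsLocalHom (algebraMap R S)]
    [hS : Hensel.IsStrictHenselization R S] : Nonempty (SH R ≃ₐ[R] S) := by
  haveI := hS.henselian
  have hH : Hensel.IsStrictHenselization R (SH R) := inferInstance
  haveI := hH.isSepClosure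
  haveI := hS.isSepClosure
  let ε : ResidueField (SH R) ≃ₐ[ResidueField R] ResidueField S := IsSepClosure.equiv (ResidueField R) _ _
  obtain ⟨g, ⟨hg, hg'⟩, -⟩ := hH.universal S (algebraMap R S) (ε : ResidueField (SH R) →+* ResidueField S)
    (RingHom.ext fun x => ε.commutes x)
  obtain ⟨h, ⟨hh, hh'⟩, -⟩ := hS.universal (SH R) (algebraMap R (SH R))
    (ε.symm : ResidueField S →+* ResidueField (SH R)) (RingHom.ext fun x => ε.symm.commutes x)
  have hid : ∀ (X : Type u) [CommRing X] [IsLocalRing X] [Algebra R X] [IsLocalHom (algebraMap R X)],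
      (RingHom.id (ResidueField X)).comp (ResidueField.map (algebraMap R X)) = ResidueField.map (algebraMap R X) :=
    fun X _ _ _ _ => RingHom.id_comp _
  have h1 : h.comp g = RingHom.id _ := (hH.universal (SH R) (algebraMap R (SH R)) (RingHom.id _) (hid _)).unique
    ⟨by rw [RingHom.comp_assoc, hg, hh], fun x => by
      rw [RingHom.comp_apply, hh', hg']; exact ε.symm_apply_apply _⟩ ⟨RingHom.id_comp _, fun x => rfl⟩
  have h2 : g.comp h = RingHom.id _ := (hS.universal S (algebraMap R S) (RingHom.id _) (hid _)).unique
    ⟨by rw [RingHom.comp_assoc, hh, hg], fun x => by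
      rw [RingHom.comp_apply, hg', hh']; exact ε.apply_symm_apply _⟩ ⟨RingHom.id_comp _, fun x => rfl⟩
  exact ⟨AlgEquiv.ofRingEquiv (f := RingEquiv.ofRingHom g h h2 h1) (fun r => RingHom.congr_fun hg r)⟩

theorem faithfullyFlat_of_algEquiv {S S' : Type u} [CommRing S] [IsLocalRing S] [Algebra R S] [CommRing S']
    [Algebra R S'] [Module.Flat R S'] (e : S' ≃ₐ[R] S) [IsLocalHom (algebraMap R S)] :
    Module.FaithfullyFlat R S := by
  haveI : Module.Flat R S := Module.Flat.of_linearEquiv e.symm.toLinearEquiv
  exact Module.FaithfullyFlat.of_flat_of_isLocalHom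

theorem map_maximalIdeal_of_algEquiv {S S' : Type u} [CommRing S] [IsLocalRing S] [Algebra R S] [CommRing S']
    [IsLocalRing S'] [Algebra R S'] (e : S' ≃ₐ[R] S)
    (h : (maximalIdeal R).map (algebraMap R S') = maximalIdeal S') :
    (maximalIdeal R).map (algebraMap R S) = maximalIdeal S := by
  rw [← e.toAlgHom.comp_algebraMap, ← Ideal.map_map, h]
  exact IsLocalRing.eq_maximalIdeal ((Ideal.map_eq_top_or_isMaximal_of_surjective _ e.surjective
    (IsLocalRing.maximalIdeal.isMaximal S')).resolve_left fun htop => by
      have h2 := congrArg (Ideal.comap (e.toAlgHom : S' →+* S)) htop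
      erw [Ideal.comap_map_of_bijective _ e.bijective, Ideal.comap_top] at h2
      exact (maximalIdeal.isMaximal S').ne_top h2)

end HenselLib
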