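import Groth.Agent.HenselLib.HenselizationExists
import Mathlib.RingTheory.Etale.Basic
import Mathlib.RingTheory.Flat.Localization
import Mathlib.RingTheory.Smooth.Flat

/-! Ind-étale structure of henselizations. -/

set_option autoImplicit false
universe u

open TensorProduct

namespace HenselLib

variable {R : Type u} [CommRing R]

/-- Every element comes from an étale algebra. -/
def EtCov {S : Type u} [CommRing S] [Algebra R S] (x : S) : Prop :=
  ∃ (U : Type u) (_ : CommRing U) (_ : Algebra R U) (_ : Algebra.Etale R U) (ξ : U →ₐ[R] S), x ∈ ξ.range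

variable {S T : Type u} [CommRing S] [Algebra R S] [CommRing T] [Algebra R T]

/-- Finitely many covered elements lie in the image of one étale algebra. -/
theorem exists_etale_cover (s : Finset S) (hs : ∀ x ∈ s, EtCov (R := R) x) :
    ∃ (U : Type u) (_ : CommRing U) (_ : Algebra R U) (_ : Algebra.Etale R U) (ξ : U →ₐ[R] S),
      ∀ x ∈ s, x ∈ ξ.range := by
  classical
  induction s using Finset.induction_on with
  | empty => exact ⟨R, inferInstance, inferInstance, inferInstance, Algebra.ofId R S, by simp⟩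
  | @insert a s ha ih =>
    obtain ⟨U, _, _, _, ξ, hξ⟩ := ih fun x hx => hs x (Finset.mem_insert_of_mem hx)
    obtain ⟨V, _, _, _, η, hη⟩ := hs a (Finset.mem_insert_self _ _)
    haveI : Algebra.Etale R (U ⊗[R] V) := Algebra.Etale.comp R U (U ⊗[R] V)
    refine ⟨U ⊗[R] V, inferInstance, inferInstance, inferInstance,
      Algebra.TensorProduct.lift ξ η fun _ _ => Commute.all _ _, fun x hx => ?_⟩
    rcases Finset.mem_insert.1 hx with rfl | hx
    · obtain ⟨v, rfl⟩ := hη
      exact ⟨1 ⊗ₜ v, by simp⟩
    · obtain ⟨v, rfl⟩ := hξ x hx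
      exact ⟨v ⊗ₜ 1, by simp⟩

variable (R S) in
/-- The elements that come from étale algebras. -/
def etCovSubalgebra : Subalgebra R S where
  carrier := {x | EtCov (R := R) x}
  add_mem' {a b} ha hb := by
    classical
    obtain ⟨U, _, _, _, ξ, hξ⟩ := exists_etale_cover {a, b} (by simp; exact ⟨ha, hb⟩)
    exact ⟨U, _, _, inferInstance, ξ, add_mem (hξ a (by simp)) (hξ b (by simp))⟩
  mul_mem' {a b} ha hb := by
    classical
    obtain ⟨U, _, _, _, ξ, hξ⟩ := exists_etale_cover {a, b} (by simp; exact ⟨ha, hb⟩)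
    exact ⟨U, _, _, inferInstance, ξ, mul_mem (hξ a (by simp)) (hξ b (by simp))⟩
  algebraMap_mem' r := ⟨R, _, _, inferInstance, Algebra.ofId R S, ⟨r, rfl⟩⟩

theorem EtCov.map {x : S} (h : EtCov (R := R) x) (f : S →ₐ[R] T) : EtCov (R := R) (f x) := by
  obtain ⟨U, _, _, _, ξ, u, rfl⟩ := h
  exact ⟨U, _, _, inferInstance, f.comp ξ, u, rfl⟩

theorem EtCov.inv {x y : S} (h : EtCov (R := R) x) (hxy : x * y = 1) : EtCov (R := R) y := by
  obtain ⟨U, _, _, _, ξ, u, rfl⟩ := h
  have hu : IsUnit (ξ u) := IsUnit.of_mul_eq_one y hxy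
  haveI : Algebra.Etale R (Localization.Away u) := Algebra.Etale.comp R U (Localization.Away u)
  let ξ' : Localization.Away u →ₐ[R] S := IsLocalization.Away.liftAlgHom u (f := ξ) hu
  refine ⟨Localization.Away u, _, _, inferInstance, ξ', IsLocalization.Away.invSelf u, ?_⟩
  refine hu.mul_left_cancel ?_
  show ξ u * ξ' _ = ξ u * y
  rw [show ξ u * y = 1 from hxy,
    show ξ u = ξ' (algebraMap U (Localization.Away u) u) by simp [ξ'], ← map_mul,
    IsLocalization.Away.mul_invSelf, map_one]

namespace Step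

variable {A : Type u} [CommRing A] [IsLocalRing A] [Algebra R A] {Ω : Type u} [Field Ω] (θ : A →+* Ω)

theorem etCov_next (hA : ∀ a : A, EtCov (R := R) a) (x : Next θ) : EtCov (R := R) x := by
  classical
  let ι : A →ₐ[R] Next θ := IsScalarTower.toAlgHom R A (Next θ)
  have hroot : ∀ i : Idx θ, root θ i ∈ etCovSubalgebra R (Next θ) := fun i => by
    obtain ⟨U, _, _, _, ξ, hξ⟩ := exists_etale_cover
      ((Finset.range i.1.1.natDegree).image fun j => i.1.1.coeff j) fun a _ => hA a
    have hc : ∀ j, ∃ u : U, j < i.1.1.natDegree → ξ u = i.1.1.coeff j := fun j => by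
      by_cases hj : j < i.1.1.natDegree
      · obtain ⟨u, hu⟩ := hξ _ (Finset.mem_image_of_mem _ (Finset.mem_range.2 hj))
        exact ⟨u, fun _ => hu⟩
      · exact ⟨0, fun h => absurd h hj⟩
    choose c hc using hc
    let F : Polynomial U := Polynomial.X ^ i.1.1.natDegree +
      ∑ j ∈ Finset.range i.1.1.natDegree, Polynomial.C (c j) * Polynomial.X ^ j
    have hF : F.Monic := by
      refine Polynomial.monic_X_pow_add ((Polynomial.degree_sum_le _ _).trans_lt
        ((Finset.sup_lt_iff (WithBot.bot_lt_coe _)).2 fun j hj => ?_))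
      exact (Polynomial.degree_C_mul_X_pow_le _ _).trans_lt (by exact_mod_cast Finset.mem_range.1 hj)
    have hFf : F.map (ξ : U →+* A) = i.1.1 := by
      conv_rhs => rw [i.2.1.as_sum]
      simp only [F, Polynomial.map_add, Polynomial.map_pow, Polynomial.map_X, Polynomial.map_sum,
        Polynomial.map_mul, Polynomial.map_C]
      congr 1
      exact Finset.sum_congr rfl fun j hj => by
        rw [show ((ξ : U →+* A)) (c j) = i.1.1.coeff j from hc j (Finset.mem_range.1 hj)]
    letI : Algebra U (Next θ) := ((ι.comp ξ : U →ₐ[R] Next θ) : U →+* Next θ).toAlgebra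
    haveI : IsScalarTower R U (Next θ) := IsScalarTower.of_algebraMap_eq fun r => ((ι.comp ξ).commutes r).symm
    let P := rootPair F hF
    have hev : ∀ G : Polynomial U, Polynomial.aeval (root θ i) G =
        Polynomial.aeval (root θ i) (G.map (ξ : U →+* A)) := fun G => by
      simp only [Polynomial.aeval_def, Polynomial.eval₂_map]
      rfl
    have hm : P.HasMap (root θ i) := by
      refine ⟨?_, ?_⟩
      · rw [show P.f = F from rfl, hev, hFf]
        exact aeval_root θ i
      · rw [show P.g = Polynomial.derivative F from rfl, hev, ← Polynomial.derivative_map, hFf]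
        exact isUnit_derivative_root θ i
    letI : Algebra R P.Ring := ((algebraMap U P.Ring).comp (algebraMap R U)).toAlgebra
    haveI : IsScalarTower R U P.Ring := IsScalarTower.of_algebraMap_eq' rfl
    haveI : Algebra.Etale R P.Ring := Algebra.Etale.comp R U P.Ring
    exact ⟨P.Ring, _, _, inferInstance, (P.lift _ hm).restrictScalars R, P.X, P.lift_X _ hm⟩
  have hbase : ∀ a : A, algebraMap A (Next θ) a ∈ etCovSubalgebra R (Next θ) := fun a => by
    obtain ⟨U, _, _, _, ξ, u, rfl⟩ := hA a
    exact ⟨U, _, _, inferInstance, ι.comp ξ, u, rfl⟩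
  have hπ : ∀ P, π θ P ∈ etCovSubalgebra R (Next θ) := fun P => by
    induction P using MvPolynomial.induction_on with
    | C a => rw [← MvPolynomial.algebraMap_eq, AlgHom.commutes]; exact hbase a
    | add p q hp hq => rw [map_add]; exact add_mem hp hq
    | mul_X p i hp => rw [map_mul, π_X]; exact mul_mem hp (hroot i)
  obtain ⟨P, Q, hQ, hx⟩ := exists_rep θ x
  obtain ⟨v, hv⟩ := hQ
  have h1 : (↑v⁻¹ : Next θ) ∈ etCovSubalgebra R (Next θ) :=
    EtCov.inv (S := Next θ) (x := π θ Q) (hπ Q) (by rw [← hv]; exact Units.mul_inv v)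
  have : x = π θ P * ↑v⁻¹ := by rw [← hx, ← hv, mul_assoc, Units.mul_inv, mul_one]
  rw [this]
  exact mul_mem (hπ P) h1

end Step

variable [IsLocalRing R] {Ω : Type u} [Field Ω] {θ₀ : R →+* Ω} (hθ₀ : RingHom.ker θ₀ = IsLocalRing.maximalIdeal R)

theorem etCov_hens (z : Hens hθ₀) : EtCov (R := R) z := by
  obtain ⟨n, x, rfl⟩ := exists_of hθ₀ z
  refine EtCov.map ?_ _
  induction n with
  | zero => exact ⟨R, _, _, inferInstance, Algebra.ofId R _, x, rfl⟩
  | succ n ih => exact Step.etCov_next (R := R) (seq hθ₀ n).θ ih x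

end HenselLib
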