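import Groth.Agent.HenselLib.Perm

/-! Henselian local rings. -/

set_option autoImplicit false
universe u v

noncomputable section

open Polynomial Ideal TensorProduct

namespace HenselLib

theorem henselianLocalRing_of_henselianRing {R : Type u} [CommRing R] [IsLocalRing R]
    [HenselianRing R (IsLocalRing.maximalIdeal R)] : HenselianLocalRing R where
  is_henselian f hf a₀ h₁ h₂ :=
    HenselianRing.is_henselian (I := IsLocalRing.maximalIdeal R) f hf a₀ h₁ (h₂.map _)

variable {A : Type u} [CommRing A] {I : Ideal A}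

/-- A linear coprime factor gives a root. -/
theorem root_of_factor (hI : I ≤ Ideal.jacobson ⊥) {f g h : A[X]} (hf : f.Monic) (hgh : f = g * h) (a₀ : A)
    (hg : g.map (Ideal.Quotient.mk I) = X - C (Ideal.Quotient.mk I a₀))
    (hc : IsCoprime (g.map (Ideal.Quotient.mk I)) (h.map (Ideal.Quotient.mk I))) :
    ∃ a, f.IsRoot a ∧ a - a₀ ∈ I := by
  classical
  haveI := hf.finite_adjoinRoot
  haveI := hf.free_adjoinRoot
  let B := AdjoinRoot f
  let x : B := AdjoinRoot.root f
  let IB := I.map (algebraMap A B)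
  have hgB : aeval x g * aeval x h = 0 := by
    rw [← map_mul, ← hgh, AdjoinRoot.aeval_eq, AdjoinRoot.mk_self]
  obtain ⟨u, v, huv⟩ := hc
  obtain ⟨u, rfl⟩ := Polynomial.map_surjective _ Ideal.Quotient.mk_surjective u
  obtain ⟨v, rfl⟩ := Polynomial.map_surjective _ Ideal.Quotient.mk_surjective v
  have hcoeff : ∀ F : A[X], F.map (Ideal.Quotient.mk I) = 0 → ∀ {T : Type u} [CommRing T] [Algebra A T] (t : T),
      aeval t F ∈ I.map (algebraMap A T) := by
    intro F hF T _ _ t
    rw [aeval_eq_sum_range]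
    refine sum_mem fun i _ => ?_
    rw [Algebra.smul_def]
    refine (I.map _).mul_mem_right _ (Ideal.mem_map_of_mem _ ?_)
    rw [← Ideal.Quotient.eq_zero_iff_mem, ← coeff_map, hF, coeff_zero]
  obtain ⟨w, hw⟩ : IsUnit (aeval x u * aeval x g + aeval x v * aeval x h) := by
    refine isUnit_of_sub_mem (map_le_jacobson_bot (B := B) hI) isUnit_one ?_
    have := hcoeff (u * g + v * h - 1) (by simp [huv]) x
    simpa using this
  let e : B := ↑w⁻¹ * (aeval x u * aeval x g)
  have hge : aeval x g * e = aeval x g := by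
    calc aeval x g * e = ↑w⁻¹ * ((aeval x u * aeval x g + aeval x v * aeval x h) * aeval x g) := by
          show aeval x g * (↑w⁻¹ * (aeval x u * aeval x g)) = _
          linear_combination (-(↑w⁻¹ : B) * aeval x v) * hgB
      _ = aeval x g := by rw [← hw, Units.inv_mul_cancel_left]
  let P : Ideal B := Ideal.span {aeval x g}
  haveI : Module.Flat A (B ⧸ P) := by
    haveI : Module.Flat B (B ⧸ P) := Ideal.Pure.of_isIdempotentElem ⟨{aeval x g}, by simp [P]⟩ (by
      refine le_antisymm Ideal.mul_le_right ?_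
      rw [Ideal.span_le, Set.singleton_subset_iff]
      rw [← hge]
      refine Ideal.mul_mem_mul (Ideal.mem_span_singleton_self _) ?_
      exact Ideal.mem_span_singleton'.2 ⟨↑w⁻¹ * aeval x u, mul_assoc _ _ _⟩)
    exact Module.Flat.trans A B (B ⧸ P)
  let μ : B →ₐ[A] B ⧸ P := Ideal.Quotient.mkₐ A P
  have hx1 : μ x - algebraMap A _ a₀ ∈ I.map (algebraMap A (B ⧸ P)) := by
    have h1 := hcoeff (g - (X - C a₀)) (by simp [hg]) (μ x)
    rw [map_sub, Polynomial.aeval_algHom_apply,
      show μ (aeval x g) = 0 from Ideal.Quotient.eq_zero_iff_mem.2 (Ideal.mem_span_singleton_self _), zero_sub,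
      map_sub, aeval_X, aeval_C] at h1
    exact neg_mem_iff.1 h1
  have hsur : Function.Surjective (algebraMap A (B ⧸ P)) := surjective_algebraMap_of_le hI fun z => by
    obtain ⟨z, rfl⟩ := Ideal.Quotient.mk_surjective z
    obtain ⟨F, rfl⟩ := AdjoinRoot.mk_surjective z
    refine ⟨F.eval a₀, ?_⟩
    show μ (AdjoinRoot.mk f F) - _ ∈ _
    rw [← AdjoinRoot.aeval_eq, ← Polynomial.aeval_algHom_apply, ← Polynomial.aeval_algebraMap_apply_eq_algebraMap_eval]
    exact Ideal.mem_of_dvd _ (sub_dvd_eval_sub (μ x) (algebraMap A _ a₀) (F.map (algebraMap A (B ⧸ P))) |> fun d => by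
      simpa [eval_map_algebraMap] using d) hx1
  let q₀ := Ideal.Quotient.mk I a₀
  have hev : ∀ F : A[X], aeval q₀ F = (F.map (Ideal.Quotient.mk I)).eval q₀ := fun F => by
    rw [aeval_def, eval₂_eq_eval_map]; rfl
  have haux : eval₂ (Algebra.ofId A (A ⧸ I) : A →+* A ⧸ I) q₀ f = 0 := by
    show aeval q₀ f = 0
    rw [hev, hgh, Polynomial.map_mul, eval_mul, hg]
    simp [q₀]
  let ψ := AdjoinRoot.liftAlgHom f (Algebra.ofId A (A ⧸ I)) q₀ haux
  have hψx : ψ x = q₀ := AdjoinRoot.liftAlgHom_root ..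
  let σ : B ⧸ P →ₐ[A] A ⧸ I := Ideal.Quotient.liftₐ P ψ (fun z hz => by
    obtain ⟨c, rfl⟩ := Ideal.mem_span_singleton.1 hz
    rw [map_mul, ← Polynomial.aeval_algHom_apply, hψx, hev, hg]
    simp [q₀])
  have hker : RingHom.ker (algebraMap A (B ⧸ P)) ≤ I := fun a ha => by
    have := σ.commutes a
    rw [show algebraMap A (B ⧸ P) a = 0 from ha, map_zero] at this
    exact Ideal.Quotient.eq_zero_iff_mem.1 this.symm
  obtain ⟨α, hα⟩ := hsur (μ x)
  refine ⟨α, ?_, ?_⟩
  · apply injective_algebraMap_of_flat hI hsur hker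
    rw [map_zero, ← Polynomial.aeval_algebraMap_apply_eq_algebraMap_eval, hα, Polynomial.aeval_algHom_apply,
      AdjoinRoot.aeval_eq, AdjoinRoot.mk_self, map_zero]
  · rw [← Ideal.Quotient.eq]
    have h1 : σ (algebraMap A (B ⧸ P) α) = σ (μ x) := congrArg σ hα
    rw [σ.commutes, Ideal.Quotient.algebraMap_eq] at h1
    rw [h1]
    exact hψx

/-- Simple roots of arbitrary polynomials lift. -/
theorem exists_root_lift [HenselianRing A I] (f : A[X]) (a₀ : A) (h₁ : f.eval a₀ ∈ I)
    (h₂ : IsUnit (Ideal.Quotient.mk I (f.derivative.eval a₀))) : ∃ a, f.IsRoot a ∧ a - a₀ ∈ I := by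
  classical
  let F := taylor a₀ f
  let N := f.natDegree + 1
  have hF : F.natDegree = f.natDegree := natDegree_taylor f a₀
  have hc0 : F.coeff 0 = f.eval a₀ := taylor_coeff_zero a₀ f
  have hc1 : F.coeff 1 = f.derivative.eval a₀ := taylor_coeff_one a₀ f
  let G : A[X] := X ^ N + ∑ k ∈ Finset.range N, C (F.coeff (k + 1) * F.coeff 0 ^ k) * X ^ (N - 1 - k)
  have hG : G.Monic := by
    refine monic_X_pow_add ((degree_sum_le _ _).trans_lt ((Finset.sup_lt_iff (WithBot.bot_lt_coe _)).2 fun k _ => ?_))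
    exact (degree_C_mul_X_pow_le _ _).trans_lt (by exact_mod_cast (show N - 1 - k < N by omega))
  let π := Ideal.Quotient.mk I
  have hGπ : G.map π = X ^ (N - 1) * (X + C (π (F.coeff 1))) := by
    have hN : 0 < N := Nat.succ_pos _
    simp only [G, Polynomial.map_add, Polynomial.map_pow, map_X, Polynomial.map_sum, Polynomial.map_mul, map_C]
    rw [Finset.sum_eq_single 0 (fun k _ hk => by
      have : π (F.coeff (k + 1) * F.coeff 0 ^ k) = 0 := Ideal.Quotient.eq_zero_iff_mem.2
        (I.mul_mem_left _ (Ideal.pow_mem_of_mem _ (hc0 ▸ h₁) k (Nat.pos_of_ne_zero hk)))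
      rw [this, map_zero, zero_mul]) (fun h => absurd (Finset.mem_range.2 hN) h)]
    simp only [pow_zero, mul_one, zero_add, Nat.sub_zero]
    rw [mul_add, ← pow_succ, show N - 1 + 1 = N by omega, mul_comm]
  have := isLocalHom_of_le_jacobson_bot I (HenselianRing.jac (I := I))
  have hu1 : IsUnit (F.coeff 1) := hc1 ▸ IsUnit.of_map π _ h₂
  obtain ⟨w, hw, hw'⟩ := HenselianRing.is_henselian (I := I) G hG (-F.coeff 1)
    (by rw [← Ideal.Quotient.eq_zero_iff_mem, ← eval_map_apply]; simp [hGπ, π])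
    (by
      rw [← eval_map_apply, ← derivative_map, hGπ, derivative_mul]
      simpa [π] using (hu1.map π).neg.pow (N - 1))
  obtain ⟨wu, rfl⟩ : IsUnit w := isUnit_of_sub_mem (HenselianRing.jac (I := I)) hu1.neg hw'
  have hy : F.eval (F.coeff 0 * ↑wu⁻¹) = 0 := by
    rw [eval_eq_sum_range' (show F.natDegree < N + 1 by omega), Finset.sum_range_succ', pow_zero, mul_one]
    have hsum : (↑wu : A) ^ N + ∑ k ∈ Finset.range N, F.coeff (k + 1) * F.coeff 0 ^ k * (↑wu : A) ^ (N - 1 - k) = 0 := by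
      have : G.eval (↑wu : A) = 0 := hw
      simpa [G, eval_finset_sum] using this
    have hterm : ∀ k ∈ Finset.range N, F.coeff (k + 1) * (F.coeff 0 * ↑wu⁻¹) ^ (k + 1) =
        F.coeff 0 * (↑wu⁻¹ : A) ^ N * (F.coeff (k + 1) * F.coeff 0 ^ k * (↑wu : A) ^ (N - 1 - k)) := by
      intro k hk
      have hkN := Finset.mem_range.1 hk
      obtain ⟨d, hd⟩ := Nat.exists_eq_add_of_le (show k + 1 ≤ N from hkN)
      rw [hd, show k + 1 + d - 1 - k = d by omega, pow_add, mul_pow]
      have : (↑wu⁻¹ : A) ^ d * (↑wu : A) ^ d = 1 := by rw [← mul_pow, Units.inv_mul, one_pow]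
      linear_combination (-(F.coeff (k + 1)) * F.coeff 0 ^ (k + 1) * (↑wu⁻¹ : A) ^ (k + 1)) * this
    rw [Finset.sum_congr rfl hterm, ← Finset.mul_sum]
    have : (↑wu⁻¹ : A) ^ N * (↑wu : A) ^ N = 1 := by rw [← mul_pow, Units.inv_mul, one_pow]
    linear_combination (F.coeff 0 * (↑wu⁻¹ : A) ^ N) * hsum - F.coeff 0 * this
  refine ⟨F.coeff 0 * ↑wu⁻¹ + a₀, ?_, ?_⟩
  · show f.eval _ = 0
    rw [← taylor_eval]; exact hy
  · rw [add_sub_cancel_right, hc0]
    exact I.mul_mem_right _ h₁

/-- The unique section of an étale algebra over a Henselian local ring with given residual point. -/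
theorem existsUnique_algHom {R : Type u} [CommRing R] {S : Type u} [CommRing S] [HenselianLocalRing S] [Algebra R S]
    {B : Type u} [CommRing B] [Algebra R B] [Algebra.Etale R B] (θ : B →+* IsLocalRing.ResidueField S)
    (hθ : θ.comp (algebraMap R B) = (IsLocalRing.residue S).comp (algebraMap R S)) :
    ∃! f : B →ₐ[R] S, ∀ b, IsLocalRing.residue S (f b) = θ b := by
  let θ₀ : B →+* S ⧸ IsLocalRing.maximalIdeal S := θ
  let θ' : B →ₐ[R] S ⧸ IsLocalRing.maximalIdeal S := { θ₀ with commutes' := fun r => RingHom.congr_fun hθ r }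
  let σ : S ⊗[R] B →ₐ[S] S ⧸ IsLocalRing.maximalIdeal S :=
    Algebra.TensorProduct.lift (Ideal.Quotient.mkₐ S (IsLocalRing.maximalIdeal S)) θ' fun _ _ => .all _ _
  obtain ⟨τ, hτ⟩ := etaleLifts_of_henselianRing (I := IsLocalRing.maximalIdeal S) _ σ
  let f := (τ.restrictScalars R).comp Algebra.TensorProduct.includeRight
  have hf : ∀ b, IsLocalRing.residue S (f b) = θ b := fun b => by
    have h1 := DFunLike.congr_fun hτ ((1 : S) ⊗ₜ[R] b)
    have h2 : σ ((1 : S) ⊗ₜ[R] b) = θ b := by
      rw [show σ ((1 : S) ⊗ₜ[R] b) = (Ideal.Quotient.mkₐ S (IsLocalRing.maximalIdeal S)) 1 * θ' b from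
        Algebra.TensorProduct.lift_tmul _ _ _ _ _, map_one, one_mul]
      rfl
    rw [← h2, ← h1]
    rfl
  refine ⟨f, hf, fun g hg => ?_⟩
  refine algHom_ext_of_sub_mem (J := IsLocalRing.maximalIdeal S)
    (HenselianRing.jac (I := IsLocalRing.maximalIdeal S)) g f fun b => ?_
  rw [← IsLocalRing.residue_eq_zero_iff, map_sub, hg, hf, sub_self]

/-- Étale retractions give the Henselian property. -/
theorem henselianLocalRing_of_retraction {R : Type u} [CommRing R] [IsLocalRing R]
    (h : ∀ (S : Type u) [CommRing S] [Algebra R S] [Algebra.Etale R S] (q : Ideal S) [q.IsPrime],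
      q.LiesOver (IsLocalRing.maximalIdeal R) → Function.Surjective (algebraMap R q.ResidueField) →
      Nonempty (S →ₐ[R] R)) :
    HenselianLocalRing R where
  is_henselian f hf a₀ h₁ h₂ := by
    let m := IsLocalRing.maximalIdeal R
    let q₀ := f /ₘ (X - C a₀)
    have hfq : f = (X - C a₀) * q₀ + C (f.eval a₀) := by
      have := modByMonic_add_div f (X - C a₀)
      rw [modByMonic_X_sub_C_eq_C_eval] at this
      linear_combination -this
    have hq : q₀.eval a₀ = f.derivative.eval a₀ := by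
      rw [congrArg derivative hfq]
      simp
    let P : StandardEtalePair R :=
      { f := f, monic_f := hf, g := derivative f * q₀, cond := ⟨q₀, 0, 1, by ring⟩ }
    have hev : ∀ F : R[X], aeval (IsLocalRing.residue R a₀) F = IsLocalRing.residue R (F.eval a₀) := fun F => by
      rw [← IsLocalRing.ResidueField.algebraMap_eq, aeval_algebraMap_apply_eq_algebraMap_eval]
    have hm : P.HasMap (IsLocalRing.residue R a₀) := by
      refine ⟨?_, ?_⟩
      · rw [hev, IsLocalRing.residue_eq_zero_iff]; exact h₁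
      · rw [hev, eval_mul, hq]
        exact ((h₂.mul h₂).map _)
    let θ := P.lift _ hm
    let q := RingHom.ker θ
    haveI : q.IsPrime := RingHom.ker_isPrime _
    haveI hover : q.LiesOver m := ⟨by
      show m = RingHom.ker ((θ : P.Ring →+* IsLocalRing.ResidueField R).comp (algebraMap R P.Ring))
      rw [θ.comp_algebraMap]
      exact IsLocalRing.ker_residue.symm⟩
    have hsur : Function.Surjective (algebraMap R q.ResidueField) := by
      intro z
      obtain ⟨y, ⟨s, hs⟩, rfl⟩ := IsLocalization.exists_mk'_eq (nonZeroDivisors (P.Ring ⧸ q)) z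
      obtain ⟨y, rfl⟩ := Ideal.Quotient.mk_surjective y
      obtain ⟨s, rfl⟩ := Ideal.Quotient.mk_surjective s
      have hs0 : θ s ≠ 0 := fun h0 => nonZeroDivisors.ne_zero hs (Ideal.Quotient.eq_zero_iff_mem.2 h0)
      obtain ⟨ry, hry⟩ := IsLocalRing.residue_surjective (θ y)
      obtain ⟨rs, hrs⟩ := IsLocalRing.residue_surjective (θ s)
      have hu : IsUnit rs := (IsLocalRing.residue_ne_zero_iff_isUnit rs).1 (hrs ▸ hs0)
      refine ⟨ry * ↑hu.unit⁻¹, ?_⟩
      rw [IsLocalization.eq_mk'_iff_mul_eq, IsScalarTower.algebraMap_apply R (P.Ring ⧸ q) q.ResidueField, ← map_mul]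
      refine congrArg _ ?_
      rw [IsScalarTower.algebraMap_apply R P.Ring (P.Ring ⧸ q), Ideal.Quotient.algebraMap_eq, ← map_mul,
        Ideal.Quotient.eq]
      show θ _ = 0
      have hcom : ∀ r, θ (algebraMap R P.Ring r) = IsLocalRing.residue R r := fun r => θ.commutes r
      rw [map_sub, map_mul, hcom, ← hry, ← hrs, ← map_mul, mul_assoc, IsUnit.val_inv_mul, mul_one, sub_self]
    obtain ⟨τ⟩ := h P.Ring q hover hsur
    obtain ⟨hroot, hunit⟩ := (StandardEtalePair.hasMap_X (P := P)).map τ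
    refine ⟨τ P.X, by simpa [coe_aeval_eq_eval] using hroot, ?_⟩
    have hu : IsUnit (q₀.eval (τ P.X)) := by
      rw [show P.g = derivative f * q₀ from rfl, coe_aeval_eq_eval, eval_mul] at hunit
      exact isUnit_of_mul_isUnit_right hunit
    have h0 : (τ P.X - a₀) * q₀.eval (τ P.X) + f.eval a₀ = 0 := by
      have : f.eval (τ P.X) = 0 := by simpa [coe_aeval_eq_eval] using hroot
      rw [congrArg (eval (τ P.X)) hfq] at this
      simpa using this
    rw [← Ideal.mul_unit_mem_iff_mem _ hu, eq_neg_of_add_eq_zero_left h0]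
    exact neg_mem h₁

theorem exists_idem_eq_of_pi {ι : Type u} {L : ι → Type u} [∀ i, CommRing (L i)] (hL : ∀ i, IsLocalRing (L i))
    {B : Type u} [CommRing B] (e : B ≃+* ∀ i, L i) (b : B) :
    ∃ d w : B, IsIdempotentElem d ∧ d - b = (b * b - b) * w := by
  have key : ∀ i, ∃ d w : L i, IsIdempotentElem d ∧ d - e b i = (e b i * e b i - e b i) * w := fun i => by
    haveI := hL i
    rcases IsLocalRing.isUnit_or_isUnit_one_sub_self (e b i) with h | h
    · refine ⟨1, -↑h.unit⁻¹, IsIdempotentElem.one, ?_⟩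
      have h1 := h.mul_val_inv
      linear_combination (e b i - 1) * h1
    · refine ⟨0, ↑h.unit⁻¹, IsIdempotentElem.zero, ?_⟩
      have h1 := h.mul_val_inv
      linear_combination (e b i) * h1
  choose d w hd hdw using key
  refine ⟨e.symm d, e.symm w, (show IsIdempotentElem d from funext hd).map e.symm, e.injective ?_⟩
  rw [map_sub, map_mul, map_sub, map_mul, RingEquiv.apply_symm_apply, RingEquiv.apply_symm_apply]
  exact funext hdw

/-- Finite algebras over a Henselian local ring are products of local rings. -/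
theorem exists_pi_local {R : Type u} [CommRing R] [HenselianLocalRing R] (B : Type u) [CommRing B] [Algebra R B]
    [Module.Finite R B] :
    ∃ (ι : Type u) (_ : Fintype ι) (L : ι → Type u) (_ : ∀ i, CommRing (L i)),
      (∀ i, IsLocalRing (L i)) ∧ Nonempty (B ≃+* ∀ i, L i) := by
  classical
  let m := IsLocalRing.maximalIdeal R
  let mB := m.map (algebraMap R B)
  haveI hH : HenselianRing B mB := henselianRing_map_of_isIntegral (I := m)
  haveI hHr : HenselianRing B mB.radical := henselianRing_of_le_radical (J := mB) le_rfl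
  haveI : Finite (MaximalSpectrum B) := by
    letI : Field (R ⧸ m) := Ideal.Quotient.field m
    haveI : Module.Finite (R ⧸ m) (B ⧸ mB) := Module.Finite.of_restrictScalars_finite R _ _
    haveI : IsArtinianRing (B ⧸ mB) := IsArtinianRing.of_finite (R ⧸ m) _
    refine Finite.of_injective (fun M : MaximalSpectrum B => (⟨M.asIdeal.map (Ideal.Quotient.mk mB), ?_⟩ : MaximalSpectrum (B ⧸ mB))) ?_
    · haveI := M.isMaximal
      refine (Ideal.map_eq_top_or_isMaximal_of_surjective _ Ideal.Quotient.mk_surjective M.isMaximal).resolve_left fun h => ?_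
      have h2 := congrArg (Ideal.comap (Ideal.Quotient.mk mB)) h
      rw [Ideal.comap_map_of_surjective _ Ideal.Quotient.mk_surjective, ← RingHom.ker_eq_comap_bot, Ideal.mk_ker,
        Ideal.comap_top, sup_eq_left.2 ((HenselianRing.jac (I := mB)).trans (sInf_le ⟨bot_le, M.isMaximal⟩))] at h2
      exact M.isMaximal.ne_top h2
    · intro M M' h
      have h1 := congrArg (fun N : MaximalSpectrum (B ⧸ mB) => N.asIdeal.comap (Ideal.Quotient.mk mB)) h
      have hle : ∀ N : MaximalSpectrum B, mB ≤ N.asIdeal := fun N =>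
        (HenselianRing.jac (I := mB)).trans (sInf_le ⟨bot_le, N.isMaximal⟩)
      simp only [Ideal.comap_map_of_surjective _ Ideal.Quotient.mk_surjective, ← RingHom.ker_eq_comap_bot,
        Ideal.mk_ker, sup_eq_left.2 (hle M), sup_eq_left.2 (hle M')] at h1
      exact MaximalSpectrum.ext h1
  haveI : Fintype (MaximalSpectrum B) := Fintype.ofFinite _
  let J : Ideal B := ⨅ M : MaximalSpectrum B, M.asIdeal
  have hJ : J ≤ mB.radical := by
    rw [Ideal.radical_eq_sInf]
    refine le_sInf fun P ⟨hP, hPp⟩ => ?_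
    haveI := hPp
    have hPm : P.comap (algebraMap R B) = m :=
      ((IsLocalRing.maximalIdeal.isMaximal R).eq_of_le (Ideal.IsPrime.comap _).ne_top
        (Ideal.map_le_iff_le_comap.1 hP)).symm
    haveI : (P.comap (algebraMap R B)).IsMaximal := hPm ▸ IsLocalRing.maximalIdeal.isMaximal R
    exact iInf_le (fun M : MaximalSpectrum B => M.asIdeal)
      ⟨P, Ideal.isMaximal_of_isIntegral_of_isMaximal_comap P ‹_›⟩
  haveI hHJ : HenselianRing B J := henselianRing_of_le hJ
  let χ := Ideal.quotientInfRingEquivPiQuotient (fun M : MaximalSpectrum B => M.asIdeal) fun M M' h =>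
    Ideal.isCoprime_iff_sup_eq.2 (M.isMaximal.coprime_of_ne M'.isMaximal fun h' => h (MaximalSpectrum.ext h'))
  have hex : ∀ M : MaximalSpectrum B, ∃ d : B, IsIdempotentElem d ∧
      ∀ N : MaximalSpectrum B, Ideal.Quotient.mk N.asIdeal d = if N = M then 1 else 0 := fun M => by
    obtain ⟨b, hb⟩ := Ideal.Quotient.mk_surjective (χ.symm fun N => if N = M then 1 else 0)
    have hbN : ∀ N : MaximalSpectrum B, Ideal.Quotient.mk N.asIdeal b = if N = M then 1 else 0 := fun N => by
      have := congrFun (congrArg χ hb) N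
      rw [RingEquiv.apply_symm_apply] at this
      exact this
    obtain ⟨d, hd, hdb⟩ := exists_idempotent_lift (I := J) (B := B) b (by
      rw [Algebra.algebraMap_self, Ideal.map_id, Ideal.mem_iInf]
      intro N
      rw [← Ideal.Quotient.eq_zero_iff_mem, map_sub, map_mul, hbN]
      split_ifs <;> simp)
    rw [Algebra.algebraMap_self, Ideal.map_id, Ideal.mem_iInf] at hdb
    exact ⟨d, hd, fun N => (Ideal.Quotient.eq.2 (hdb N)).trans (hbN N)⟩
  choose d hd hdN using hex
  have huniq : ∀ {a b : B}, IsIdempotentElem a → IsIdempotentElem b →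
      (∀ N : MaximalSpectrum B, Ideal.Quotient.mk N.asIdeal a = Ideal.Quotient.mk N.asIdeal b) → a = b :=
    fun ha hb h => idem_eq_of_sub_mem (hHJ.jac) ha hb (Ideal.mem_iInf.2 fun N => Ideal.Quotient.eq.1 (h N))
  have horth : OrthogonalIdempotents d := ⟨hd, fun M M' hne => huniq ((hd M).mul (hd M')) IsIdempotentElem.zero
    fun N => by
      rw [map_mul, hdN, hdN, map_zero]
      split_ifs with h1 h2 <;> first | exact absurd (h1.symm.trans h2) hne | simp⟩
  have hco : CompleteOrthogonalIdempotents d := ⟨horth, huniq horth.isIdempotentElem_sum IsIdempotentElem.one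
    fun N => by simp [hdN]⟩
  refine ⟨MaximalSpectrum B, inferInstance, fun M => B ⧸ Ideal.span {1 - d M}, inferInstance, fun M => ?_,
    ⟨RingEquiv.ofBijective _ hco.bijective_pi⟩⟩
  have hle : Ideal.span {1 - d M} ≤ M.asIdeal := by
    rw [Ideal.span_le, Set.singleton_subset_iff]
    exact Ideal.Quotient.eq.1 (by rw [hdN, if_pos rfl, map_one])
  haveI : Nontrivial (B ⧸ Ideal.span {1 - d M}) := Ideal.Quotient.nontrivial_iff.2
    fun h => M.isMaximal.ne_top (top_le_iff.1 (h ▸ hle))
  refine IsLocalRing.of_unique_max_ideal ⟨M.asIdeal.map (Ideal.Quotient.mk _), ?_, fun N hN => ?_⟩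
  · refine (Ideal.map_eq_top_or_isMaximal_of_surjective _ Ideal.Quotient.mk_surjective M.isMaximal).resolve_left fun h => ?_
    have h2 := congrArg (Ideal.comap (Ideal.Quotient.mk (Ideal.span {1 - d M}))) h
    rw [Ideal.comap_map_of_surjective _ Ideal.Quotient.mk_surjective, ← RingHom.ker_eq_comap_bot, Ideal.mk_ker,
      Ideal.comap_top, sup_eq_left.2 hle] at h2
    exact M.isMaximal.ne_top h2
  · let N' : MaximalSpectrum B := ⟨N.comap (Ideal.Quotient.mk _),
      Ideal.comap_isMaximal_of_surjective _ Ideal.Quotient.mk_surjective⟩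
    have hN' : N' = M := by
      by_contra hne
      have h1 : Ideal.Quotient.mk N'.asIdeal (1 - d M) = 0 := Ideal.Quotient.eq_zero_iff_mem.2 (by
        show Ideal.Quotient.mk _ (1 - d M) ∈ N
        rw [Ideal.Quotient.eq_zero_iff_mem.2 (Ideal.mem_span_singleton_self _)]
        exact zero_mem _)
      rw [map_sub, map_one, hdN, if_neg hne, sub_zero] at h1
      haveI := Ideal.Quotient.nontrivial_iff.2 N'.isMaximal.ne_top
      exact one_ne_zero h1
    rw [show M.asIdeal = N'.asIdeal from congrArg MaximalSpectrum.asIdeal hN'.symm]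
    exact (Ideal.map_comap_of_surjective _ Ideal.Quotient.mk_surjective N).symm

/-- Homomorphisms of finite étale algebras are detected modulo `I`. -/
theorem bijective_baseChange_hom [HenselianRing A I] (B₁ B₂ : Type u) [CommRing B₁] [CommRing B₂] [Algebra A B₁]
    [Algebra A B₂] [Algebra.Etale A B₁] [Module.Finite A B₂] :
    Function.Bijective (fun φ : B₁ →ₐ[A] B₂ =>
      Algebra.TensorProduct.map (AlgHom.id (A ⧸ I) (A ⧸ I)) φ) := by
  let J := I.map (algebraMap A B₂)
  haveI : HenselianRing B₂ J := henselianRing_map_of_isIntegral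
  let ψ : (A ⧸ I) ⊗[A] B₂ →ₐ[A] B₂ ⧸ J := Algebra.TensorProduct.lift
    (Ideal.Quotient.liftₐ I (Algebra.ofId A (B₂ ⧸ J)) fun a ha =>
      Ideal.Quotient.eq_zero_iff_mem.2 (Ideal.mem_map_of_mem _ ha))
    (Ideal.Quotient.mkₐ A J) fun _ _ => .all _ _
  let ψ' : B₂ ⧸ J →ₐ[A] (A ⧸ I) ⊗[A] B₂ := Ideal.Quotient.liftₐ J Algebra.TensorProduct.includeRight
    (fun z hz => by
      have : J ≤ RingHom.ker (Algebra.TensorProduct.includeRight : B₂ →ₐ[A] (A ⧸ I) ⊗[A] B₂) :=
        Ideal.map_le_iff_le_comap.2 fun a ha => by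
          show Algebra.TensorProduct.includeRight (algebraMap A B₂ a) = 0
          rw [AlgHom.commutes, IsScalarTower.algebraMap_apply A (A ⧸ I) ((A ⧸ I) ⊗[A] B₂), Ideal.Quotient.algebraMap_eq,
            Ideal.Quotient.eq_zero_iff_mem.2 ha, map_zero]
      exact this hz)
  have hψ1 : ∀ b : B₂, ψ ((1 : A ⧸ I) ⊗ₜ[A] b) = Ideal.Quotient.mk J b := fun b => by simp [ψ]
  have hψ2 : ∀ b : B₂, ψ' (Ideal.Quotient.mk J b) = (1 : A ⧸ I) ⊗ₜ[A] b := fun b => rfl
  constructor
  · intro φ φ' h
    refine algHom_ext_of_sub_mem (J := J) HenselianRing.jac φ φ' fun x => ?_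
    have h1 := congrArg ψ (DFunLike.congr_fun h ((1 : A ⧸ I) ⊗ₜ[A] x))
    rw [← Ideal.Quotient.eq]
    simpa [hψ1] using h1
  · intro Φ
    let σ : B₂ ⊗[A] B₁ →ₐ[B₂] B₂ ⧸ J := Algebra.TensorProduct.lift (Ideal.Quotient.mkₐ B₂ J)
      (ψ.comp ((Φ.restrictScalars A).comp Algebra.TensorProduct.includeRight)) fun _ _ => .all _ _
    obtain ⟨τ, hτ⟩ := etaleLifts_of_henselianRing (I := J) _ σ
    refine ⟨(τ.restrictScalars A).comp Algebra.TensorProduct.includeRight, Algebra.TensorProduct.ext (by ext) ?_⟩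
    ext b
    have hb : Ideal.Quotient.mk J (τ ((1 : B₂) ⊗ₜ[A] b)) = ψ (Φ ((1 : A ⧸ I) ⊗ₜ[A] b)) := by
      have h1 := DFunLike.congr_fun hτ ((1 : B₂) ⊗ₜ[A] b)
      simpa [σ] using h1
    have hinv : ∀ z, ψ' (ψ z) = z := by
      intro z
      induction z using TensorProduct.induction_on with
      | zero => simp
      | tmul a c =>
        obtain ⟨a, rfl⟩ := Ideal.Quotient.mk_surjective a
        have : (Ideal.Quotient.mk I a) ⊗ₜ[A] c = algebraMap A ((A ⧸ I) ⊗[A] B₂) a * ((1 : A ⧸ I) ⊗ₜ[A] c) := by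
          rw [Algebra.TensorProduct.algebraMap_apply, Algebra.TensorProduct.tmul_mul_tmul, one_mul, mul_one,
            Ideal.Quotient.algebraMap_eq]
        rw [this, map_mul, map_mul, AlgHom.commutes, AlgHom.commutes, hψ1, hψ2]
      | add x y hx hy => rw [map_add, map_add, hx, hy]
    simpa [hψ2, hinv] using congrArg ψ' hb

end HenselLib
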