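import Groth.Agent.HenselLib.Local
import Groth.Agent.UFinLib.Model
import Mathlib.RingTheory.Localization.Away.Lemmas

/-! Finite parts of finite type algebras over henselian pairs. -/

set_option autoImplicit false
universe u

open scoped TensorProduct

namespace HenselLib

variable {A B : Type u} [CommRing A] [CommRing B] [Algebra A B]

theorem exists_idem_finite {I : Ideal A} [HenselianRing A I] [Algebra.FiniteType A B] [Algebra.QuasiFinite A B]
    [Module.Finite A (B ⧸ I.map (algebraMap A B))] :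
    ∃ e : B, IsIdempotentElem e ∧ e - 1 ∈ I.map (algebraMap A B) ∧
      Module.Finite A (B ⧸ Ideal.span ({1 - e} : Set B)) := by
  classical
  obtain ⟨S, t, hS, htS, htop, hsurj⟩ := UFinLib.exists_finite_subalgebra A B
  let IB := I.map (algebraMap A B)
  let IS := I.map (algebraMap A S)
  obtain ⟨gens, hgens⟩ := Module.finite_def.1 (inferInstance : Module.Finite A (B ⧸ IB))
  choose lift hlift using fun x : B ⧸ IB => Ideal.Quotient.mk_surjective x
  choose ex hex using hsurj
  let tS : Finset S := t.attach.image fun r => ⟨r.1, htS r.2⟩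
  have hmul : ∀ (r : B) (hr : r ∈ t) (b : B) (n : ℕ), ex r hr b ≤ n → r ^ n * b ∈ S := fun r hr b n hn => by
    obtain ⟨k, rfl⟩ := Nat.exists_eq_add_of_le hn
    rw [pow_add, mul_comm (r ^ _) (r ^ k), mul_assoc]
    exact mul_mem (pow_mem (htS hr) _) (hex r hr b)
  let N := t.attach.sup fun r => gens.sup fun x => ex r.1 r.2 (lift x)
  have hN : ∀ (r : B), r ∈ t → ∀ b : B, ∃ s ∈ S, r ^ N * b - s ∈ IB := fun r hr b => by
    have hb : Ideal.Quotient.mk IB b ∈ Submodule.span A (gens : Set (B ⧸ IB)) := hgens ▸ Submodule.mem_top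
    obtain ⟨c, -, hc⟩ := Submodule.mem_span_finset.1 hb
    refine ⟨∑ x ∈ gens, c x • (r ^ N * lift x), sum_mem fun x hx => S.smul_mem (hmul r hr _ N ?_) _, ?_⟩
    · exact le_trans (Finset.le_sup (f := fun x => ex r hr (lift x)) hx)
        (Finset.le_sup (f := fun r : {x // x ∈ t} => gens.sup fun x => ex r.1 r.2 (lift x)) (Finset.mem_attach _ ⟨r, hr⟩))
    · rw [← Ideal.Quotient.eq, map_mul, ← hc, Finset.mul_sum, map_sum]
      refine Finset.sum_congr rfl fun x _ => ?_
      rw [← Ideal.Quotient.mkₐ_eq_mk A, map_smul, map_mul, mul_smul_comm]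
      simp only [Ideal.Quotient.mkₐ_eq_mk, hlift]
  have hNtop : Ideal.span ((fun r : B => r ^ N) '' (t : Set B)) = ⊤ := Ideal.span_pow_eq_top _ htop N
  let Jc : Ideal B :=
    { carrier := {c | ∀ b, ∃ s : S, c * b - (s : B) ∈ IB}
      add_mem' := fun {c d} hc hd b => by
        obtain ⟨s, hs⟩ := hc b
        obtain ⟨s', hs'⟩ := hd b
        exact ⟨s + s', by push_cast; rw [add_mul, add_sub_add_comm]; exact add_mem hs hs'⟩
      zero_mem' := fun b => ⟨0, by simp⟩
      smul_mem' := fun a c hc b => by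
        obtain ⟨s, hs⟩ := hc (a * b)
        exact ⟨s, by rwa [smul_eq_mul, mul_assoc, mul_left_comm]⟩ }
  have hsurjS : ∀ b : B, ∃ s : S, b - (s : B) ∈ IB := fun b => by
    have h1 : Ideal.span ((fun r : B => r ^ N) '' (t : Set B)) ≤ Jc := Ideal.span_le.2 fun x hx b => by
      obtain ⟨r, hr, rfl⟩ := hx
      obtain ⟨s, hs, hs'⟩ := hN r hr b
      exact ⟨⟨s, hs⟩, hs'⟩
    rw [hNtop] at h1
    obtain ⟨s, hs⟩ := h1 (Submodule.mem_top (x := (1 : B))) b
    exact ⟨s, by rwa [one_mul] at hs⟩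
  obtain ⟨c, -, hc⟩ := Submodule.mem_span_finset.1 (show (1 : B) ∈ Submodule.span B (t : Set B) by
    have : (1 : B) ∈ Ideal.span (t : Set B) := htop ▸ Submodule.mem_top
    exact this)
  choose sc hsc using fun r : B => hsurjS (c r)
  let k : S := ∑ r ∈ t.attach, sc r.1 * ⟨r.1, htS r.2⟩
  let K : Ideal S := Ideal.span (tS : Set S)
  have hkK : k ∈ K := sum_mem fun r _ => Ideal.mul_mem_left _ _
    (Ideal.subset_span (Finset.mem_image_of_mem (fun r : {x // x ∈ t} => (⟨r.1, htS r.2⟩ : S)) (Finset.mem_attach _ r)))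
  have hk : (1 : B) - (k : B) ∈ IB := by
    have : (k : B) = ∑ r ∈ t.attach, (sc r.1 : B) * r.1 := by simp [k]
    rw [this, ← hc, ← Finset.sum_attach, ← Finset.sum_sub_distrib]
    refine sum_mem fun r _ => ?_
    rw [smul_eq_mul, ← sub_mul]
    exact Ideal.mul_mem_right _ _ (hsc _)
  have hkill : ∀ x ∈ IB, ∀ r : B, r ∈ t → ∃ M : ℕ, ∃ y ∈ IS, (y : B) = r ^ M * x := fun x hx r hr => by
    have hup : ∀ {M : ℕ} {y : S} (j : ℕ), y ∈ IS → (⟨r, htS hr⟩ : S) ^ j * y ∈ IS := fun j hy => Ideal.mul_mem_left _ _ hy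
    induction hx using Submodule.span_induction with
    | mem x hx =>
      obtain ⟨a, ha, rfl⟩ := hx
      exact ⟨0, algebraMap A S a, Ideal.mem_map_of_mem _ ha, by simp⟩
    | zero => exact ⟨0, 0, zero_mem _, by simp⟩
    | add x y _ _ hx hy =>
      obtain ⟨M, u, hu, hux⟩ := hx
      obtain ⟨M', v, hv, hvy⟩ := hy
      refine ⟨M + M', (⟨r, htS hr⟩ : S) ^ M' * u + (⟨r, htS hr⟩ : S) ^ M * v,
        add_mem (hup (M := M) M' hu) (hup (M := M) M hv), ?_⟩
      push_cast [hux, hvy]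
      ring
    | smul b x _ hx =>
      obtain ⟨M, u, hu, hux⟩ := hx
      refine ⟨ex r hr b + M, ⟨_, hex r hr b⟩ * u, Ideal.mul_mem_left _ _ hu, ?_⟩
      push_cast [hux]
      rw [smul_eq_mul]; ring
  choose! M y hy hy' using hkill _ hk
  let M₀ := t.sup M
  let J : Ideal S := Ideal.span ((fun r : S => r ^ M₀) '' (tS : Set S))
  have hJk : J * Ideal.span {1 - k} ≤ IS := by
    rw [Ideal.span_mul_span', Ideal.span_le]
    rintro _ ⟨_, ⟨r, hr, rfl⟩, _, rfl, rfl⟩
    obtain ⟨r, -, rfl⟩ := Finset.mem_image.1 hr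
    obtain ⟨j, hj⟩ := Nat.exists_eq_add_of_le (Finset.le_sup (f := M) r.2)
    have : (⟨r.1, htS r.2⟩ : S) ^ M₀ * (1 - k) = (⟨r.1, htS r.2⟩ : S) ^ j * y r.1 := Subtype.ext (by
      push_cast [hy' r.1 r.2]
      rw [show M₀ = M r.1 + j from hj, pow_add]; ring)
    show (⟨r.1, htS r.2⟩ : S) ^ M₀ * (1 - k) ∈ IS
    rw [this]
    exact Ideal.mul_mem_left _ _ (hy r.1 r.2)
  have hrad : K ≤ J.radical := Ideal.span_le.2 fun r hr => ⟨M₀, Ideal.subset_span ⟨r, hr, rfl⟩⟩
  obtain ⟨L, hL⟩ := Ideal.exists_pow_le_of_le_radical_of_fg hrad ⟨tS, rfl⟩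
  have hkL : k ^ L * (1 - k) ∈ IS := hJk (Ideal.mul_mem_mul (hL (Ideal.pow_mem_pow hkK L)) (Ideal.mem_span_singleton_self _))
  have hidem : k ^ L * k ^ L - k ^ L ∈ IS := by
    obtain ⟨g, hg⟩ := sub_dvd_pow_sub_pow (1 : S) k L
    rw [one_pow] at hg
    rw [show k ^ L * k ^ L - k ^ L = -(k ^ L * (1 - k) * g) by linear_combination (-k ^ L) * hg]
    exact neg_mem (Ideal.mul_mem_right _ _ hkL)
  haveI := hS
  obtain ⟨e, he, hek⟩ := exists_idempotent_lift (k ^ L) hidem
  have hval : ∀ z ∈ IS, (z : B) ∈ IB := fun z hz => by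
    have h := Ideal.mem_map_of_mem (S.val : S →+* B) hz
    rwa [Ideal.map_map, S.val.comp_algebraMap] at h
  have he1 : (e : B) - 1 ∈ IB := by
    have h1 := hval _ hek
    have h2 : (k : B) ^ L - 1 ∈ IB := by
      obtain ⟨g, hg⟩ := sub_dvd_pow_sub_pow (k : B) 1 L
      rw [one_pow] at hg
      rw [hg, ← neg_sub (1 : B)]
      exact Ideal.mul_mem_right _ _ (neg_mem hk)
    push_cast at h1
    simpa using add_mem h1 h2
  refine ⟨e, congrArg Subtype.val he.eq, he1, ?_⟩
  have hL0 : k ^ L ∈ K ∨ L = 0 := by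
    rcases Nat.eq_zero_or_pos L with h | h
    · exact Or.inr h
    · exact Or.inl (Ideal.pow_mem_of_mem K hkK L h)
  have htopS : K ⊔ Ideal.span {1 - e} = ⊤ := by
    have hjac : IS ≤ Ideal.jacobson ⊥ := map_le_jacobson_bot (HenselianRing.jac (I := I))
    have hek' : e * (1 - k) ∈ IS := by
      rw [show e * (1 - k) = (e - k ^ L) * (1 - k) + k ^ L * (1 - k) by ring]
      exact add_mem (Ideal.mul_mem_right _ _ hek) hkL
    have hu : IsUnit (k * e + (1 - e)) := isUnit_of_sub_mem hjac isUnit_one (by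
      rw [show k * e + (1 - e) - 1 = -(e * (1 - k)) by ring]
      exact neg_mem hek')
    exact Ideal.eq_top_of_isUnit_mem _ (Submodule.add_mem_sup (Ideal.mul_mem_right _ _ hkK) (Ideal.mem_span_singleton_self _)) hu
  let π : S →ₐ[A] B ⧸ Ideal.span ({1 - (e : B)} : Set B) := (Ideal.Quotient.mkₐ A _).comp S.val
  refine Module.Finite.of_surjective π.toLinearMap fun x => ?_
  obtain ⟨b, rfl⟩ := Ideal.Quotient.mk_surjective x
  let Jb : Ideal S :=
    { carrier := {s | Ideal.Quotient.mk (Ideal.span ({1 - (e : B)} : Set B)) ((s : B) * b) ∈ π.range}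
      add_mem' := fun {a c} ha hc => by
        show Ideal.Quotient.mk _ (((a + c : S) : B) * b) ∈ π.range
        push_cast
        rw [add_mul, map_add]; exact add_mem ha hc
      zero_mem' := by
        show Ideal.Quotient.mk _ (((0 : S) : B) * b) ∈ π.range
        push_cast; rw [zero_mul, map_zero]; exact zero_mem _
      smul_mem' := fun a s hs => by
        show Ideal.Quotient.mk _ (((a • s : S) : B) * b) ∈ π.range
        rw [smul_eq_mul]; push_cast
        rw [mul_assoc, map_mul]; exact mul_mem ⟨a, rfl⟩ hs }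
  have hrad' : K ⊔ Ideal.span {1 - e} ≤ Jb.radical := by
    refine sup_le (Ideal.span_le.2 fun r hr => ?_) (Ideal.span_le.2 fun r hr => ?_)
    · obtain ⟨r, -, rfl⟩ := Finset.mem_image.1 hr
      refine ⟨ex r.1 r.2 b, ?_⟩
      show Ideal.Quotient.mk _ ((((⟨r.1, htS r.2⟩ : S) ^ ex r.1 r.2 b : S) : B) * b) ∈ π.range
      push_cast
      exact ⟨⟨_, hex r.1 r.2 b⟩, rfl⟩
    · rw [Set.mem_singleton_iff] at hr
      subst hr
      refine Ideal.le_radical ?_
      show Ideal.Quotient.mk _ (((1 - e : S) : B) * b) ∈ π.range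
      push_cast
      rw [Ideal.Quotient.eq_zero_iff_mem.2 (Ideal.mul_mem_right _ _ (Ideal.mem_span_singleton_self _))]
      exact zero_mem _
  rw [htopS, top_le_iff, Ideal.radical_eq_top] at hrad'
  have h1 : (1 : S) ∈ Jb := hrad' ▸ Submodule.mem_top
  obtain ⟨s, hs⟩ : Ideal.Quotient.mk _ (((1 : S) : B) * b) ∈ π.range := h1
  exact ⟨s, by simpa using hs⟩

theorem exists_finite_subalgebra_of [Algebra.FiniteType A B] (t : Finset B) (hint : ∀ r ∈ t, IsIntegral A r)
    (hpow : ∀ r ∈ t, ∀ x : B, ∃ m : ℕ, IsIntegral A (r ^ m * x)) :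
    ∃ S : Subalgebra A B, Module.Finite A S ∧ (t : Set B) ⊆ S ∧ ∀ r ∈ t, ∀ b : B, ∃ n : ℕ, r ^ n * b ∈ S := by
  classical
  obtain ⟨gen, hgen⟩ := Algebra.FiniteType.out (R := A) (A := B)
  choose! m hm using hpow
  let T : Set B := (t : Set B) ∪ (fun q : B × B => q.1 ^ m q.1 q.2 * q.2) '' (t ×ˢ gen : Finset (B × B))
  have hTfin : T.Finite := t.finite_toSet.union ((Finset.finite_toSet _).image _)
  let S := Algebra.adjoin A T
  refine ⟨S, ⟨(Submodule.fg_top _).mpr (fg_adjoin_of_finite hTfin ?_)⟩, fun x hx => Algebra.subset_adjoin (Or.inl hx), ?_⟩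
  · rintro x (hx | ⟨q, hq, rfl⟩)
    · exact hint x hx
    · exact hm q.1 (Finset.mem_product.1 hq).1 q.2
  · intro r hr b
    have hrS : r ∈ S := Algebra.subset_adjoin (Or.inl hr)
    have hb : b ∈ Algebra.adjoin A (gen : Set B) := by rw [hgen]; trivial
    induction hb using Algebra.adjoin_induction with
    | mem y hy => exact ⟨m r y, Algebra.subset_adjoin (Or.inr ⟨(r, y), Finset.mem_product.2 ⟨hr, hy⟩, rfl⟩)⟩
    | algebraMap a => exact ⟨0, by simpa using S.algebraMap_mem a⟩
    | add y z _ _ hy hz =>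
      obtain ⟨i, hi⟩ := hy
      obtain ⟨j, hj⟩ := hz
      refine ⟨i + j, ?_⟩
      rw [show r ^ (i + j) * (y + z) = r ^ j * (r ^ i * y) + r ^ i * (r ^ j * z) by ring]
      exact add_mem (mul_mem (pow_mem hrS _) hi) (mul_mem (pow_mem hrS _) hj)
    | mul y z _ _ hy hz =>
      obtain ⟨i, hi⟩ := hy
      obtain ⟨j, hj⟩ := hz
      refine ⟨i + j, ?_⟩
      rw [show r ^ (i + j) * (y * z) = (r ^ i * y) * (r ^ j * z) by ring]
      exact mul_mem hi hj

theorem quasiFiniteAt_of_quotient_idem {e : B} (he : IsIdempotentElem e) (q : Ideal (B ⧸ Ideal.span ({e} : Set B)))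
    [q.IsPrime] [Algebra.QuasiFiniteAt A q] :
    Algebra.QuasiFiniteAt A (q.comap (Ideal.Quotient.mk (Ideal.span ({e} : Set B)))) := by
  let Q := B ⧸ Ideal.span ({e} : Set B)
  let q₀ := q.comap (algebraMap B Q)
  haveI : IsLocalization.Away (1 - e) Q := IsLocalization.away_of_isIdempotentElem he.one_sub
    (by rw [sub_sub_cancel]; exact Ideal.mk_ker) Ideal.Quotient.mk_surjective
  haveI : IsLocalization.AtPrime (Localization.AtPrime q) q₀ :=
    IsLocalization.isLocalization_isLocalization_atPrime_isLocalization (Submonoid.powers (1 - e)) (Localization.AtPrime q) q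
  exact (Algebra.QuasiFinite.iff_of_algEquiv
    ((IsLocalization.algEquiv q₀.primeCompl (Localization.AtPrime q₀) (Localization.AtPrime q)).restrictScalars A)).2
    (inferInstance : Algebra.QuasiFinite A (Localization.AtPrime q))

theorem exists_idem_quasiFinite [HenselianLocalRing A] [Algebra.FiniteType A B] :
    ∃ e : B, IsIdempotentElem e ∧ Module.Finite A (B ⧸ Ideal.span ({1 - e} : Set B)) ∧
      ∀ (q : Ideal (B ⧸ Ideal.span ({e} : Set B))) [q.IsPrime],
        q.LiesOver (IsLocalRing.maximalIdeal A) → ¬ Algebra.QuasiFiniteAt A q := by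
  classical
  let m := IsLocalRing.maximalIdeal A
  let mB := m.map (algebraMap A B)
  let G : Set B := {r | IsIntegral A r ∧ ∀ x, ∃ n : ℕ, IsIntegral A (r ^ n * x)}
  letI : Field (A ⧸ m) := Ideal.Quotient.field m
  haveI : Algebra.FiniteType (A ⧸ m) (B ⧸ mB) := Algebra.FiniteType.of_restrictScalars_finiteType A (A ⧸ m) (B ⧸ mB)
  haveI : IsNoetherianRing (B ⧸ mB) := Algebra.FiniteType.isNoetherianRing (A ⧸ m) (B ⧸ mB)
  obtain ⟨t', ht'G, ht'⟩ := (Submodule.fg_span_iff_fg_span_finset_subset (R := B ⧸ mB) (Ideal.Quotient.mk mB '' G)).1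
    (IsNoetherian.noetherian _)
  choose g hgG hg using fun x : t' => ht'G x.2
  let t : Finset B := Finset.univ.image g
  have htG : ∀ r ∈ t, r ∈ G := fun r hr => by
    obtain ⟨x, -, rfl⟩ := Finset.mem_image.1 hr
    exact hgG x
  have hsep : ∀ (q : Ideal B) [q.IsPrime], mB ≤ q → Algebra.QuasiFiniteAt A q → ∃ r ∈ t, r ∉ q := fun q _ hmq hq => by
    by_contra hc
    push_neg at hc
    obtain ⟨r, hr, hri, hrx⟩ := Algebra.zariskisMainProperty_iff.mp (Algebra.ZariskisMainProperty.of_finiteType (R := A) q)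
    have h1 : Ideal.Quotient.mk mB r ∈ Ideal.span (t' : Set (B ⧸ mB)) :=
      ht'.le (Submodule.subset_span ⟨r, ⟨hri, hrx⟩, rfl⟩)
    have h2 : Ideal.span (t' : Set (B ⧸ mB)) ≤ q.map (Ideal.Quotient.mk mB) := Ideal.span_le.2 fun x hx => by
      rw [show x = Ideal.Quotient.mk mB (g ⟨x, hx⟩) from (hg ⟨x, hx⟩).symm]
      exact Ideal.mem_map_of_mem _ (hc _ (Finset.mem_image_of_mem g (Finset.mem_univ _)))
    exact hr (by
      have := h2 h1
      rwa [← Ideal.mem_comap, Ideal.comap_map_of_surjective _ Ideal.Quotient.mk_surjective, ← RingHom.ker_eq_comap_bot,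
        Ideal.mk_ker, sup_eq_left.2 hmq] at this)
  obtain ⟨S, hS, htS, hex⟩ := exists_finite_subalgebra_of t (fun r hr => (htG r hr).1) (fun r hr => (htG r hr).2)
  haveI := hS
  obtain ⟨ι, _, L, _, hL, ⟨ε⟩⟩ := exists_pi_local (R := A) S
  let δ : ι → S := fun i => ε.symm (Pi.single i 1)
  let good : Finset ι := Finset.univ.filter fun i => ∃ r : S, (r : B) ∈ t ∧ IsUnit (ε r i)
  let e : S := ∑ i ∈ good, δ i
  have hεe : ∀ i, ε e i = if i ∈ good then 1 else 0 := fun i => by
    simp only [e, δ, map_sum, RingEquiv.apply_symm_apply, Finset.sum_apply, Finset.sum_pi_single]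
  have he : IsIdempotentElem e := ε.injective (funext fun i => by
    rw [map_mul, Pi.mul_apply, hεe]; split_ifs <;> simp)
  have heS : ∀ b : B, (e : B) * b ∈ S := fun b => by
    have : (e : B) = ∑ i ∈ good, (δ i : B) := by simp [e]
    rw [this, Finset.sum_mul]
    refine sum_mem fun i hi => ?_
    obtain ⟨r, hr, hu⟩ := (Finset.mem_filter.1 hi).2
    obtain ⟨v, hv⟩ := hu
    obtain ⟨n, hn⟩ := hex _ hr b
    let u : S := ε.symm (Pi.single i (↑v⁻¹ : L i))
    have hur : δ i = δ i * (u * r) ^ n := ε.injective (funext fun j => by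
      simp only [δ, u, map_mul, map_pow, RingEquiv.apply_symm_apply, Pi.mul_apply, Pi.pow_apply]
      rcases eq_or_ne j i with rfl | hne
      · rw [Pi.single_eq_same, Pi.single_eq_same, ← hv, Units.inv_mul, one_pow, mul_one]
      · rw [Pi.single_eq_of_ne hne, zero_mul])
    rw [hur]
    push_cast
    rw [mul_pow, ← mul_assoc, mul_assoc]
    exact mul_mem (mul_mem (δ i).2 (pow_mem u.2 n)) hn
  refine ⟨e, congrArg Subtype.val he.eq, ?_, fun q _ hq hqf => ?_⟩
  · refine Module.Finite.of_surjective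
      (((Ideal.Quotient.mkₐ A (Ideal.span ({1 - (e : B)} : Set B))).comp S.val).toLinearMap) fun x => ?_
    obtain ⟨b, rfl⟩ := Ideal.Quotient.mk_surjective x
    refine ⟨⟨_, heS b⟩, ?_⟩
    show Ideal.Quotient.mk _ ((e : B) * b) = Ideal.Quotient.mk _ b
    rw [Ideal.Quotient.eq, show (e : B) * b - b = -(b * (1 - (e : B))) by ring]
    exact neg_mem (Ideal.mul_mem_left _ _ (Ideal.mem_span_singleton_self _))
  · let q₀ := q.comap (Ideal.Quotient.mk (Ideal.span ({(e : B)} : Set B)))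
    have he' : IsIdempotentElem (e : B) := congrArg Subtype.val he.eq
    haveI : Algebra.QuasiFiniteAt A q₀ := quasiFiniteAt_of_quotient_idem he' q
    have hm : q₀.comap (algebraMap A B) = m := by
      rw [Ideal.comap_comap]; exact hq.over.symm
    obtain ⟨r, hrt, hr⟩ := hsep q₀ (Ideal.map_le_iff_le_comap.2 hm.ge) inferInstance
    let n := q₀.comap (S.val : S →+* B)
    haveI hnmax : n.IsMaximal := Ideal.isMaximal_of_isIntegral_of_isMaximal_comap (R := A) n (by
      rw [Ideal.comap_comap, S.val.comp_algebraMap, hm]; exact IsLocalRing.maximalIdeal.isMaximal A)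
    have hen : e ∈ n := by
      show (e : B) ∈ q₀
      rw [Ideal.mem_comap, Ideal.Quotient.eq_zero_iff_mem.2 (Ideal.mem_span_singleton_self _)]
      exact zero_mem _
    obtain ⟨i, hi⟩ : ∃ i, δ i ∉ n := by
      by_contra hc
      push_neg at hc
      refine hnmax.ne_top ((Ideal.eq_top_iff_one _).2 ?_)
      have : (1 : S) = ∑ i, δ i := ε.injective (funext fun j => by simp [δ, Finset.sum_apply])
      rw [this]
      exact sum_mem fun i _ => hc i
    have hig : i ∉ good := fun hg => hi (by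
      have : δ i = δ i * e := ε.injective (funext fun j => by
        rw [map_mul, Pi.mul_apply, hεe]
        simp only [δ, RingEquiv.apply_symm_apply]
        rcases eq_or_ne j i with rfl | hne
        · rw [if_pos hg, mul_one]
        · rw [Pi.single_eq_of_ne hne, zero_mul])
      rw [this]; exact Ideal.mul_mem_left _ _ hen)
    have hrn : (⟨r, htS hrt⟩ : S) ∉ n := hr
    obtain ⟨c, a, ha, hca⟩ := hnmax.exists_inv hrn
    haveI := hL i
    have hnu : ¬ IsUnit (ε ⟨r, htS hrt⟩ i) := fun hu => hig (Finset.mem_filter.2 ⟨Finset.mem_univ _, _, hrt, hu⟩)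
    have h1 : IsUnit (ε a i) := by
      refine (IsLocalRing.isUnit_or_isUnit_of_add_one (a := ε (c * ⟨r, htS hrt⟩) i) (b := ε a i)
        (by rw [← Pi.add_apply, ← map_add, hca, map_one, Pi.one_apply])).resolve_left fun h => hnu ?_
      rw [map_mul, Pi.mul_apply] at h
      exact isUnit_of_mul_isUnit_right h
    obtain ⟨v, hv⟩ := h1
    refine hi ?_
    have : δ i = ε.symm (Pi.single i (↑v⁻¹ : L i)) * a := ε.injective (funext fun j => by
      simp only [δ, map_mul, RingEquiv.apply_symm_apply, Pi.mul_apply]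
      rcases eq_or_ne j i with rfl | hne
      · rw [Pi.single_eq_same, Pi.single_eq_same, ← hv, Units.inv_mul]
      · rw [Pi.single_eq_of_ne hne, Pi.single_eq_of_ne hne, zero_mul])
    rw [this]; exact Ideal.mul_mem_left _ _ ha

end HenselLib
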