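import Groth.Agent.HenselLib.NewtonSystem
import Groth.Agent.HenselLib.FiniteDecomp
import Mathlib.RingTheory.Smooth.StandardSmoothOfFree
import Mathlib.RingTheory.Etale.QuasiFinite

/-! Lifting (finite) étale algebras along ideals and henselian pairs. -/

set_option autoImplicit false
universe u

open TensorProduct

namespace HenselLib

variable {A : Type u} [CommRing A] (I : Ideal A) (C : Type u) [CommRing C] [Algebra A C] [Algebra (A ⧸ I) C]
  [IsScalarTower A (A ⧸ I) C]

/-- Étale algebras lift along any ideal. -/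
theorem exists_etale_lift [Algebra.Etale (A ⧸ I) C] :
    ∃ (B : Type u) (_ : CommRing B) (_ : Algebra A B) (_ : Algebra.Etale A B) (φ : B →ₐ[A] C),
      Function.Surjective φ ∧ RingHom.ker φ = I.map (algebraMap A B) := by
  classical
  haveI : Algebra.IsStandardSmoothOfRelativeDimension 0 (A ⧸ I) C :=
    Algebra.Etale.iff_isStandardSmoothOfRelativeDimension_zero.1 inferInstance
  obtain ⟨ι, σ, _, _, P, hP⟩ := ‹Algebra.IsStandardSmoothOfRelativeDimension 0 (A ⧸ I) C›.out
  haveI := Fintype.ofFinite σ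
  haveI := Fintype.ofFinite ι
  have hbij : Function.Bijective P.map := by
    refine (Fintype.bijective_iff_injective_and_card P.map).2 ⟨P.map_inj, le_antisymm
      (Fintype.card_le_of_injective P.map P.map_inj) ?_⟩
    rw [← Nat.card_eq_fintype_card, ← Nat.card_eq_fintype_card, ← Nat.sub_eq_zero_iff_le]
    exact hP
  let e : σ ≃ ι := Equiv.ofBijective P.map hbij
  let q : MvPolynomial ι A →+* MvPolynomial ι (A ⧸ I) := MvPolynomial.map (Ideal.Quotient.mk I)
  choose V hV using fun i : ι =>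
    MvPolynomial.map_surjective (σ := ι) (Ideal.Quotient.mk I) Ideal.Quotient.mk_surjective (P.relation (e.symm i))
  let J : MvPolynomial ι A := (Matrix.of fun i j => MvPolynomial.pderiv i (V j)).det
  haveI := etale_away_jacobian V
  let Q := MvPolynomial ι A ⧸ Ideal.span (Set.range V)
  let B := Localization.Away (Ideal.Quotient.mk (Ideal.span (Set.range V)) J)
  let π : MvPolynomial ι A →ₐ[A] C := MvPolynomial.aeval P.val
  have hπ : ∀ p, π p = MvPolynomial.aeval P.val (q p) := fun p => by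
    have h1 : π p = MvPolynomial.aeval P.val (MvPolynomial.map (algebraMap A (A ⧸ I)) p) :=
      (MvPolynomial.aeval_map_algebraMap (A ⧸ I) P.val p).symm
    exact h1
  have hJ : q J = P.jacobiMatrix.det := by
    rw [RingHom.map_det, ← Matrix.det_submatrix_equiv_self e.symm P.jacobiMatrix]
    congr 1
    ext i j
    simp [q, Algebra.PreSubmersivePresentation.jacobiMatrix_apply, ← hV, MvPolynomial.pderiv_map,
      show P.map (e.symm i) = i from e.apply_symm_apply i]
  have hJu : IsUnit (π J) := by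
    rw [hπ, hJ]
    have h := P.jacobian_isUnit
    rw [Algebra.PreSubmersivePresentation.jacobian_eq_jacobiMatrix_det, P.algebraMap_eq] at h
    exact h
  let φ₁ : Q →ₐ[A] C := Ideal.Quotient.liftₐ _ π fun a ha => by
    have : Ideal.span (Set.range V) ≤ RingHom.ker π := Ideal.span_le.2 fun _ ⟨i, hi⟩ => by
      rw [← hi, SetLike.mem_coe, RingHom.mem_ker, hπ, hV]
      exact P.aeval_val_relation _
    exact this ha
  let φ : B →ₐ[A] C := IsLocalization.Away.liftAlgHom (Ideal.Quotient.mk (Ideal.span (Set.range V)) J) (f := φ₁) hJu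
  have hφ : ∀ z, φ (algebraMap Q B z) = φ₁ z := fun z =>
    IsLocalization.Away.lift_eq (R := Q) (Ideal.Quotient.mk (Ideal.span (Set.range V)) J) (g := (φ₁ : Q →+* C)) hJu z
  refine ⟨B, inferInstance, inferInstance, inferInstance, φ, fun c => ?_, le_antisymm (fun x hx => ?_) ?_⟩
  · obtain ⟨p', hp'⟩ := P.algebraMap_surjective c
    rw [P.algebraMap_eq] at hp'
    obtain ⟨p, rfl⟩ := MvPolynomial.map_surjective (σ := ι) (Ideal.Quotient.mk I) Ideal.Quotient.mk_surjective p'
    exact ⟨algebraMap Q B (Ideal.Quotient.mk _ p), ((hφ _).trans (hπ p)).trans hp'⟩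
  · obtain ⟨n, z, hz⟩ := IsLocalization.Away.surj (Ideal.Quotient.mk (Ideal.span (Set.range V)) J) x
    obtain ⟨p, rfl⟩ := Ideal.Quotient.mk_surjective z
    have hp : π p = 0 := by
      have h := congrArg φ hz
      rw [map_mul, (RingHom.mem_ker.1 hx : φ x = 0), zero_mul, hφ] at h
      exact h.symm
    have hqp : q p ∈ Ideal.span (Set.range P.relation) := by
      rw [P.span_range_relation_eq_ker, P.ker_eq_ker_aeval_val, RingHom.mem_ker]
      exact (hπ p).symm.trans hp
    have h2 : Ideal.span (Set.range P.relation) = (Ideal.span (Set.range V)).map q := by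
      rw [Ideal.map_span]
      congr 1
      ext r
      constructor
      · rintro ⟨j, rfl⟩
        exact ⟨_, Set.mem_range_self (e j), by rw [hV, e.symm_apply_apply]⟩
      · rintro ⟨_, ⟨i, rfl⟩, rfl⟩
        exact ⟨_, (hV i).symm⟩
    rw [h2, ← Ideal.mem_comap, Ideal.comap_map_of_surjective q
      (MvPolynomial.map_surjective _ Ideal.Quotient.mk_surjective), ← RingHom.ker_eq_comap_bot] at hqp
    obtain ⟨a, ha, b, hb, hab⟩ := Submodule.mem_sup.1 hqp
    have hb' : b ∈ I.map (algebraMap A (MvPolynomial ι A)) := by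
      rw [MvPolynomial.ker_map, Ideal.mk_ker] at hb
      exact hb
    have h3 : algebraMap Q B (Ideal.Quotient.mk _ p) ∈ I.map (algebraMap A B) := by
      rw [← hab, map_add, Ideal.Quotient.eq_zero_iff_mem.2 ha, zero_add]
      have h4 := Ideal.mem_map_of_mem ((algebraMap Q B).comp (Ideal.Quotient.mk (Ideal.span (Set.range V)))) hb'
      rw [Ideal.map_map] at h4
      exact h4
    rw [← hz, Ideal.mul_unit_mem_iff_mem] at h3
    · exact h3
    · exact (IsLocalization.Away.algebraMap_isUnit _).pow n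
  · rw [Ideal.map_le_iff_le_comap]
    intro a ha
    rw [Ideal.mem_comap, RingHom.mem_ker, φ.commutes, IsScalarTower.algebraMap_apply A (A ⧸ I) C,
      Ideal.Quotient.algebraMap_eq, Ideal.Quotient.eq_zero_iff_mem.2 ha, map_zero]

/-- Finite étale algebras lift along henselian pairs. -/
theorem exists_finite_etale_lift [HenselianRing A I] [Module.Finite (A ⧸ I) C] [Algebra.Etale (A ⧸ I) C] :
    ∃ (B : Type u) (_ : CommRing B) (_ : Algebra A B), Module.Finite A B ∧ Algebra.Etale A B ∧
      Nonempty ((A ⧸ I) ⊗[A] B ≃ₐ[A ⧸ I] C) := by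
  obtain ⟨B₀, _, _, _, φ, hφ, hker⟩ := exists_etale_lift I C
  haveI : Module.Finite A C := Module.Finite.trans (A ⧸ I) C
  let eq₀ : (B₀ ⧸ I.map (algebraMap A B₀)) ≃ₐ[A] C :=
    (Ideal.quotientEquivAlgOfEq A hker.symm).trans (Ideal.quotientKerAlgEquivOfSurjective hφ)
  haveI : Module.Finite A (B₀ ⧸ I.map (algebraMap A B₀)) := Module.Finite.equiv eq₀.symm.toLinearEquiv
  obtain ⟨e, he, he1, hfin⟩ := exists_idem_finite (A := A) (B := B₀) (I := I)
  let B := B₀ ⧸ Ideal.span ({1 - e} : Set B₀)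
  haveI : IsLocalization.Away e B :=
    IsLocalization.away_of_isIdempotentElem he Ideal.mk_ker Ideal.Quotient.mk_surjective
  haveI : Algebra.Etale B₀ B := Algebra.Etale.of_isLocalizationAway e
  haveI : Algebra.Etale A B := Algebra.Etale.comp A B₀ B
  refine ⟨B, inferInstance, inferInstance, hfin, inferInstance, ?_⟩
  have hφe : φ e = 1 := by
    rw [← sub_eq_zero, ← map_one φ, ← map_sub, ← RingHom.mem_ker, hker]
    exact he1
  let ψ : B →ₐ[A] C := Ideal.Quotient.liftₐ _ φ fun a ha => by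
    obtain ⟨c, rfl⟩ := Ideal.mem_span_singleton'.1 ha
    rw [map_mul, map_sub, map_one, hφe, sub_self, mul_zero]
  let Ψ : (A ⧸ I) ⊗[A] B →ₐ[A ⧸ I] C :=
    Algebra.TensorProduct.lift (Algebra.ofId (A ⧸ I) C) ψ fun _ _ => .all _ _
  have htm : ∀ b : B, Ψ (1 ⊗ₜ b) = ψ b := fun b =>
    (Algebra.TensorProduct.lift_tmul _ _ _ _ _).trans (by rw [map_one, one_mul])
  have hone : ∀ z : (A ⧸ I) ⊗[A] B, ∃ b : B, z = 1 ⊗ₜ b := fun z => by
    induction z with
    | zero => exact ⟨0, by rw [TensorProduct.tmul_zero]⟩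
    | add a b ha hb =>
      obtain ⟨c, rfl⟩ := ha
      obtain ⟨d, rfl⟩ := hb
      exact ⟨c + d, by rw [TensorProduct.tmul_add]⟩
    | tmul a b =>
      obtain ⟨r, rfl⟩ := Ideal.Quotient.mk_surjective a
      exact ⟨r • b, by rw [← TensorProduct.smul_tmul, Algebra.smul_def, mul_one]; rfl⟩
  refine ⟨AlgEquiv.ofBijective Ψ ⟨(injective_iff_map_eq_zero Ψ).2 fun z hz => ?_, fun c => ?_⟩⟩
  · obtain ⟨b, rfl⟩ := hone z
    obtain ⟨b₀, rfl⟩ := Ideal.Quotient.mk_surjective b
    rw [htm] at hz
    have h0 : b₀ ∈ I.map (algebraMap A B₀) := hker ▸ (hz : φ b₀ = 0)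
    have h1 := Ideal.mem_map_of_mem (Ideal.Quotient.mkₐ A (Ideal.span ({1 - e} : Set B₀)) : B₀ →+* B) h0
    rw [Ideal.map_map, (Ideal.Quotient.mkₐ A _).comp_algebraMap] at h1
    revert h1
    show Ideal.Quotient.mk (Ideal.span ({1 - e} : Set B₀)) b₀ ∈ I.map (algebraMap A B) → _
    generalize (Ideal.Quotient.mk (Ideal.span ({1 - e} : Set B₀)) b₀) = y
    intro hy
    induction hy using Submodule.span_induction with
    | mem y hy =>
      obtain ⟨a, ha, rfl⟩ := hy
      rw [Algebra.algebraMap_eq_smul_one, ← TensorProduct.smul_tmul, Algebra.smul_def, mul_one,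
        Ideal.Quotient.algebraMap_eq, Ideal.Quotient.eq_zero_iff_mem.2 ha, TensorProduct.zero_tmul]
    | zero => rw [TensorProduct.tmul_zero]
    | add a b _ _ ha hb => rw [TensorProduct.tmul_add, ha, hb, add_zero]
    | smul c y _ hy =>
      rw [smul_eq_mul, show (1 : A ⧸ I) ⊗ₜ[A] (c * y) = (1 ⊗ₜ c) * (1 ⊗ₜ y) by
        rw [Algebra.TensorProduct.tmul_mul_tmul, mul_one], hy, mul_zero]
  · obtain ⟨b, rfl⟩ := hφ c
    exact ⟨1 ⊗ₜ Ideal.Quotient.mk _ b, htm _⟩

end HenselLib
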