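import Mathlib

/-! Henselian pairs: the key lifting lemmas. -/

set_option autoImplicit false
universe u v

noncomputable section

open Polynomial Ideal Pointwise

namespace HenselLib

variable {A : Type u} [CommRing A] {I : Ideal A}

/-- Gabber's root condition. -/
def GabberRoots (I : Ideal A) : Prop :=
  ∀ (n : ℕ), 0 < n → ∀ p : A[X], p.natDegree ≤ n → (∀ i, p.coeff i ∈ I) →
    ∃ α : A, α - 1 ∈ I ∧ (X ^ n * (X - 1) + p).IsRoot α

theorem isUnit_of_sub_mem (hI : I ≤ Ideal.jacobson ⊥) {a b : A} (hb : IsUnit b) (h : a - b ∈ I) :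
    IsUnit a := by
  obtain ⟨b, rfl⟩ := hb
  have h1 := Ideal.mem_jacobson_bot.1 (hI h) (↑b⁻¹ : A)
  rw [sub_mul, Units.mul_inv, sub_add_cancel] at h1
  exact isUnit_of_mul_isUnit_left h1

theorem monic_gabber {n : ℕ} {p : A[X]} (hp : p.natDegree ≤ n) :
    (X ^ n * (X - 1) + p).Monic := by
  nontriviality A
  have h1 : (X ^ n * (X - C (1 : A))).Monic := (monic_X_pow n).mul (monic_X_sub_C 1)
  rw [← map_one (C : A →+* A[X])]
  refine h1.add_of_left (degree_lt_degree ?_)
  rw [(monic_X_pow n).natDegree_mul (monic_X_sub_C 1), natDegree_X_pow, natDegree_X_sub_C]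
  omega

theorem gabberRoots_of_henselianRing [HenselianRing A I] : GabberRoots I := by
  intro n hn p hp hc
  have hpe : ∀ q : A[X], (∀ i, q.coeff i ∈ I) → q.eval 1 ∈ I := fun q hq => by
    rw [eval_eq_sum_range]
    exact sum_mem fun i _ => I.mul_mem_right _ (hq i)
  have hd : ∀ i, (derivative p).coeff i ∈ I := fun i => by
    rw [coeff_derivative]
    exact I.mul_mem_right _ (hc _)
  obtain ⟨a, ha, ha'⟩ := HenselianRing.is_henselian (I := I) _ (monic_gabber hp) 1
    (by simpa using hpe p hc) (by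
      have : Ideal.Quotient.mk I ((derivative (X ^ n * (X - 1) + p)).eval 1) = 1 := by
        rw [← map_one (Ideal.Quotient.mk I), Ideal.Quotient.eq]
        simpa using hpe _ hd
      rw [this]
      exact isUnit_one)
  exact ⟨a, ha', ha⟩

variable {B : Type v} [CommRing B] [Algebra A B]

theorem map_le_jacobson_bot [Algebra.IsIntegral A B] (hI : I ≤ Ideal.jacobson ⊥) :
    I.map (algebraMap A B) ≤ Ideal.jacobson ⊥ := by
  rw [Ideal.jacobson, le_sInf_iff]
  rintro m ⟨-, hm⟩
  haveI := hm
  refine Ideal.map_le_iff_le_comap.2 (hI.trans (sInf_le ⟨bot_le, ?_⟩))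
  exact Ideal.isMaximal_comap_of_isIntegral_of_isMaximal m

/-- Idempotents congruent modulo the Jacobson radical are equal. -/
theorem idem_eq_of_sub_mem {J : Ideal B} (hJ : J ≤ Ideal.jacobson ⊥) {e e' : B}
    (he : IsIdempotentElem e) (he' : IsIdempotentElem e') (h : e - e' ∈ J) : e = e' := by
  have h1 : (e - e') * (1 - (e - e') ^ 2) = 0 := by
    have h1 : e * e = e := he
    have h2 : e' * e' = e' := he'
    linear_combination (-(e + 1) + 3 * e') * h1 + (e' + 1 - 3 * e) * h2
  have hu : IsUnit (1 - (e - e') ^ 2) :=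
    isUnit_of_sub_mem hJ isUnit_one (by
      rw [sub_sub, add_comm, ← sub_sub, sub_self, zero_sub, J.neg_mem_iff, pow_two]
      exact J.mul_mem_left _ h)
  exact sub_eq_zero.1 (hu.mul_left_eq_zero.1 h1)

omit [Algebra A B] in
theorem idem_eq_one_of_isUnit {e : B} (he : IsIdempotentElem e) (hu : IsUnit e) : e = 1 :=
  hu.mul_left_cancel (by rw [mul_one]; exact he)

theorem map_eq_smul_top : ((I.map (algebraMap A B)).restrictScalars A) = I • (⊤ : Submodule A B) :=
  (Ideal.smul_top_eq_map I).symm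

/-- Lifting the idempotent of a rank one component. -/
theorem exists_idem_lift (hI : I ≤ Ideal.jacobson ⊥) (hG : GabberRoots I) [Module.Finite A B]
    (φ : B →ₐ[A] A ⧸ I) (d : B) (hd : φ d = 1)
    (hker : ∀ z : B, φ z = 0 → z * d ∈ I.map (algebraMap A B)) :
    ∃ e : B, IsIdempotentElem e ∧ e - d ∈ I.map (algebraMap A B) := by
  classical
  let IB := I.map (algebraMap A B)
  obtain ⟨N, b, hb⟩ := Module.Finite.exists_fin (R := A) (M := B)
  let c : Fin (N + 1 + 1) → B := Fin.cons d (Fin.cons 0 fun j => b j - b j * d)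
  have hdd : d * d - d ∈ IB := by
    have := hker (d - 1) (by rw [map_sub, hd, map_one, sub_self])
    rwa [sub_mul, one_mul] at this
  have hc : Submodule.span A (Set.range c) = ⊤ := by
    rw [eq_top_iff]
    refine Submodule.le_of_le_smul_of_le_jacobson_bot Module.Finite.fg_top hI ?_
    rw [← map_eq_smul_top, ← hb, Submodule.span_le]
    rintro _ ⟨j, rfl⟩
    obtain ⟨a, ha⟩ := Ideal.Quotient.mk_surjective (φ (b j))
    have h1 : (b j - algebraMap A B a) * d ∈ IB := hker _ (by
      rw [map_sub, φ.commutes, Ideal.Quotient.algebraMap_eq, ha, sub_self])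
    have : b j = ((b j - b j * d) + a • d) + (b j - algebraMap A B a) * d := by
      rw [Algebra.smul_def]; ring
    rw [this]
    refine add_mem (Submodule.mem_sup_left (add_mem ?_ (Submodule.smul_mem _ _ ?_)))
      (Submodule.mem_sup_right h1)
    · exact Submodule.subset_span ⟨j.succ.succ, rfl⟩
    · exact Submodule.subset_span ⟨0, rfl⟩
  let δ : Fin (N + 1 + 1) → A := Fin.cons 1 0
  have hoff : ∀ j, d * c j - δ j • c j ∈ (IB.restrictScalars A) := by
    intro j
    refine Fin.cases ?_ (fun j => Fin.cases ?_ (fun k => ?_) j) j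
    · simpa [c, δ] using hdd
    · simp [c, δ]
    · have : d * c k.succ.succ - δ k.succ.succ • c k.succ.succ = -(b k) * (d * d - d) := by
        simp [c, δ]; ring
      rw [this]
      exact IB.mul_mem_left _ hdd
  rw [map_eq_smul_top, ← hc] at hoff
  choose a haI ha using fun j => (Submodule.mem_ideal_smul_span_iff_exists_sum I c _).1 (hoff j)
  let E : Matrix (Fin (N + 1 + 1)) (Fin (N + 1 + 1)) A := Matrix.of fun i j => a j i
  let M := Matrix.diagonal δ + E
  have hM : M.Represents c (LinearMap.mulLeft A d) := by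
    rw [Matrix.represents_iff']
    intro j
    have h1 : ∑ i, a j i • c i = d * c j - δ j • c j := by
      rw [← ha j, Finsupp.sum_fintype _ _ (fun i => zero_smul A (c i))]
    simp only [M, E, Matrix.add_apply, add_smul, Finset.sum_add_distrib, Matrix.of_apply, h1,
      Matrix.diagonal_apply, ite_smul, zero_smul, Finset.sum_ite_eq', Finset.mem_univ, if_true]
    exact add_sub_cancel _ _
  let χ := M.charpoly
  have hχ0 : aeval d χ = 0 := by
    let R₀ := Matrix.isRepresentation A c
    let Φ := Matrix.isRepresentation.toEnd A c hc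
    let M₀ : R₀ := ⟨M, _, hM⟩
    have h1 : aeval M₀ χ = 0 := Subtype.ext (by
      rw [Polynomial.aeval_subalgebra_coe]; exact M.aeval_self_charpoly)
    have h2 : aeval (LinearMap.mulLeft A d) χ = 0 := by
      rw [← Matrix.isRepresentation.eq_toEnd_of_represents A c hc M₀ hM, Polynomial.aeval_algHom_apply, h1,
        map_zero]
    rw [show LinearMap.mulLeft A d = Algebra.lmul A B d from rfl, Polynomial.aeval_algHom_apply] at h2
    simpa using LinearMap.congr_fun h2 1
  let π := Ideal.Quotient.mk I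
  have hχπ : χ.map π = X ^ (N + 1) * (X - 1) := by
    rw [← Matrix.charpoly_map]
    have : M.map π = Matrix.diagonal (fun i => π (δ i)) := by
      ext i j
      simp only [M, E, Matrix.map_apply, Matrix.add_apply, map_add, Matrix.of_apply, π]
      rw [Ideal.Quotient.eq_zero_iff_mem.2 (haI j i), add_zero]
      by_cases h : i = j <;> simp [Matrix.diagonal, h]
    rw [this, Matrix.charpoly_diagonal, Fin.prod_univ_succ]
    simp [δ, mul_comm]
  have hG' := hG (N + 1) (Nat.succ_pos N) (χ - X ^ (N + 1) * (X - 1)) (by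
    nontriviality A
    have hd1 : χ.natDegree = N + 1 + 1 := by simp [χ, Matrix.charpoly_natDegree_eq_dim]
    have h1 : (X ^ (N + 1) * (X - 1 : A[X])).Monic := by simpa using monic_gabber (p := (0 : A[X])) (n := N + 1) (by simp)
    have hd2 : (X ^ (N + 1) * (X - 1 : A[X])).natDegree = N + 1 + 1 := by
      rw [← map_one (C : A →+* A[X]), (monic_X_pow _).natDegree_mul (monic_X_sub_C 1), natDegree_X_pow,
        natDegree_X_sub_C]
    rw [natDegree_le_iff_coeff_eq_zero]
    intro m hm
    rcases Nat.lt_or_eq_of_le hm with hlt | heq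
    · rw [coeff_sub, coeff_eq_zero_of_natDegree_lt (hd1 ▸ hlt), coeff_eq_zero_of_natDegree_lt (hd2 ▸ hlt), sub_zero]
    · obtain rfl : m = N + 1 + 1 := heq.symm
      rw [coeff_sub, ← hd1, coeff_natDegree, hd1, ← hd2, coeff_natDegree, M.charpoly_monic.leadingCoeff,
        h1.leadingCoeff, sub_self]) (fun i => by
    rw [← Ideal.Quotient.eq_zero_iff_mem, ← coeff_map]
    simp [hχπ, π])
  obtain ⟨α, hα1, hα⟩ := hG'
  rw [add_sub_cancel] at hα
  let Q := χ /ₘ (X - C α)
  have hQ : (X - C α) * Q = χ := mul_divByMonic_eq_iff_isRoot.2 hα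
  have hπα : π α = 1 := by rw [← map_one π, Ideal.Quotient.eq]; exact hα1
  have hQπ : Q.map π = X ^ (N + 1) := by
    have h1 := congrArg (Polynomial.map π) hQ
    rw [Polynomial.map_mul, hχπ, Polynomial.map_sub, map_X, map_C, hπα, map_one, mul_comm (X ^ (N + 1))] at h1
    exact (monic_X_sub_C (1 : A ⧸ I)).isRegular.left (by simpa using h1)
  have hQα : IsUnit (Q.eval α) := by
    refine isUnit_of_sub_mem hI isUnit_one ?_
    rw [← Ideal.Quotient.eq_zero_iff_mem, map_sub, map_one]
    show π (eval α Q) - 1 = 0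
    rw [← eval_map_apply, hQπ, hπα, eval_X_pow, one_pow, sub_self]
  obtain ⟨v, hv⟩ := hQα
  obtain ⟨R', hR'⟩ := X_sub_C_dvd_sub_C_eval (a := α) (p := Q)
  have hxQ : (d - algebraMap A B α) * aeval d Q = 0 := by
    have h1 := congrArg (aeval d) hQ
    simpa [hχ0] using h1
  have hsq : aeval d Q * aeval d Q = algebraMap A B (Q.eval α) * aeval d Q := by
    have h1 := congrArg (aeval d) hR'
    simp only [map_sub, map_mul, aeval_X, aeval_C] at h1
    linear_combination (aeval d Q) * h1 + (aeval d R') * hxQ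
  have hdn : ∀ m, d ^ (m + 1) - d ∈ IB := fun m => by
    induction m with
    | zero => simp
    | succ m ih =>
      have : d ^ (m + 1 + 1) - d = d * (d ^ (m + 1) - d) + (d * d - d) := by ring
      rw [this]
      exact IB.add_mem (IB.mul_mem_left _ ih) hdd
  refine ⟨algebraMap A B ↑v⁻¹ * aeval d Q, ?_, ?_⟩
  · show _ * _ = _
    calc algebraMap A B ↑v⁻¹ * aeval d Q * (algebraMap A B ↑v⁻¹ * aeval d Q)
        = algebraMap A B ↑v⁻¹ * algebraMap A B ↑v⁻¹ * (aeval d Q * aeval d Q) := by ring
      _ = algebraMap A B (↑v⁻¹ * ↑v) * (algebraMap A B ↑v⁻¹ * aeval d Q) := by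
          rw [hsq, ← hv, map_mul]; ring
      _ = _ := by rw [Units.inv_mul, map_one, one_mul]
  · let q := Ideal.Quotient.mk IB
    have hcomm : q.comp (algebraMap A B) = (Ideal.quotientMap IB (algebraMap A B) Ideal.le_comap_map).comp π := by
      ext; simp [q, π]
    have h1 : q (algebraMap A B ↑v⁻¹) = 1 := by
      rw [← map_one q, Ideal.Quotient.eq, ← map_one (algebraMap A B), ← map_sub]
      refine Ideal.mem_map_of_mem _ ?_
      rw [← Ideal.Quotient.eq_zero_iff_mem, map_sub, map_one, sub_eq_zero]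
      have h2 : π ↑v = 1 := by rw [hv, ← eval_map_apply, hQπ, hπα, eval_X_pow, one_pow]
      have h3 : π ↑v⁻¹ * π ↑v = 1 := by rw [← map_mul, Units.inv_mul, map_one]
      rwa [h2, mul_one] at h3
    have h2 : q (aeval d Q) = q d := by
      rw [aeval_def, hom_eval₂, hcomm, ← eval₂_map, hQπ, eval₂_X_pow, ← map_pow, Ideal.Quotient.eq]
      exact hdn N
    rw [← Ideal.Quotient.eq_zero_iff_mem, map_sub, map_mul, h1, h2, one_mul, sub_self]

/-- Nakayama for algebras. -/
theorem surjective_algebraMap_of_le [Module.Finite A B] (hI : I ≤ Ideal.jacobson ⊥)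
    (h : ∀ b : B, ∃ a : A, b - algebraMap A B a ∈ I.map (algebraMap A B)) :
    Function.Surjective (algebraMap A B) := by
  intro b
  have : (⊤ : Submodule A B) ≤ LinearMap.range (Algebra.linearMap A B) := by
    refine Submodule.le_of_le_smul_of_le_jacobson_bot Module.Finite.fg_top hI fun z _ => ?_
    obtain ⟨a, ha⟩ := h z
    rw [← map_eq_smul_top, ← add_sub_cancel (algebraMap A B a) z]
    exact add_mem (Submodule.mem_sup_left ⟨a, rfl⟩) (Submodule.mem_sup_right ha)
  exact this (x := b) trivial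

theorem injective_algebraMap_of_flat [Module.Flat A B] (hI : I ≤ Ideal.jacobson ⊥)
    (hs : Function.Surjective (algebraMap A B)) (hk : RingHom.ker (algebraMap A B) ≤ I) :
    Function.Injective (algebraMap A B) := by
  let K := RingHom.ker (Algebra.ofId A B)
  haveI : K.Pure := Module.Flat.of_linearEquiv
    (Ideal.quotientKerAlgEquivOfSurjective (f := Algebra.ofId A B) hs).toLinearEquiv
  refine (injective_iff_map_eq_zero _).2 fun x hx => ?_
  obtain ⟨y, hy, hxy⟩ := Ideal.exists_eq_mul_of_pure (I := K) (x := x) hx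
  have hu : IsUnit (1 - y) := isUnit_of_sub_mem hI isUnit_one (by simpa using I.neg_mem (hk hy))
  exact hu.mul_left_eq_zero.1 (by rw [mul_sub, mul_one, ← hxy, sub_self])

section Unramified

variable {S : Type v} [CommRing S] [Algebra A S]

theorem exists_separating [Algebra.FiniteType A S] [Algebra.FormallyUnramified A S] (σ : S →ₐ[A] A ⧸ I) :
    ∃ δ : S, σ δ = 1 ∧ ∀ z, σ z = 0 → z * δ ∈ I.map (algebraMap A S) := by
  classical
  let IS := I.map (algebraMap A S)
  let K := RingHom.ker σ
  have hIK : IS ≤ K := Ideal.map_le_iff_le_comap.2 fun a ha => by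
    show σ (algebraMap A S a) = 0
    rw [σ.commutes, Ideal.Quotient.algebraMap_eq, Ideal.Quotient.eq_zero_iff_mem.2 ha]
  obtain ⟨s, hs⟩ := ‹Algebra.FiniteType A S›.out
  have hex : ∀ z : S, ∃ a : A, Ideal.Quotient.mk I a = σ z := fun z => Ideal.Quotient.mk_surjective _
  choose ρ hρ using hex
  have hK : K ≤ IS ⊔ Ideal.span (s.image fun x => x - algebraMap A S (ρ x) : Set S) := by
    let P := IS ⊔ Ideal.span (s.image fun x => x - algebraMap A S (ρ x) : Set S)
    have key : ∀ z : S, z - algebraMap A S (ρ z) ∈ P := by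
      have hmem : ∀ z : S, z ∈ Algebra.adjoin A (s : Set S) := fun z => hs ▸ Algebra.mem_top
      intro z
      induction hmem z using Algebra.adjoin_induction with
      | mem x hx => exact Ideal.mem_sup_right (Ideal.subset_span (Finset.mem_image_of_mem _ hx))
      | algebraMap r =>
        refine Ideal.mem_sup_left ?_
        rw [← map_sub]
        refine Ideal.mem_map_of_mem _ (Ideal.Quotient.eq.1 ?_)
        rw [hρ, σ.commutes]; rfl
      | add x y _ _ hx hy =>
        have h1 : algebraMap A S (ρ x + ρ y - ρ (x + y)) ∈ P := Ideal.mem_sup_left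
          (Ideal.mem_map_of_mem _ (Ideal.Quotient.eq.1 (by rw [map_add, hρ, hρ, hρ, map_add])))
        have := P.add_mem (P.add_mem hx hy) h1
        convert this using 1
        rw [map_sub, map_add]; ring
      | mul x y _ _ hx hy =>
        have h1 : algebraMap A S (ρ x * ρ y - ρ (x * y)) ∈ P := Ideal.mem_sup_left
          (Ideal.mem_map_of_mem _ (Ideal.Quotient.eq.1 (by rw [map_mul, hρ, hρ, hρ, map_mul])))
        have := P.add_mem (P.add_mem (P.mul_mem_right y hx) (P.mul_mem_left (algebraMap A S (ρ x)) hy)) h1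
        convert this using 1
        rw [map_sub, map_mul]; ring
    intro z hz
    have h0 : algebraMap A S (ρ z) ∈ P := Ideal.mem_sup_left (Ideal.mem_map_of_mem _
      (Ideal.Quotient.eq_zero_iff_mem.1 ((hρ z).trans hz)))
    have h2 := P.add_mem (key z) h0
    rw [sub_add_cancel] at h2
    simpa [P] using h2
  -- the kernel is idempotent modulo `IS`
  let T := S ⧸ (IS ⊔ K ^ 2)
  let q : S →ₐ[A] T := Ideal.Quotient.mkₐ A _
  let w : A ⧸ I →ₐ[A] T := Ideal.Quotient.liftₐ I (Algebra.ofId A T) fun a ha => by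
    show Ideal.Quotient.mk _ (algebraMap A S a) = 0
    exact Ideal.Quotient.eq_zero_iff_mem.2 (Ideal.mem_sup_left (Ideal.mem_map_of_mem _ ha))
  have hnil : IsNilpotent (K.map q) := ⟨2, by
    rw [← Ideal.map_pow, Ideal.zero_eq_bot, Ideal.map_eq_bot_iff_le_ker]
    intro z hz
    exact Ideal.Quotient.eq_zero_iff_mem.2 (Ideal.mem_sup_right hz)⟩
  have hqw : q = w.comp σ := by
    refine Algebra.FormallyUnramified.ext _ hnil fun z => ?_
    rw [Ideal.Quotient.eq]
    obtain ⟨a, ha⟩ : ∃ a : A, Ideal.Quotient.mk I a = σ z := ⟨ρ z, hρ z⟩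
    have hz : z - algebraMap A S a ∈ K := by
      show σ _ = 0
      rw [map_sub, σ.commutes, Ideal.Quotient.algebraMap_eq, ha, sub_self]
    have : q z - (w.comp σ) z = q (z - algebraMap A S a) := by
      rw [map_sub, q.commutes, AlgHom.comp_apply, ← ha]
      simp [w]
    rw [this]
    exact Ideal.mem_map_of_mem _ hz
  have hK2 : K ≤ IS ⊔ K ^ 2 := fun z hz => by
    have h1 := DFunLike.congr_fun hqw z
    rw [AlgHom.comp_apply, show σ z = 0 from hz, map_zero] at h1
    exact Ideal.Quotient.eq_zero_iff_mem.1 h1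
  let μ := Ideal.Quotient.mk IS
  let J := K.map μ
  have hJfg : J.FG := ⟨s.image fun x => μ (x - algebraMap A S (ρ x)), by
    apply le_antisymm
    · rw [Ideal.span_le]
      intro y hy
      rw [Finset.coe_image] at hy
      obtain ⟨x, hx, rfl⟩ := hy
      refine Ideal.mem_map_of_mem _ ?_
      show σ _ = 0
      rw [map_sub, σ.commutes, Ideal.Quotient.algebraMap_eq, hρ, sub_self]
    · rw [Ideal.map_le_iff_le_comap]
      refine hK.trans (sup_le (fun z hz => ?_) (Ideal.span_le.2 fun z hz => ?_))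
      · rw [Ideal.mem_comap, show μ z = 0 from Ideal.Quotient.eq_zero_iff_mem.2 hz]
        exact zero_mem _
      · rw [Finset.coe_image] at hz
        obtain ⟨x, hx, rfl⟩ := hz
        exact Ideal.subset_span (by rw [Finset.coe_image]; exact ⟨x, hx, rfl⟩)⟩
  have hJid : IsIdempotentElem J := by
    show J * J = J
    refine le_antisymm Ideal.mul_le_right ?_
    rw [← pow_two, ← Ideal.map_pow]
    refine (Ideal.map_mono hK2).trans ?_
    rw [Ideal.map_sup, Ideal.map_quotient_self, bot_sup_eq]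
  obtain ⟨ε, hε, hεJ⟩ := (Ideal.isIdempotentElem_iff_of_fg J hJfg).1 hJid
  obtain ⟨ε', hε'K, rfl⟩ := (Ideal.mem_map_iff_of_surjective μ Ideal.Quotient.mk_surjective).1
    (show ε ∈ J by rw [hεJ]; exact Submodule.mem_span_singleton_self _)
  refine ⟨1 - ε', by rw [map_sub, map_one, show σ ε' = 0 from hε'K, sub_zero], fun z hz => ?_⟩
  have hz' : μ z ∈ J := Ideal.mem_map_of_mem _ hz
  rw [hεJ] at hz'
  obtain ⟨r, hr⟩ := Submodule.mem_span_singleton.1 hz'
  rw [← Ideal.Quotient.eq_zero_iff_mem]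
  show μ (z * (1 - ε')) = 0
  rw [map_mul, ← hr, map_sub, map_one, smul_eq_mul, mul_assoc, mul_sub, mul_one, hε.eq, sub_self, mul_zero]

/-- Algebra maps out of an unramified algebra agreeing modulo a radical ideal are equal. -/
theorem algHom_ext_of_sub_mem [Algebra.FormallyUnramified A S] [Algebra.EssFiniteType A S]
    {T : Type*} [CommRing T] [Algebra A T] {J : Ideal T} (hJ : J ≤ Ideal.jacobson ⊥)
    (f g : S →ₐ[A] T) (h : ∀ x, f x - g x ∈ J) : f = g := by
  obtain ⟨t, ht1, ht2⟩ := (Algebra.FormallyUnramified.iff_exists_tensorProduct (R := A) (S := S)).1 ‹_›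
  let Ψ : TensorProduct A S S →ₐ[A] T := Algebra.TensorProduct.lift f g fun _ _ => .all _ _
  have key : ∀ z : TensorProduct A S S, Ψ z - f (Algebra.TensorProduct.lmul' A z) ∈ J := fun z => by
    induction z using TensorProduct.induction_on with
    | zero => simp
    | tmul x y =>
      have : Ψ (x ⊗ₜ y) - f (Algebra.TensorProduct.lmul' A (x ⊗ₜ[A] y)) = f x * (g y - f y) := by
        simp [Ψ, mul_sub]
      rw [this]
      exact J.mul_mem_left _ (by simpa using J.neg_mem (h y))
    | add u w hu hw =>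
      have := J.add_mem hu hw
      convert this using 1
      simp only [map_add]; ring
  have hu : IsUnit (Ψ t) := isUnit_of_sub_mem hJ isUnit_one (by
    have := key t
    rwa [ht2, map_one] at this)
  refine AlgHom.ext fun x => hu.mul_left_eq_zero.1 ?_ |> sub_eq_zero.1 |> Eq.symm
  have := congrArg Ψ (ht1 x)
  simpa [Ψ, mul_comm, mul_sub, sub_mul] using this

end Unramified

/-- Sections of étale algebras lift along pairs with Gabber's root property. -/
theorem exists_lift_of_etale (hI : I ≤ Ideal.jacobson ⊥) (hG : GabberRoots I) {S : Type u} [CommRing S]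
    [Algebra A S] [Algebra.Etale A S] (σ : S →ₐ[A] A ⧸ I) :
    ∃ τ : S →ₐ[A] A, (Ideal.Quotient.mkₐ A I).comp τ = σ := by
  classical
  obtain ⟨δ, hδ, hδK⟩ := exists_separating σ
  let K := RingHom.ker σ
  have hsσ : Function.Surjective σ := fun y => by
    obtain ⟨a, rfl⟩ := Ideal.Quotient.mk_surjective y
    exact ⟨algebraMap A S a, σ.commutes a⟩
  have hloc : ∀ q : PrimeSpectrum S, ∃ (S' : Subalgebra A S) (r : S'), S'.toSubmodule.FG ∧ r.1 ∉ q.asIdeal ∧
      ∀ x : S, ∃ b : S', ∃ m : ℕ, (b : S) = r.1 ^ m * x := fun q => by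
    haveI : Algebra.QuasiFinite A S := inferInstance
    obtain ⟨S', hS', r, hr, hb⟩ :=
      Algebra.QuasiFiniteAt.exists_fg_and_exists_notMem_and_awayMap_bijective (R := A) q.asIdeal
    exact ⟨S', r, hS', hr, fun x => (Localization.awayMap_surjective_iff.1 hb.2) x⟩
  choose S' r hfg hr hsurj using hloc
  have htop : K ⊔ Ideal.span (Set.range fun q => (r q).1) = ⊤ := by
    by_contra hne
    obtain ⟨m, hm, hle⟩ := Ideal.exists_le_maximal _ hne
    exact hr ⟨m, hm.isPrime⟩ (hle (Ideal.mem_sup_right (Ideal.subset_span ⟨⟨m, hm.isPrime⟩, rfl⟩)))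
  obtain ⟨k, hkK, s₀, hs₀, hone⟩ := Submodule.mem_sup.1 ((Ideal.eq_top_iff_one _).1 htop)
  obtain ⟨cf, hcf⟩ := Finsupp.mem_ideal_span_range_iff_exists_finsupp.1 hs₀
  choose gens hgens using hfg
  let G : Set S := ⋃ q ∈ cf.support, (gens q : Set S)
  let B := Algebra.adjoin A G
  have hGint : ∀ x ∈ G, IsIntegral A x := fun x hx => by
    obtain ⟨q, -, hxq⟩ := Set.mem_iUnion₂.1 hx
    exact IsIntegral.of_mem_of_fg (S' q) ⟨gens q, hgens q⟩ x (by
      show x ∈ (S' q).toSubmodule
      rw [← hgens q]; exact Submodule.subset_span hxq)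
  haveI : Module.Finite A B := ⟨(Submodule.fg_top _).mpr (fg_adjoin_of_finite
    (Set.Finite.biUnion cf.support.finite_toSet fun q _ => (gens q).finite_toSet) hGint)⟩
  have hle : ∀ q ∈ cf.support, ∀ x ∈ S' q, x ∈ B := fun q hq x hx => by
    have hx' : x ∈ (S' q).toSubmodule := hx
    rw [← hgens q] at hx'
    have : Submodule.span A (gens q : Set S) ≤ B.toSubmodule := Submodule.span_le.2 fun y hy =>
      Algebra.subset_adjoin (Set.mem_iUnion₂.2 ⟨q, hq, hy⟩)
    exact this hx'
  choose ρ hρ using fun q => Ideal.Quotient.mk_surjective (σ (cf q))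
  let s : B := ∑ q ∈ cf.support.attach, algebraMap A B (ρ q.1) * ⟨(r q.1).1, hle q.1 q.2 _ (r q.1).2⟩
  have hs1 : σ (s : S) = 1 := by
    have h1 : (s : S) = ∑ q ∈ cf.support, algebraMap A S (ρ q) * (r q).1 := by
      rw [← Finset.sum_attach cf.support]
      simp [s]
    have h2 : σ s₀ = 1 := by
      have := congrArg σ hone
      rwa [map_add, show σ k = 0 from hkK, zero_add, map_one] at this
    rw [h1, ← h2, ← hcf, Finsupp.sum, map_sum, map_sum]
    exact Finset.sum_congr rfl fun q _ => by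
      rw [map_mul, map_mul, σ.commutes, Ideal.Quotient.algebraMap_eq, hρ]
  have hsx : ∀ x : S, ∃ m : ℕ, (s : S) ^ m * x ∈ B := fun x => by
    let Cx : Ideal B :=
      { carrier := {b | (b : S) * x ∈ B}
        add_mem' := fun {a b} ha hb => by
          show ((a : S) + b) * x ∈ B
          rw [add_mul]; exact add_mem ha hb
        zero_mem' := by show (0 : S) * x ∈ B; rw [zero_mul]; exact zero_mem B
        smul_mem' := fun c b hb => by
          show (c : S) * b * x ∈ B
          rw [mul_assoc]; exact mul_mem c.2 hb }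
    have hmem : s ∈ Cx.radical := Ideal.sum_mem _ fun q _ => Cx.radical.mul_mem_left _ (by
      obtain ⟨b, m, hb⟩ := hsurj q.1 x
      refine ⟨m, ?_⟩
      show ((r q.1).1) ^ m * x ∈ B
      rw [← hb]
      exact hle q.1 q.2 _ b.2)
    obtain ⟨m, hm⟩ := hmem
    exact ⟨m, hm⟩
  let IB := I.map (algebraMap A B)
  have hIS : ∀ w ∈ I.map (algebraMap A S), ∃ m : ℕ, ∃ v : B, v ∈ IB ∧ (v : S) = (s : S) ^ m * w := by
    intro w hw
    induction hw using Submodule.span_induction with
    | mem v hv =>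
      obtain ⟨a, ha, rfl⟩ := hv
      exact ⟨0, algebraMap A B a, Ideal.mem_map_of_mem _ ha, by simp⟩
    | zero => exact ⟨0, 0, zero_mem _, by simp⟩
    | add u w _ _ hu hw =>
      obtain ⟨m₁, v₁, hv₁, e₁⟩ := hu
      obtain ⟨m₂, v₂, hv₂, e₂⟩ := hw
      refine ⟨m₁ + m₂, s ^ m₂ * v₁ + s ^ m₁ * v₂, IB.add_mem (IB.mul_mem_left _ hv₁) (IB.mul_mem_left _ hv₂), ?_⟩
      simp only [Subalgebra.coe_add, Subalgebra.coe_mul, Subalgebra.coe_pow, e₁, e₂]; ring
    | smul t u _ hu =>
      obtain ⟨m, v, hv, e⟩ := hu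
      obtain ⟨m', hm'⟩ := hsx t
      refine ⟨m' + m, ⟨_, hm'⟩ * v, IB.mul_mem_left _ hv, ?_⟩
      simp only [Subalgebra.coe_mul, e, smul_eq_mul]; ring
  obtain ⟨m₀, hm₀⟩ := hsx δ
  let φ : B →ₐ[A] A ⧸ I := σ.comp B.val
  obtain ⟨N, b, hb⟩ := Module.Finite.exists_fin (R := A) (M := B)
  choose a ha using fun j => Ideal.Quotient.mk_surjective (φ (b j))
  have hgen : ∀ j, ∃ m, ∃ v : B, v ∈ IB ∧ (v : S) = (s : S) ^ m * ((b j - algebraMap A B (a j) : B) * δ) :=
    fun j => hIS _ (hδK _ (by
      show φ (b j - algebraMap A B (a j)) = 0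
      rw [map_sub, φ.commutes, Ideal.Quotient.algebraMap_eq, ha, sub_self]))
  choose m v hv hve using hgen
  let M := m₀ + ∑ j, m j
  let d : B := s ^ (∑ j, m j) * ⟨_, hm₀⟩
  have hdS : (d : S) = (s : S) ^ M * δ := by simp [d, M, pow_add]; ring
  have hd1 : φ d = 1 := by
    show σ (d : S) = 1
    rw [hdS, map_mul, map_pow, hs1, one_pow, one_mul, hδ]
  have hφIB : ∀ z ∈ IB, φ z = 0 := fun z hz => by
    have : IB ≤ RingHom.ker φ := Ideal.map_le_iff_le_comap.2 fun x hx => by
      show φ (algebraMap A B x) = 0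
      rw [φ.commutes, Ideal.Quotient.algebraMap_eq, Ideal.Quotient.eq_zero_iff_mem.2 hx]
    exact this hz
  have hkerd : ∀ z : B, φ z = 0 → z * d ∈ IB := by
    intro z hz
    obtain ⟨c, hc⟩ := (Submodule.mem_span_range_iff_exists_fun A).1 (show z ∈ Submodule.span A (Set.range b) by rw [hb]; trivial)
    have hc0 : ∑ j, c j * a j ∈ I := by
      rw [← Ideal.Quotient.eq_zero_iff_mem, map_sum]
      rw [← hc, map_sum] at hz
      rw [← hz]
      exact Finset.sum_congr rfl fun j _ => by rw [map_mul, ha, map_smul, Algebra.smul_def]; rfl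
    have hj : ∀ j, (b j - algebraMap A B (a j)) * d ∈ IB := fun j => by
      obtain ⟨e, he⟩ := Nat.exists_eq_add_of_le (le_add_left (Finset.single_le_sum (f := m)
        (fun i _ => Nat.zero_le _) (Finset.mem_univ j)) : m j ≤ M)
      have : (b j - algebraMap A B (a j)) * d = s ^ e * v j := Subtype.ext (by
        rw [Subalgebra.coe_mul, hdS, Subalgebra.coe_mul, Subalgebra.coe_pow, hve, show M = m j + e from he, pow_add]; ring)
      rw [this]
      exact IB.mul_mem_left _ (hv j)
    have hz' : z = ∑ j, algebraMap A B (c j) * (b j - algebraMap A B (a j)) + algebraMap A B (∑ j, c j * a j) := by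
      rw [← hc, map_sum, ← Finset.sum_add_distrib]
      exact Finset.sum_congr rfl fun j _ => by rw [Algebra.smul_def, map_mul]; ring
    rw [hz', add_mul, Finset.sum_mul]
    refine IB.add_mem (IB.sum_mem fun j _ => ?_) (IB.mul_mem_right _ (Ideal.mem_map_of_mem _ hc0))
    rw [mul_assoc]
    exact IB.mul_mem_left _ (hj j)
  obtain ⟨e, he, hed⟩ := exists_idem_lift hI hG φ d hd1 hkerd
  have hφe : φ e = 1 := by
    have := hφIB _ hed
    rwa [map_sub, hd1, sub_eq_zero] at this
  -- the component cut out by `e`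
  let C := Localization.Away ((s : S) * e)
  let ψ : S →ₐ[A] C := IsScalarTower.toAlgHom A S C
  let θ : B →ₐ[A] C := ψ.comp B.val
  have hu : IsUnit (ψ ((s : S) * e)) := IsLocalization.Away.algebraMap_isUnit _
  rw [map_mul] at hu
  have hes : IsUnit (θ e) := isUnit_of_mul_isUnit_right hu
  have hss : IsUnit (θ s) := isUnit_of_mul_isUnit_left hu
  have hθe : θ e = 1 := idem_eq_one_of_isUnit (he.map θ) hes
  let Bim := LinearMap.range θ.toLinearMap
  have hIθ : ∀ z ∈ IB, θ z ∈ I • Bim := fun z hz => by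
    have h1 : z ∈ I • (⊤ : Submodule A B) := by rw [← map_eq_smul_top]; exact hz
    have h2 := Submodule.mem_map_of_mem (f := θ.toLinearMap) h1
    rwa [Submodule.map_smul'', Submodule.map_top] at h2
  have hBim : Bim ≤ LinearMap.range (Algebra.linearMap A C) := by
    have hfgB : Bim.FG := by
      show (LinearMap.range θ.toLinearMap).FG
      rw [← Submodule.map_top]
      exact Module.Finite.fg_top.map _
    refine Submodule.le_of_le_smul_of_le_jacobson_bot hfgB hI ?_
    rintro _ ⟨z, rfl⟩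
    obtain ⟨a₁, ha₁⟩ := Ideal.Quotient.mk_surjective (φ z)
    have hw : φ (z - algebraMap A B a₁) = 0 := by
      rw [map_sub, φ.commutes, Ideal.Quotient.algebraMap_eq, ha₁, sub_self]
    have hwe : (z - algebraMap A B a₁) * e ∈ IB := by
      have : (z - algebraMap A B a₁) * e = (z - algebraMap A B a₁) * (e - d) + (z - algebraMap A B a₁) * d := by ring
      rw [this]
      exact IB.add_mem (IB.mul_mem_left _ hed) (hkerd _ hw)
    have h2 := hIθ _ hwe
    rw [map_mul, hθe, mul_one, map_sub, θ.commutes] at h2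
    have : θ z = algebraMap A C a₁ + (θ z - algebraMap A C a₁) := by ring
    show θ z ∈ _
    rw [this]
    exact add_mem (Submodule.mem_sup_left ⟨a₁, rfl⟩) (Submodule.mem_sup_right h2)
  let σ' : C →ₐ[A] A ⧸ I := IsLocalization.Away.liftAlgHom ((s : S) * e) (f := σ) (by
    rw [map_mul, hs1, one_mul]
    exact hφe ▸ isUnit_one)
  have hσ' : ∀ x, σ' (ψ x) = σ x := fun x => by simp [σ', ψ]
  have hinj0 : RingHom.ker (algebraMap A C) ≤ I := fun x hx => by
    have := σ'.commutes x
    rw [show algebraMap A C x = 0 from hx, map_zero] at this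
    exact Ideal.Quotient.eq_zero_iff_mem.1 this.symm
  obtain ⟨as, has⟩ := hBim ⟨s, rfl⟩
  have hasu : IsUnit as := isUnit_of_sub_mem hI isUnit_one (by
    rw [← Ideal.Quotient.eq_zero_iff_mem, map_sub, map_one]
    have h1 : σ' (algebraMap A C as) = σ' (θ s) := congrArg σ' has
    rw [σ'.commutes, Ideal.Quotient.algebraMap_eq] at h1
    rw [h1]
    show σ' (ψ s.1) - 1 = 0
    rw [hσ', hs1, sub_self])
  have hsur : Function.Surjective (algebraMap A C) := fun x => by
    have hψ : ∀ y : S, ∃ a, algebraMap A C a = ψ y := fun y => by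
      obtain ⟨mm, hmm⟩ := hsx y
      obtain ⟨a₂, ha₂⟩ := hBim ⟨⟨_, hmm⟩, rfl⟩
      refine ⟨↑(hasu.unit ^ mm)⁻¹ * a₂, ?_⟩
      have h1 : algebraMap A C a₂ = algebraMap A C as ^ mm * ψ y := by
        rw [show algebraMap A C as = ψ s.1 from has, ← map_pow, ← map_mul]
        exact ha₂
      rw [map_mul, h1, ← mul_assoc, ← map_pow, ← map_mul,
        show (↑(hasu.unit ^ mm)⁻¹ : A) * as ^ mm = 1 from by
          have h3 := Units.inv_mul (hasu.unit ^ mm)
          rwa [Units.val_pow_eq_pow_val, hasu.unit_spec] at h3]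
      simp
    obtain ⟨y, ⟨_, nn, rfl⟩, rfl⟩ := IsLocalization.exists_mk'_eq (Submonoid.powers ((s : S) * e)) x
    obtain ⟨a₁, ha₁⟩ := hψ y
    obtain ⟨a₂, ha₂⟩ := hψ (((s : S) * e) ^ nn)
    have hu2 : IsUnit a₂ := isUnit_of_sub_mem hI isUnit_one (by
      rw [← Ideal.Quotient.eq_zero_iff_mem, map_sub, map_one]
      have h1 := congrArg σ' ha₂
      rw [σ'.commutes, Ideal.Quotient.algebraMap_eq, hσ', map_pow, map_mul, hs1, one_mul,
        show σ (e : S) = φ e from rfl, hφe, one_pow] at h1
      rw [h1, sub_self])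
    refine ⟨↑hu2.unit⁻¹ * a₁, ?_⟩
    rw [IsLocalization.eq_mk'_iff_mul_eq, map_mul, ha₁]
    show algebraMap A C _ * ψ y * ψ (((s : S) * e) ^ nn) = ψ y
    rw [← ha₂, mul_right_comm, ← map_mul]
    simp
  haveI : Module.Flat A C := by
    haveI : Module.Flat S C := IsLocalization.flat C (Submonoid.powers ((s : S) * e))
    exact Module.Flat.trans A S C
  have hbij : Function.Bijective (algebraMap A C) := ⟨injective_algebraMap_of_flat hI hsur hinj0, hsur⟩
  let eqv : A ≃ₐ[A] C := AlgEquiv.ofBijective (Algebra.ofId A C) hbij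
  refine ⟨eqv.symm.toAlgHom.comp ψ, AlgHom.ext fun x => ?_⟩
  show Ideal.Quotient.mk I (eqv.symm (ψ x)) = σ x
  rw [← hσ']
  obtain ⟨a', ha'⟩ := hsur (ψ x)
  rw [← ha', σ'.commutes, show algebraMap A C a' = eqv a' from rfl, AlgEquiv.symm_apply_apply]
  rfl

end HenselLib
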