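import Groth.Agent.HenselLib.NewtonSystem
import Mathlib.RingTheory.Smooth.Basic
import Mathlib.LinearAlgebra.Matrix.Charpoly.Coeff

/-! Points of smooth algebras lift along henselian pairs. -/

set_option autoImplicit false
universe u

open TensorProduct MvPolynomial

namespace HenselLib

variable {A : Type u} [CommRing A]

/-- First order expansion. -/
theorem taylor_mem {n : ℕ} (J : Ideal (MvPolynomial (Fin n) A)) (h : Fin n → MvPolynomial (Fin n) A)
    (hJ : ∀ k, h k ∈ J) (p : MvPolynomial (Fin n) A) :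
    aeval (fun k => X k - h k) p - p + ∑ k, pderiv k p * h k ∈ J ^ 2 := by
  induction p using MvPolynomial.induction_on with
  | C a => simp
  | add p q hp hq =>
    convert add_mem hp hq using 1
    simp only [map_add, add_mul, Finset.sum_add_distrib]; ring
  | mul_X p i hp =>
    have hD : ∑ k, pderiv k p * h k ∈ J := sum_mem fun k _ => Ideal.mul_mem_left _ _ (hJ k)
    have hs : ∑ k, pderiv k (p * X i) * h k = (∑ k, pderiv k p * h k) * X i + p * h i := by
      simp only [pderiv_mul, add_mul, Finset.sum_add_distrib, Finset.sum_mul, pderiv_X, Pi.single_apply]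
      congr 1
      · exact Finset.sum_congr rfl fun k _ => by ring
      · simp [eq_comm]
    have key : aeval (fun k => X k - h k) (p * X i) - p * X i + ∑ k, pderiv k (p * X i) * h k =
        (aeval (fun k => X k - h k) p - p + ∑ k, pderiv k p * h k) * (X i - h i) + (∑ k, pderiv k p * h k) * h i := by
      rw [hs, map_mul, aeval_X]; ring
    rw [key]
    refine add_mem (Ideal.mul_mem_right _ _ hp) ?_
    rw [pow_two]
    exact Ideal.mul_mem_mul hD (hJ i)

theorem exists_point_lift {I : Ideal A} [HenselianRing A I] (S : Type u) [CommRing S] [Algebra A S]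
    [Algebra.Smooth A S] (σ : S →ₐ[A] A ⧸ I) :
    ∃ τ : S →ₐ[A] A, (Ideal.Quotient.mkₐ A I).comp τ = σ := by
  classical
  obtain ⟨n, f, hf, hfg⟩ := Algebra.FinitePresentation.out (R := A) (A := S)
  let J : Ideal (MvPolynomial (Fin n) A) := RingHom.ker f.toRingHom
  choose x₀ hx₀ using fun k : Fin n => Ideal.Quotient.mk_surjective (σ (f (X k)))
  have hσ : ∀ p, σ (f p) = Ideal.Quotient.mk I (eval x₀ p) := fun p => by
    induction p using MvPolynomial.induction_on with
    | C a => rw [← MvPolynomial.algebraMap_eq, AlgHom.commutes, AlgHom.commutes, MvPolynomial.algebraMap_eq, eval_C]; rfl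
    | add p q hp hq => simp [map_add, hp, hq]
    | mul_X p i hp => simp [map_mul, hp, hx₀]
  let g₁ : (MvPolynomial (Fin n) A ⧸ J ^ 2) →ₐ[A] S := Ideal.Quotient.liftₐ _ f fun a ha =>
    (Ideal.pow_le_self two_ne_zero ha : a ∈ J)
  have hg₁ : Function.Surjective g₁ := fun s => by
    obtain ⟨p, rfl⟩ := hf s
    exact ⟨Ideal.Quotient.mk _ p, rfl⟩
  have hnil : IsNilpotent (RingHom.ker (g₁ : MvPolynomial (Fin n) A ⧸ J ^ 2 →+* S)) := by
    refine ⟨2, le_bot_iff.1 ?_⟩
    have hle : RingHom.ker (g₁ : MvPolynomial (Fin n) A ⧸ J ^ 2 →+* S) ≤ J.map (Ideal.Quotient.mk (J ^ 2)) := fun z hz => by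
      obtain ⟨p, rfl⟩ := Ideal.Quotient.mk_surjective z
      exact Ideal.mem_map_of_mem _ (hz : p ∈ J)
    exact (Ideal.pow_right_mono hle 2).trans (by rw [← Ideal.map_pow, Ideal.map_quotient_self])
  let s₂ := Algebra.FormallySmooth.liftOfSurjective (AlgHom.id A S) g₁ hg₁ hnil
  choose w hw using fun k : Fin n => Ideal.Quotient.mk_surjective (s₂ (f (X k)))
  let h : Fin n → MvPolynomial (Fin n) A := fun k => X k - w k
  have hhJ : ∀ k, h k ∈ J := fun k => by
    show f (X k - w k) = 0
    rw [map_sub, sub_eq_zero, show f (w k) = g₁ (Ideal.Quotient.mk _ (w k)) from rfl, hw,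
      Algebra.FormallySmooth.liftOfSurjective_apply, AlgHom.id_apply]
  have hθ : (Ideal.Quotient.mkₐ A (J ^ 2)).comp (aeval fun k => X k - h k) = s₂.comp f :=
    MvPolynomial.algHom_ext fun k => by
      show Ideal.Quotient.mk (J ^ 2) (aeval (fun k => X k - h k) (X k : MvPolynomial (Fin n) A)) = s₂ (f (X k))
      rw [aeval_X, sub_sub_cancel, hw]
  have hJ2 : ∀ p ∈ J, p - ∑ k, pderiv k p * h k ∈ J ^ 2 := fun p hp => by
    have h1 : aeval (fun k => X k - h k) p ∈ J ^ 2 := by
      rw [← Ideal.Quotient.eq_zero_iff_mem]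
      refine (AlgHom.congr_fun hθ p).trans ?_
      show s₂ (f p) = 0
      rw [show f p = 0 from hp, map_zero]
    have := sub_mem h1 (taylor_mem J h hhJ p)
    convert this using 1
    ring
  let K : Ideal (MvPolynomial (Fin n) A) := I.comap (eval x₀)
  have hJK : J ≤ K := fun p hp => by
    show eval x₀ p ∈ I
    rw [← Ideal.Quotient.eq_zero_iff_mem, ← hσ, show f p = 0 from hp, map_zero]
  have hJ2K : J ^ 2 ≤ K * J := by rw [pow_two]; exact Ideal.mul_mono_left hJK
  have hmk : ∀ p ∈ J, p - ∑ k, C (eval x₀ (pderiv k p)) * h k ∈ K * J := fun p hp => by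
    have h1 : ∑ k, (pderiv k p - C (eval x₀ (pderiv k p))) * h k ∈ K * J :=
      sum_mem fun k _ => Ideal.mul_mem_mul (by show eval x₀ _ ∈ I; simp) (hhJ k)
    convert add_mem (hJ2K (hJ2 p hp)) h1 using 1
    simp only [sub_mul, Finset.sum_sub_distrib]; ring
  let Dm : Matrix (Fin n) (Fin n) A := Matrix.of fun l k => eval x₀ (pderiv l (h k))
  have hder : ∀ p ∈ K * J, ∀ i, eval x₀ (pderiv i p) ∈ I := fun p hp i => by
    refine Submodule.mul_induction_on hp (fun a ha b hb => ?_) fun a b ha hb => by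
      rw [map_add, map_add]; exact add_mem ha hb
    rw [pderiv_mul, map_add, map_mul, map_mul]
    exact add_mem (I.mul_mem_left _ (hJK hb)) (I.mul_mem_right _ ha)
  let M₀ := Dm.map (Ideal.Quotient.mk I)
  have hidem : IsIdempotentElem M₀ := by
    show M₀ * M₀ = M₀
    ext i k
    have := hder _ (hmk _ (hhJ k)) i
    rw [← Ideal.Quotient.eq_zero_iff_mem] at this
    simp only [map_sub, map_sum, Derivation.leibniz, pderiv_C, smul_zero, add_zero, smul_eq_mul, map_mul, eval_C,
      sub_eq_zero] at this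
    simp only [M₀, Matrix.mul_apply, Matrix.map_apply, Dm, Matrix.of_apply]
    rw [this]
    exact Finset.sum_congr rfl fun l _ => by simp [mul_comm]
  let N := Dm * Dm - Dm
  have hN : N.map (Ideal.Quotient.mk I) = 0 := by
    rw [Matrix.map_sub _ (map_sub _), Matrix.map_mul, hidem.eq, sub_self]
  have hPc : ∀ i < N.charpoly.natDegree, N.charpoly.coeff i ∈ I := fun i hi => by
    rw [← Ideal.Quotient.eq_zero_iff_mem, ← Polynomial.coeff_map, ← Matrix.charpoly_map, hN, Matrix.charpoly_zero,
      Polynomial.coeff_X_pow, if_neg]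
    rcases subsingleton_or_nontrivial A with h | h
    · haveI := h
      rw [Subsingleton.elim N.charpoly 0, Polynomial.natDegree_zero] at hi
      omega
    · rw [Matrix.charpoly_natDegree_eq_dim] at hi
      exact hi.ne
  obtain ⟨E, hE, hEq⟩ := exists_idem_polynomial.{u, u, u} (I := I) Dm N.charpoly (Matrix.charpoly_monic _) hPc
    (Matrix.aeval_self_charpoly _)
  let Q : Matrix (Fin n) (Fin n) A := Polynomial.aeval Dm E
  have hQ : Q.map (Ideal.Quotient.mk I) = M₀ := by
    refine hEq (Ideal.Quotient.mkₐ A I).mapMatrix (fun a ha => Matrix.ext fun i j => ?_) hidem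
    rw [Matrix.algebraMap_matrix_apply, Matrix.zero_apply]
    split_ifs
    · exact Ideal.Quotient.eq_zero_iff_mem.2 ha
    · rfl
  have hQ' : ∀ l k, Ideal.Quotient.mk I (Q l k) = Ideal.Quotient.mk I (Dm l k) := fun l k => congrFun (congrFun hQ l) k
  let uu : Fin n → MvPolynomial (Fin n) A := fun k => ∑ l, C (Q l k) * h l
  let y : Fin n → MvPolynomial (Fin n) A := fun l => X l - C (x₀ l)
  let g : Fin n → MvPolynomial (Fin n) A := fun k => uu k + ∑ l, C ((1 - Q) l k) * y l
  have h₁ : ∀ k, eval x₀ (g k) ∈ I := fun k => by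
    simp only [g, uu, y, map_add, map_sum, map_mul, eval_C, map_sub, eval_X, sub_self, mul_zero,
      Finset.sum_const_zero, add_zero]
    exact sum_mem fun l _ => I.mul_mem_left _ (hJK (hhJ l))
  have h₂ : IsUnit (Ideal.Quotient.mk I (eval x₀ (Matrix.of fun i j => pderiv i (g j)).det)) := by
    suffices ((Matrix.of fun i j => pderiv i (g j)).map (eval x₀)).map (Ideal.Quotient.mk I) = 1 by
      rw [RingHom.map_det, RingHom.map_det, RingHom.mapMatrix_apply, RingHom.mapMatrix_apply, this, Matrix.det_one]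
      exact isUnit_one
    have hdiff : ((Matrix.of fun i j => pderiv i (g j)).map (eval x₀)) = Dm * Q + (1 - Q) := by
      ext i j
      simp only [g, uu, y, Matrix.map_apply, Matrix.of_apply, Matrix.add_apply, Matrix.mul_apply, Dm, map_add, map_sum,
        map_sub, Derivation.leibniz, pderiv_C, pderiv_X, smul_eq_mul, map_mul, eval_C, smul_zero, add_zero, sub_zero,
        mul_zero]
      congr 1
      · exact Finset.sum_congr rfl fun l _ => by ring
      · simp [Pi.single_apply]
    rw [hdiff, Matrix.map_add _ (map_add _), Matrix.map_sub _ (map_sub _), Matrix.map_mul, hQ,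
      Matrix.map_one _ (map_zero _) (map_one _), show Dm.map (Ideal.Quotient.mk I) = M₀ from rfl, hidem.eq,
      add_sub_cancel]
  obtain ⟨x, hx, hxx⟩ := exists_root_system (I := I) g x₀ h₁ h₂
  have hu : ∀ k, eval x (uu k) = 0 := fun k => by
    have hrow : Matrix.vecMul (fun l => eval x (h l)) Q + Matrix.vecMul (fun l => x l - x₀ l) (1 - Q) = 0 := by
      funext j
      have := hx j
      simp only [g, uu, y, map_add, map_sum, map_mul, eval_C, map_sub, eval_X] at this
      simp only [Pi.add_apply, Pi.zero_apply, Matrix.vecMul, dotProduct]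
      rw [← this]
      congr 1 <;> exact Finset.sum_congr rfl fun l _ => by ring
    have h2 := congrArg (fun v => Matrix.vecMul v Q) hrow
    simp only [Matrix.add_vecMul, Matrix.vecMul_vecMul, Matrix.zero_vecMul, sub_mul, one_mul,
      show Q * Q = Q from hE, sub_self, Matrix.vecMul_zero, add_zero] at h2
    have h3 := congrFun h2 k
    simp only [uu, map_sum, map_mul, eval_C]
    simp only [Matrix.vecMul, dotProduct, Pi.zero_apply] at h3
    rw [← h3]
    exact Finset.sum_congr rfl fun l _ => by ring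
  have hK : K.map (eval x) ≤ I := Ideal.map_le_iff_le_comap.2 fun p hp => by
    show eval x p ∈ I
    rw [← Ideal.Quotient.eq_zero_iff_mem]
    refine Eq.trans ?_ (Ideal.Quotient.eq_zero_iff_mem.2 (hp : eval x₀ p ∈ I))
    rw [eval₂_comp, eval₂_comp]
    exact congrArg (fun v => MvPolynomial.eval₂ _ v p) (funext fun i => Ideal.Quotient.eq.2 (hxx i))
  let F := J.map (eval x)
  have hF : F ≤ I • F := by
    have hKJ : ∀ p ∈ K * J, eval x p ∈ I * F := fun p hp => by
      have := Ideal.mem_map_of_mem (eval x) hp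
      rw [Ideal.map_mul] at this
      exact Ideal.mul_mono_left hK this
    have hhk : ∀ k, eval x (h k) ∈ I * F := fun k => by
      have h1 := hKJ _ (hmk _ (hhJ k))
      have h2 : ∑ l, eval x (C (Q l k) * h l) = 0 := by rw [← map_sum]; exact hu k
      simp only [map_sub, map_sum, map_mul, eval_C] at h1 h2
      have h3 : ∑ l, (Q l k - Dm l k) * eval x (h l) ∈ I * F := sum_mem fun l _ =>
        Ideal.mul_mem_mul (Ideal.Quotient.eq.1 (hQ' l k)) (Ideal.mem_map_of_mem _ (hhJ l))
      simp only [sub_mul, Finset.sum_sub_distrib, h2, zero_sub] at h3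
      convert sub_mem h1 h3 using 1
      simp only [Dm, Matrix.of_apply]; ring
    refine Ideal.map_le_iff_le_comap.2 fun p hp => ?_
    show eval x p ∈ I • F
    rw [smul_eq_mul, show p = (p - ∑ k, C (eval x₀ (pderiv k p)) * h k) + ∑ k, C (eval x₀ (pderiv k p)) * h k from
      (sub_add_cancel _ _).symm, map_add, map_sum]
    exact add_mem (hKJ _ (hmk _ hp)) (sum_mem fun k _ => by rw [map_mul]; exact Ideal.mul_mem_left _ _ (hhk k))
  have hF0 : F = ⊥ :=
    Submodule.eq_bot_of_le_smul_of_le_jacobson_bot I F (Ideal.FG.map hfg _) hF (HenselianRing.jac (I := I))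
  have hker : ∀ p ∈ J, aeval x p = (0 : A) := fun p hp => by
    have : eval x p ∈ F := Ideal.mem_map_of_mem _ hp
    rw [hF0, Submodule.mem_bot] at this
    exact (RingHom.congr_fun (MvPolynomial.coe_aeval_eq_eval _) p).trans this
  let τ₀ : MvPolynomial (Fin n) A ⧸ J →ₐ[A] A := Ideal.Quotient.liftₐ J (aeval x) hker
  let τ : S →ₐ[A] A := τ₀.comp (Ideal.quotientKerAlgEquivOfSurjective hf).symm.toAlgHom
  refine ⟨τ, AlgHom.ext fun s => ?_⟩
  obtain ⟨p, rfl⟩ := hf s
  have hs : (Ideal.quotientKerAlgEquivOfSurjective hf).symm (f p) = Ideal.Quotient.mk J p := by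
    rw [AlgEquiv.symm_apply_eq]; rfl
  show Ideal.Quotient.mk I (τ₀ ((Ideal.quotientKerAlgEquivOfSurjective hf).symm (f p))) = σ (f p)
  rw [hs, hσ]
  show Ideal.Quotient.mk I (aeval x p) = _
  rw [show aeval x p = eval x p from RingHom.congr_fun (MvPolynomial.coe_aeval_eq_eval _) p, eval₂_comp, eval₂_comp]
  exact congrArg (fun v => MvPolynomial.eval₂ _ v p) (funext fun i => Ideal.Quotient.eq.2 (hxx i))

theorem exists_smooth_lift {R : Type u} [CommRing R] (S : Type u) [CommRing S] [Algebra R S] [Algebra.Smooth R S]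
    [Algebra R A] (I : Ideal A) [HenselianRing A I] (σ : S →ₐ[R] A ⧸ I) :
    ∃ τ : S →ₐ[R] A, (Ideal.Quotient.mkₐ R I).comp τ = σ := by
  let σA : A ⊗[R] S →ₐ[A] A ⧸ I := Algebra.TensorProduct.lift (Algebra.ofId A (A ⧸ I)) σ fun _ _ => .all _ _
  obtain ⟨τ, hτ⟩ := exists_point_lift (A ⊗[R] S) σA
  refine ⟨(τ.restrictScalars R).comp Algebra.TensorProduct.includeRight, AlgHom.ext fun s => ?_⟩
  refine (AlgHom.congr_fun hτ (1 ⊗ₜ s)).trans ?_
  exact (Algebra.TensorProduct.lift_tmul _ _ _ _ _).trans (by rw [map_one, one_mul])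

end HenselLib
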