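import Groth.Agent.HenselLib.Criteria

/-! The Henselian property from finite free algebras. -/

set_option autoImplicit false
universe u v w

noncomputable section

open Polynomial Ideal Pointwise TensorProduct

namespace HenselLib

variable {A : Type u} [CommRing A] {I : Ideal A}

/-- Lifting idempotents of finite free algebras gives the Henselian property. -/
theorem henselianRing_of_idempotents_free (hI : I ≤ Ideal.jacobson ⊥)
    (h : ∀ (B : Type u) [CommRing B] [Algebra A B] [Module.Finite A B] [Module.Free A B],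
      Set.BijOn (Ideal.Quotient.mk (I.map (algebraMap A B))) {e : B | IsIdempotentElem e} {e | IsIdempotentElem e}) :
    HenselianRing A I := by
  refine henselianRing_of_gabberRoots hI fun n hn p hp hc => ?_
  let f := X ^ n * (X - 1) + p
  have hf : f.Monic := monic_gabber hp
  haveI := hf.finite_adjoinRoot
  haveI := hf.free_adjoinRoot
  let B := AdjoinRoot f
  let x : B := AdjoinRoot.root f
  let IB := I.map (algebraMap A B)
  have hx : x ^ n * (x - 1) ∈ IB := by
    have h0 : aeval x f = 0 := AdjoinRoot.aeval_eq f ▸ AdjoinRoot.mk_self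
    have hp' : aeval x p ∈ IB := by
      rw [aeval_eq_sum_range]
      exact sum_mem fun i _ => by
        rw [Algebra.smul_def]
        exact IB.mul_mem_right _ (Ideal.mem_map_of_mem _ (hc i))
    have : x ^ n * (x - 1) = - aeval x p := by
      rw [map_add] at h0
      simpa using eq_neg_of_add_eq_zero_left h0
    rw [this]; exact IB.neg_mem hp'
  have hstep : ∀ m, n ≤ m → x ^ m - x ^ n ∈ IB := by
    intro m hm
    induction m, hm using Nat.le_induction with
    | base => simp
    | succ m hm ih =>
      have : x ^ (m + 1) - x ^ n = x * (x ^ m - x ^ n) + x ^ n * (x - 1) := by ring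
      rw [this]
      exact IB.add_mem (IB.mul_mem_left _ ih) hx
  obtain ⟨e, he, hex⟩ := (h B).surjOn (show IsIdempotentElem (Ideal.Quotient.mk IB (x ^ n)) by
    show _ * _ = _
    rw [← map_mul, ← pow_add, Ideal.Quotient.eq]
    exact hstep _ (Nat.le_add_right n n))
  have hex' : e - x ^ n ∈ IB := Ideal.Quotient.eq.1 hex
  let C := B ⧸ Ideal.span {1 - e}
  let μ : B →ₐ[A] C := Ideal.Quotient.mkₐ A _
  have hμe : μ e = 1 := by
    have : μ (1 - e) = 0 := Ideal.Quotient.eq_zero_iff_mem.2 (Ideal.mem_span_singleton_self _)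
    rw [map_sub, map_one, sub_eq_zero] at this
    exact this.symm
  have hμI : ∀ z ∈ IB, μ z ∈ I.map (algebraMap A C) := fun z hz => by
    have := Ideal.mem_map_of_mem (μ : B →+* C) hz
    rwa [Ideal.map_map, μ.comp_algebraMap] at this
  have hxm : (μ x) ^ n - 1 ∈ I.map (algebraMap A C) := by
    rw [← hμe, ← map_pow, ← map_sub, show x ^ n - e = -(e - x ^ n) by ring, map_neg]
    exact neg_mem (hμI _ hex')
  have hx1 : μ x - 1 ∈ I.map (algebraMap A C) := by
    have h1 : (μ x) ^ n * (μ x - 1) ∈ I.map (algebraMap A C) := by simpa using hμI _ hx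
    have : μ x - 1 = (μ x) ^ n * (μ x - 1) - ((μ x) ^ n - 1) * (μ x - 1) := by ring
    rw [this]
    exact (I.map _).sub_mem h1 ((I.map _).mul_mem_right _ hxm)
  haveI : Module.Flat A C := by
    have hproj : Module.Flat B C := by
      exact Ideal.Pure.of_isIdempotentElem ⟨{1 - e}, by simp⟩ (by
        show Ideal.span {1 - e} * Ideal.span {1 - e} = _
        rw [Ideal.span_singleton_mul_span_singleton, he.one_sub.eq])
    exact Module.Flat.trans A B C
  have hsur : Function.Surjective (algebraMap A C) := surjective_algebraMap_of_le hI fun z => by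
    obtain ⟨z, rfl⟩ := Ideal.Quotient.mk_surjective z
    obtain ⟨F, rfl⟩ := AdjoinRoot.mk_surjective z
    refine ⟨F.eval 1, ?_⟩
    show μ (AdjoinRoot.mk f F) - _ ∈ _
    rw [← AdjoinRoot.aeval_eq, ← Polynomial.aeval_algHom_apply, ← Polynomial.aeval_algebraMap_apply_eq_algebraMap_eval,
      map_one]
    exact Ideal.mem_of_dvd _ (sub_dvd_eval_sub (μ x) 1 (F.map (algebraMap A C)) |> fun d => by
      simpa [eval_map_algebraMap] using d) hx1
  have haux : eval₂ (Algebra.ofId A (A ⧸ I) : A →+* A ⧸ I) 1 f = 0 := by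
    have hpπ : p.map (Ideal.Quotient.mk I) = 0 := by
      ext i; rw [coeff_map, coeff_zero, Ideal.Quotient.eq_zero_iff_mem]; exact hc i
    rw [eval₂_eq_eval_map]
    show (f.map (Ideal.Quotient.mk I)).eval 1 = 0
    simp [f, Polynomial.map_add, hpπ]
  let σC : C →ₐ[A] A ⧸ I := Ideal.Quotient.liftₐ _
    (AdjoinRoot.liftAlgHom f (Algebra.ofId A (A ⧸ I)) 1 haux)
    (by
      intro z hz
      obtain ⟨w, rfl⟩ := Ideal.mem_span_singleton.1 hz
      rw [map_mul, map_sub, map_one]
      let ψ := AdjoinRoot.liftAlgHom f (Algebra.ofId A (A ⧸ I)) 1 haux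
      have hk : ∀ z ∈ IB, ψ z = 0 := fun z hz => by
        have : IB ≤ RingHom.ker ψ := Ideal.map_le_iff_le_comap.2 fun a ha => by
          show ψ (algebraMap A B a) = 0
          rw [ψ.commutes, Ideal.Quotient.algebraMap_eq, Ideal.Quotient.eq_zero_iff_mem.2 ha]
        exact this hz
      have h1 := hk _ hex'
      rw [map_sub, map_pow, show ψ x = 1 from AdjoinRoot.liftAlgHom_root .., one_pow, sub_eq_zero] at h1
      rw [h1, sub_self, zero_mul])
  have hker : RingHom.ker (algebraMap A C) ≤ I := fun a ha => by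
    have := σC.commutes a
    rw [show algebraMap A C a = 0 from ha, map_zero] at this
    exact Ideal.Quotient.eq_zero_iff_mem.1 this.symm
  have hinj := injective_algebraMap_of_flat hI hsur hker
  obtain ⟨α, hα⟩ := hsur (μ x)
  refine ⟨α, ?_, ?_⟩
  · rw [← Ideal.Quotient.eq]
    have h1 : σC (algebraMap A C α) = σC (μ x) := congrArg σC hα
    rw [σC.commutes, Ideal.Quotient.algebraMap_eq] at h1
    rw [h1, map_one]
    show AdjoinRoot.liftAlgHom f (Algebra.ofId A (A ⧸ I)) 1 haux (AdjoinRoot.root f) = 1
    exact AdjoinRoot.liftAlgHom_root ..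
  · show f.eval α = 0
    apply hinj
    rw [map_zero, ← Polynomial.aeval_algebraMap_apply_eq_algebraMap_eval, hα, Polynomial.aeval_algHom_apply,
      AdjoinRoot.aeval_eq, AdjoinRoot.mk_self, map_zero]

end HenselLib
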