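import Groth.Agent.HenselLib.LocalCover
import Mathlib.RingTheory.Smooth.IntegralClosure
import Mathlib.RingTheory.IntegralClosure.IntegrallyClosed
import Mathlib.RingTheory.Unramified.Field

/-! Normality of étale local algebras and of henselizations. -/

set_option autoImplicit false
universe u

open TensorProduct IsLocalRing

namespace HenselLib

theorem exists_idem_factor {L : Type u} [CommRing L] [IsReduced L] [IsArtinianRing L] (x : L) :
    ∃ y, x * y * x = x := by
  let e := IsArtinianRing.equivPi L
  have hy : ∀ M : MaximalSpectrum L, ∃ y : L ⧸ M.asIdeal, e x M * y * e x M = e x M := fun M => by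
    letI : Field (L ⧸ M.asIdeal) := Ideal.Quotient.field M.asIdeal
    rcases eq_or_ne (e x M) 0 with h | h
    · exact ⟨0, by rw [h]; simp⟩
    · exact ⟨(e x M)⁻¹, by rw [mul_inv_cancel₀ h, one_mul]⟩
  choose y hy using hy
  exact ⟨e.symm y, e.injective (funext fun M => by
    rw [map_mul, map_mul, AlgEquiv.apply_symm_apply]; exact hy M)⟩

/-- A local ring of an étale algebra over a normal domain is a normal domain. -/
theorem normal_localization_etale (R : Type u) [CommRing R] [IsDomain R] [IsIntegrallyClosed R]
    (U : Type u) [CommRing U] [Algebra R U] [Algebra.Etale R U] (q : Ideal U) [q.IsPrime] :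
    IsDomain (Localization.AtPrime q) ∧ IsIntegrallyClosed (Localization.AtPrime q) := by
  let B := Localization.AtPrime q
  let K := FractionRing R
  let L := B ⊗[R] K
  have H : Function.Bijective (TensorProduct.toIntegralClosure R U K) :=
    TensorProduct.toIntegralClosure_bijective_of_smooth
  have H2 : Function.Bijective (TensorProduct.toIntegralClosure R B K) :=
    TensorProduct.toIntegralClosure_bijective_of_tower H
      (TensorProduct.toIntegralClosure_bijective_of_isLocalization q.primeCompl)
  have hint : ∀ x : L, IsIntegral B x → ∃ b : B, b ⊗ₜ[R] (1 : K) = x := fun x hx => by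
    obtain ⟨z, hz⟩ := H2.2 ⟨x, hx⟩
    have hz' : Algebra.TensorProduct.map (AlgHom.id B B) (integralClosure R K).val z = x :=
      congrArg Subtype.val hz
    rw [← hz']
    clear hz hz' hx
    induction z with
    | zero => exact ⟨0, by rw [map_zero, TensorProduct.zero_tmul]⟩
    | add a b ha hb =>
      obtain ⟨c, hc⟩ := ha
      obtain ⟨d, hd⟩ := hb
      exact ⟨c + d, by rw [map_add, ← hc, ← hd, TensorProduct.add_tmul]⟩
    | tmul b k =>
      obtain ⟨r, hr⟩ := IsIntegrallyClosed.algebraMap_eq_of_integral (R := R) (K := K) k.2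
      refine ⟨r • b, ?_⟩
      rw [Algebra.TensorProduct.map_tmul, TensorProduct.smul_tmul, AlgHom.coe_id, id_eq]
      show _ = b ⊗ₜ[R] (k : K)
      rw [← hr, Algebra.smul_def, mul_one]
  haveI : Module.Flat U B := IsLocalization.flat B q.primeCompl
  haveI : Module.Flat R B := Module.Flat.trans R U B
  have hinj : Function.Injective (algebraMap B L) :=
    Algebra.TensorProduct.includeLeft_injective (R := R) (S := B) (A := B) (B := K) (IsFractionRing.injective R K)
  haveI : Algebra.FormallyUnramified U B := Algebra.FormallyUnramified.of_isLocalization q.primeCompl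
  haveI : Algebra.FormallyUnramified R B := Algebra.FormallyUnramified.comp R U B
  haveI : Algebra.EssFiniteType R B := Algebra.EssFiniteType.comp R U B
  haveI : Algebra.FormallyUnramified K (K ⊗[R] B) := inferInstance
  haveI : Algebra.EssFiniteType K (K ⊗[R] B) := inferInstance
  haveI : IsReduced (K ⊗[R] B) := Algebra.FormallyUnramified.isReduced_of_field K _
  haveI : Module.Finite K (K ⊗[R] B) := Algebra.FormallyUnramified.finite_of_free K _
  haveI : IsArtinianRing (K ⊗[R] B) := IsArtinianRing.of_finite K _
  let c : K ⊗[R] B ≃ₐ[R] L := Algebra.TensorProduct.comm R K B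
  have hidem : ∀ x : L, x ≠ 0 → IsUnit x := fun x hx => by
    obtain ⟨y, hy⟩ := exists_idem_factor (c.symm x)
    have hy' : x * c y * x = x := by
      simpa using congrArg c hy
    let e := x * c y
    have he : e * e = e := by simp only [e]; linear_combination (c y) * hy'
    obtain ⟨b, hb⟩ := hint e ⟨Polynomial.X ^ 2 - Polynomial.X,
      Polynomial.monic_X_pow_sub (by simp), by simp [pow_two, he]⟩
    have hb' : algebraMap B L b = e := hb
    have hbb : IsIdempotentElem b := hinj (by rw [map_mul, hb', he])
    by_cases hu : IsUnit b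
    · exact isUnit_of_mul_isUnit_left (show IsUnit (x * c y) from (hb' ▸ hu.map (algebraMap B L) : IsUnit e))
    · have : IsUnit (1 - b) := (IsLocalRing.isUnit_or_isUnit_one_sub_self b).resolve_left hu
      have h0 : b = 0 := this.mul_left_eq_zero.1 (by rw [mul_sub, mul_one, hbb.eq, sub_self])
      exact absurd (by rw [← hy', show x * c y = e from rfl, ← hb', h0, map_zero, zero_mul]) hx
  haveI : Nontrivial L := hinj.nontrivial
  have hnz : ∀ x y : B, x * y = 0 → x = 0 ∨ y = 0 := fun x y h => by
    by_contra hc
    push_neg at hc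
    have hx : algebraMap B L x ≠ 0 := fun h0 => hc.1 (hinj (by rw [h0, map_zero]))
    refine hc.2 (hinj ?_)
    rw [map_zero]
    exact (hidem _ hx).mul_right_eq_zero.1 (by rw [← map_mul, h, map_zero])
  haveI : NoZeroDivisors B := ⟨fun {a b} h => hnz a b h⟩
  haveI hdom : IsDomain B := NoZeroDivisors.to_isDomain B
  refine ⟨hdom, (isIntegrallyClosed_iff (FractionRing B)).2 fun {x} hx => ?_⟩
  have hg : ∀ y : nonZeroDivisors B, IsUnit (algebraMap B L y) := fun y => hidem _ fun h0 =>
    nonZeroDivisors.ne_zero y.2 (hinj (by rw [h0, map_zero]))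
  let g : FractionRing B →+* L := IsLocalization.lift hg
  have hgc : g.comp (algebraMap B (FractionRing B)) = algebraMap B L := IsLocalization.lift_comp hg
  obtain ⟨p, hp, hpx⟩ := hx
  obtain ⟨b, hb⟩ := hint (g x) ⟨p, hp, by rw [← hgc, ← Polynomial.hom_eval₂, hpx, map_zero]⟩
  refine ⟨b, g.injective ?_⟩
  rw [← RingHom.comp_apply, hgc]
  exact hb

theorem normal_of_etCov {R S : Type u} [CommRing R] [CommRing S] [Algebra R S] [IsDomain R] [IsIntegrallyClosed R]
    [IsLocalRing S] [Module.Flat R S] (hcov : ∀ x : S, EtCov (R := R) x) : IsDomain S ∧ IsIntegrallyClosed S := by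
  classical
  have hB : ∀ s : Finset S, ∃ (B : Type u) (_ : CommRing B) (_ : IsDomain B) (_ : IsIntegrallyClosed B)
      (f : B →+* S), Function.Injective f ∧ ∀ x ∈ s, x ∈ f.range := fun s => by
    obtain ⟨U, _, _, _, q, _, ψ, hloc, hflat, hs⟩ := exists_local_cover hcov s
    obtain ⟨h1, h2⟩ := normal_localization_etale R U q
    letI : Algebra (Localization.AtPrime q) S := (ψ : Localization.AtPrime q →+* S).toAlgebra
    haveI : Module.Flat (Localization.AtPrime q) S := hflat
    haveI : IsLocalHom (algebraMap (Localization.AtPrime q) S) := hloc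
    haveI : Module.FaithfullyFlat (Localization.AtPrime q) S := Module.FaithfullyFlat.of_flat_of_isLocalHom
    exact ⟨_, _, h1, h2, ψ, FaithfulSMul.algebraMap_injective (Localization.AtPrime q) S, hs⟩
  haveI : NoZeroDivisors S := ⟨fun {a b} h => by
    obtain ⟨B, _, _, _, f, hf, hs⟩ := hB {a, b}
    obtain ⟨a', rfl⟩ := hs a (by simp)
    obtain ⟨b', rfl⟩ := hs b (by simp)
    rcases mul_eq_zero.1 (hf (by rw [map_mul, h, map_zero]) : a' * b' = 0) with h | h <;> simp [h]⟩
  haveI hdom : IsDomain S := NoZeroDivisors.to_isDomain S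
  refine ⟨hdom, (isIntegrallyClosed_iff (FractionRing S)).2 fun {x} hx => ?_⟩
  obtain ⟨p, hp, hpx⟩ := hx
  obtain ⟨a, b, hb, rfl⟩ := IsFractionRing.div_surjective S x
  obtain ⟨B, _, _, _, f, hf, hs⟩ := hB ({a, b} ∪ p.coeffs)
  obtain ⟨a', rfl⟩ := hs a (by simp)
  obtain ⟨b', rfl⟩ := hs b (by simp)
  obtain ⟨P, hP, -, hPm⟩ := Polynomial.lifts_and_natDegree_eq_and_monic (f := f) (p := p)
    ((Polynomial.lifts_iff_coeff_lifts p).2 fun n => by
      by_cases h0 : p.coeff n = 0
      · exact ⟨0, by rw [map_zero, h0]⟩
      · exact hs _ (Finset.mem_union_right _ (Polynomial.coeff_mem_coeffs h0))) hp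
  let g : FractionRing B →+* FractionRing S :=
    IsFractionRing.lift (g := (algebraMap S (FractionRing S)).comp f)
      (by exact (IsFractionRing.injective S (FractionRing S)).comp hf)
  have hgc : ∀ y : B, g (algebraMap B (FractionRing B) y) = algebraMap S (FractionRing S) (f y) := fun y =>
    IsFractionRing.lift_algebraMap _ y
  obtain ⟨c, hc⟩ := IsIntegrallyClosed.algebraMap_eq_of_integral
    (R := B) (K := FractionRing B) (x := algebraMap B _ a' / algebraMap B _ b') ⟨P, hPm, g.injective (by
      rw [Polynomial.hom_eval₂, map_zero, map_div₀, hgc, hgc,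
        show g.comp (algebraMap B (FractionRing B)) = (algebraMap S (FractionRing S)).comp f from RingHom.ext hgc,
        ← Polynomial.eval₂_map, hP]
      exact hpx)⟩
  refine ⟨f c, ?_⟩
  rw [← hgc, hc, map_div₀, hgc, hgc]

theorem normal_of_faithfullyFlat {R S : Type u} [CommRing R] [CommRing S] [Algebra R S] [Module.FaithfullyFlat R S]
    [IsDomain S] [IsIntegrallyClosed S] : IsDomain R ∧ IsIntegrallyClosed R := by
  have hinj : Function.Injective (algebraMap R S) := FaithfulSMul.algebraMap_injective R S
  haveI hdom : IsDomain R := hinj.isDomain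
  refine ⟨hdom, (isIntegrallyClosed_iff (FractionRing R)).2 fun {x} hx => ?_⟩
  obtain ⟨a, b, hb, rfl⟩ := IsFractionRing.div_surjective R x
  let g : FractionRing R →+* FractionRing S :=
    IsFractionRing.lift (g := (algebraMap S (FractionRing S)).comp (algebraMap R S))
      (by exact (IsFractionRing.injective S (FractionRing S)).comp hinj)
  have hgc : ∀ y : R, g (algebraMap R (FractionRing R) y) = algebraMap S (FractionRing S) (algebraMap R S y) :=
    fun y => IsFractionRing.lift_algebraMap _ y
  obtain ⟨p, hp, hpx⟩ := hx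
  obtain ⟨s, hs⟩ := IsIntegrallyClosed.algebraMap_eq_of_integral (R := S) (K := FractionRing S)
    (x := g (algebraMap R _ a / algebraMap R _ b)) ⟨p.map (algebraMap R S), hp.map _, by
      rw [Polynomial.eval₂_map, show (algebraMap S (FractionRing S)).comp (algebraMap R S) =
        g.comp (algebraMap R (FractionRing R)) from RingHom.ext fun y => (hgc y).symm,
        ← Polynomial.hom_eval₂, hpx, map_zero]⟩
  have hb0 : algebraMap R (FractionRing R) b ≠ 0 := IsFractionRing.to_map_ne_zero_of_mem_nonZeroDivisors hb
  have h1 : algebraMap R S a = algebraMap R S b * s := IsFractionRing.injective S (FractionRing S) (by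
    rw [map_mul, hs, ← hgc, ← hgc, ← map_mul, mul_div_cancel₀ _ hb0])
  have h2 : a ∈ Ideal.span {b} := by
    rw [← Ideal.comap_map_eq_self_of_faithfullyFlat (B := S) (Ideal.span {b}), Ideal.mem_comap, h1,
      Ideal.map_span, Set.image_singleton]
    exact Ideal.mem_span_singleton'.2 ⟨s, mul_comm _ _⟩
  obtain ⟨r, rfl⟩ := Ideal.mem_span_singleton'.1 h2
  exact ⟨r, by rw [map_mul, eq_div_iff hb0]⟩

end HenselLib
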