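import Groth.Agent.HenselLib.Local
import Mathlib.RingTheory.Spectrum.Maximal.Defs

/-! Rings with finitely many maximal ideals and liftable idempotents are products of local rings. -/

set_option autoImplicit false
universe u

namespace HenselLib

variable {B : Type u} [CommRing B]

/-- With finitely many maximal ideals and idempotents lifting modulo the Jacobson radical, there is a complete family
of orthogonal idempotents indexed by the maximal ideals, each cutting out a local ring. -/
theorem exists_idem_maximal_family [Fintype (MaximalSpectrum B)]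
    (hlift : ∀ b : B, b * b - b ∈ Ideal.jacobson (⊥ : Ideal B) →
      ∃ d : B, IsIdempotentElem d ∧ d - b ∈ Ideal.jacobson (⊥ : Ideal B)) :
    ∃ d : MaximalSpectrum B → B, CompleteOrthogonalIdempotents d ∧
      (∀ M N : MaximalSpectrum B, N ≠ M → d M ∈ N.asIdeal) ∧ (∀ M, 1 - d M ∈ M.asIdeal) ∧
      ∀ M, IsLocalRing (B ⧸ Ideal.span {1 - d M}) := by
  classical
  let χ := Ideal.quotientInfRingEquivPiQuotient (fun M : MaximalSpectrum B => M.asIdeal) fun M M' h =>
    Ideal.isCoprime_iff_sup_eq.2 (M.isMaximal.coprime_of_ne M'.isMaximal fun h' => h (MaximalSpectrum.ext h'))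
  have hjac : ∀ x : B, x ∈ Ideal.jacobson (⊥ : Ideal B) ↔ ∀ N : MaximalSpectrum B, x ∈ N.asIdeal := fun x => by
    simp only [Ideal.jacobson, Submodule.mem_sInf, bot_le, true_and, Set.mem_setOf_eq]
    exact ⟨fun h N => h _ N.isMaximal, fun h J hJ => h ⟨J, hJ⟩⟩
  have hex : ∀ M : MaximalSpectrum B, ∃ d : B, IsIdempotentElem d ∧
      ∀ N : MaximalSpectrum B, Ideal.Quotient.mk N.asIdeal d = if N = M then 1 else 0 := fun M => by
    obtain ⟨b, hb⟩ := Ideal.Quotient.mk_surjective (χ.symm fun N => if N = M then 1 else 0)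
    have hbN : ∀ N : MaximalSpectrum B, Ideal.Quotient.mk N.asIdeal b = if N = M then 1 else 0 := fun N => by
      have := congrFun (congrArg χ hb) N
      rw [RingEquiv.apply_symm_apply] at this
      exact this
    obtain ⟨d, hd, hdb⟩ := hlift b ((hjac _).2 fun N => by
      rw [← Ideal.Quotient.eq_zero_iff_mem, map_sub, map_mul, hbN]
      split_ifs <;> simp)
    exact ⟨d, hd, fun N => (Ideal.Quotient.eq.2 ((hjac _).1 hdb N)).trans (hbN N)⟩
  choose d hd hdN using hex
  have huniq : ∀ {a b : B}, IsIdempotentElem a → IsIdempotentElem b →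
      (∀ N : MaximalSpectrum B, Ideal.Quotient.mk N.asIdeal a = Ideal.Quotient.mk N.asIdeal b) → a = b :=
    fun ha hb h => idem_eq_of_sub_mem le_rfl ha hb ((hjac _).2 fun N => Ideal.Quotient.eq.1 (h N))
  have horth : OrthogonalIdempotents d := ⟨hd, fun M M' hne => huniq ((hd M).mul (hd M')) IsIdempotentElem.zero
    fun N => by
      rw [map_mul, hdN, hdN, map_zero]
      split_ifs with h1 h2 <;> first | exact absurd (h1.symm.trans h2) hne | simp⟩
  have hco : CompleteOrthogonalIdempotents d := ⟨horth, huniq horth.isIdempotentElem_sum IsIdempotentElem.one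
    fun N => by simp [hdN]⟩
  have hne' : ∀ M N : MaximalSpectrum B, N ≠ M → d M ∈ N.asIdeal := fun M N h => by
    rw [← Ideal.Quotient.eq_zero_iff_mem, hdN, if_neg h]
  have hself : ∀ M, 1 - d M ∈ M.asIdeal := fun M => by
    rw [← Ideal.Quotient.eq_zero_iff_mem, map_sub, map_one, hdN, if_pos rfl, sub_self]
  refine ⟨d, hco, hne', hself, fun M => ?_⟩
  have hle : Ideal.span {1 - d M} ≤ M.asIdeal := by
    rw [Ideal.span_le, Set.singleton_subset_iff]
    exact hself M
  haveI : Nontrivial (B ⧸ Ideal.span {1 - d M}) := Ideal.Quotient.nontrivial_iff.2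
    fun h => M.isMaximal.ne_top (top_le_iff.1 (h ▸ hle))
  refine IsLocalRing.of_unique_max_ideal ⟨M.asIdeal.map (Ideal.Quotient.mk _), ?_, fun N hN => ?_⟩
  · refine (Ideal.map_eq_top_or_isMaximal_of_surjective _ Ideal.Quotient.mk_surjective M.isMaximal).resolve_left fun h => ?_
    have h2 := congrArg (Ideal.comap (Ideal.Quotient.mk (Ideal.span {1 - d M}))) h
    rw [Ideal.comap_map_of_surjective _ Ideal.Quotient.mk_surjective, ← RingHom.ker_eq_comap_bot, Ideal.mk_ker,
      Ideal.comap_top, sup_eq_left.2 hle] at h2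
    exact M.isMaximal.ne_top h2
  · let N' : MaximalSpectrum B := ⟨N.comap (Ideal.Quotient.mk _),
      Ideal.comap_isMaximal_of_surjective _ Ideal.Quotient.mk_surjective⟩
    have hN' : N' = M := by
      by_contra hne
      have h1 : (1 : B) - d M ∈ N'.asIdeal := by
        show Ideal.Quotient.mk _ (1 - d M) ∈ N
        rw [Ideal.Quotient.eq_zero_iff_mem.2 (Ideal.mem_span_singleton_self _)]
        exact zero_mem _
      have := N'.asIdeal.add_mem h1 (hne' M N' hne)
      rw [sub_add_cancel] at this
      exact N'.isMaximal.ne_top ((Ideal.eq_top_iff_one _).2 this)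
    rw [show M.asIdeal = N'.asIdeal from congrArg MaximalSpectrum.asIdeal hN'.symm]
    exact (Ideal.map_comap_of_surjective _ Ideal.Quotient.mk_surjective N).symm

/-- Such a ring is a finite product of local rings. -/
theorem exists_pi_local_of_lift [Fintype (MaximalSpectrum B)]
    (hlift : ∀ b : B, b * b - b ∈ Ideal.jacobson (⊥ : Ideal B) →
      ∃ d : B, IsIdempotentElem d ∧ d - b ∈ Ideal.jacobson (⊥ : Ideal B)) :
    ∃ (ι : Type u) (_ : Fintype ι) (C : ι → Type u) (_ : ∀ j, CommRing (C j)),
      (∀ j, IsLocalRing (C j)) ∧ Nonempty (B ≃+* (∀ j, C j)) := by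
  obtain ⟨d, hco, -, -, hloc⟩ := exists_idem_maximal_family hlift
  exact ⟨MaximalSpectrum B, inferInstance, fun M => B ⧸ Ideal.span {1 - d M}, inferInstance, hloc,
    ⟨RingEquiv.ofBijective _ hco.bijective_pi⟩⟩

/-- A finite algebra over a local ring has finitely many maximal ideals. -/
theorem finite_maximalSpectrum (A : Type u) [CommRing A] [IsLocalRing A] [Algebra A B] [Module.Finite A B] :
    Finite (MaximalSpectrum B) := by
  let m := IsLocalRing.maximalIdeal A
  let mB := m.map (algebraMap A B)
  have hjac : mB ≤ Ideal.jacobson ⊥ := map_le_jacobson_bot (IsLocalRing.jacobson_eq_maximalIdeal ⊥ bot_ne_top).ge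
  haveI : Module.Finite (A ⧸ m) (B ⧸ mB) := Module.Finite.of_restrictScalars_finite A _ _
  letI : Field (A ⧸ m) := Ideal.Quotient.field m
  haveI : IsArtinianRing (B ⧸ mB) := IsArtinianRing.of_finite (A ⧸ m) _
  have hle : ∀ N : MaximalSpectrum B, mB ≤ N.asIdeal := fun N => hjac.trans (sInf_le ⟨bot_le, N.isMaximal⟩)
  refine Finite.of_injective (fun M : MaximalSpectrum B => (⟨M.asIdeal.map (Ideal.Quotient.mk mB), ?_⟩ : MaximalSpectrum (B ⧸ mB))) ?_
  · haveI := M.isMaximal
    refine (Ideal.map_eq_top_or_isMaximal_of_surjective _ Ideal.Quotient.mk_surjective M.isMaximal).resolve_left fun h => ?_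
    have h2 := congrArg (Ideal.comap (Ideal.Quotient.mk mB)) h
    rw [Ideal.comap_map_of_surjective _ Ideal.Quotient.mk_surjective, ← RingHom.ker_eq_comap_bot, Ideal.mk_ker,
      Ideal.comap_top, sup_eq_left.2 (hle M)] at h2
    exact M.isMaximal.ne_top h2
  · intro M M' h
    have h1 := congrArg (fun N : MaximalSpectrum (B ⧸ mB) => N.asIdeal.comap (Ideal.Quotient.mk mB)) h
    simp only [Ideal.comap_map_of_surjective _ Ideal.Quotient.mk_surjective, ← RingHom.ker_eq_comap_bot,
      Ideal.mk_ker, sup_eq_left.2 (hle M), sup_eq_left.2 (hle M')] at h1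
    exact MaximalSpectrum.ext h1

end HenselLib
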