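import Groth.Agent.HenselLib.IndEtale
import Groth.Agent.FlatCrit.Quotient
import Groth.Agent.S0542
import Groth.Agent.S9407
import Mathlib.RingTheory.Unramified.LocalStructure
import Mathlib.RingTheory.AdicCompletion.Completeness
import Mathlib.RingTheory.Ideal.GoingDown

/-! Consequences of being a flat ind-étale local extension. -/

set_option autoImplicit false
universe u

open TensorProduct IsLocalRing

namespace HenselLib

theorem flat_of_etale {R U S : Type u} [CommRing R] [CommRing U] [CommRing S] [Algebra R U] [Algebra R S]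
    [Algebra U S] [IsScalarTower R U S] [Algebra.Etale R U] [Module.Flat R S] : Module.Flat U S := by
  let μ : S ⊗[R] U →ₐ[S] S := Algebra.TensorProduct.lift (AlgHom.id S S) (IsScalarTower.toAlgHom R U S)
    fun _ _ => Commute.all _ _
  letI : Algebra (S ⊗[R] U) S := μ.toRingHom.toAlgebra
  haveI : IsScalarTower S (S ⊗[R] U) S := IsScalarTower.of_algebraMap_eq fun s => (μ.commutes s).symm
  haveI : Algebra.Etale (S ⊗[R] U) S := Algebra.Etale.of_restrictScalars (R := S) (A := S ⊗[R] U) (B := S)
  have hμ : (μ : S ⊗[R] U →+* S).Flat :=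
    RingHom.flat_algebraMap_iff.2 (inferInstance : Module.Flat (S ⊗[R] U) S)
  have h1 : ((Algebra.TensorProduct.comm R U S : U ⊗[R] S →+* S ⊗[R] U).comp (algebraMap U (U ⊗[R] S))).Flat :=
    (RingHom.flat_algebraMap_iff.2 inferInstance).comp
      (RingHom.Flat.of_bijective (Algebra.TensorProduct.comm R U S).bijective)
  refine RingHom.flat_algebraMap_iff.1 ?_
  convert h1.comp hμ
  ext u
  simp [μ]

variable {R S : Type u} [CommRing R] [CommRing S] [Algebra R S]

/-- Finitely many elements of a flat ind-étale local extension lie in a local ring of an étale algebra. -/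
theorem exists_local_cover [IsLocalRing S] [Module.Flat R S] (hcov : ∀ x : S, EtCov (R := R) x) (s : Finset S) :
    ∃ (U : Type u) (_ : CommRing U) (_ : Algebra R U) (_ : Algebra.Etale R U) (q : Ideal U) (_ : q.IsPrime)
      (ψ : Localization.AtPrime q →ₐ[R] S),
      IsLocalHom (ψ : Localization.AtPrime q →+* S) ∧ (ψ : Localization.AtPrime q →+* S).Flat ∧
        ∀ x ∈ s, x ∈ ψ.range := by
  obtain ⟨U, _, _, _, ξ, hξ⟩ := exists_etale_cover s fun x _ => hcov x
  letI : Algebra U S := (ξ : U →+* S).toAlgebra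
  haveI : IsScalarTower R U S := IsScalarTower.of_algebraMap_eq fun r => (ξ.commutes r).symm
  let q := (maximalIdeal S).comap (ξ : U →+* S)
  have hunit : ∀ y : q.primeCompl, IsUnit (algebraMap U S y) := fun y => notMem_maximalIdeal.1 y.2
  let ψ : Localization.AtPrime q →ₐ[R] S := IsLocalization.liftAlgHom (M := q.primeCompl) (f := ξ) hunit
  have hψ : ∀ u, ψ (algebraMap U (Localization.AtPrime q) u) = ξ u := fun u => IsLocalization.lift_eq _ u
  refine ⟨U, _, _, inferInstance, q, inferInstance, ψ, ⟨fun x hx => ?_⟩, ?_, fun x hx => ?_⟩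
  · obtain ⟨t, w, rfl⟩ := IsLocalization.exists_mk'_eq q.primeCompl x
    refine (IsLocalization.AtPrime.isUnit_mk'_iff (Localization.AtPrime q) q t w).2 fun ht => ?_
    have hsp : ψ (IsLocalization.mk' _ t w) * ξ w = ξ t := by
      rw [← hψ, ← map_mul, IsLocalization.mk'_spec, hψ]
    exact (IsLocalRing.mem_maximalIdeal _).1 ht (hsp ▸ hx.mul (hunit w))
  · letI : Algebra (Localization.AtPrime q) S := (ψ : Localization.AtPrime q →+* S).toAlgebra
    haveI : IsScalarTower U (Localization.AtPrime q) S := IsScalarTower.of_algebraMap_eq fun u => (hψ u).symm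
    show Module.Flat (Localization.AtPrime q) S
    rw [Module.flat_iff_of_isLocalization (Localization.AtPrime q) q.primeCompl]
    exact flat_of_etale (R := R)
  · obtain ⟨u, rfl⟩ := hξ x hx
    exact ⟨algebraMap U _ u, hψ u⟩

theorem isNoetherianRing_of_etCov [IsNoetherianRing R] [IsLocalRing R] [IsLocalRing S] [Module.Flat R S]
    (hm : (maximalIdeal R).map (algebraMap R S) = maximalIdeal S)
    (hcov : ∀ x : S, EtCov (R := R) x) : IsNoetherianRing S := by
  classical
  have hfg : (maximalIdeal S).FG := hm ▸ Ideal.FG.map (IsNoetherian.noetherian _) _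
  let T := AdicCompletion (maximalIdeal S) S
  letI : Field (S ⧸ maximalIdeal S) := Ideal.Quotient.field _
  haveI : IsNoetherianRing T := Groth.Agent.S0542.result S (maximalIdeal S) hfg
  haveI : IsAdicComplete ((maximalIdeal S).map (algebraMap S T)) T :=
    (IsAdicComplete.map_algebraMap_iff _ _).2 (AdicCompletion.isAdicComplete (M := S) hfg)
  have hjac : (maximalIdeal S).map (algebraMap S T) ≤ Ideal.jacobson ⊥ := IsAdicComplete.le_jacobson_bot _
  have hker : ∀ (n : ℕ) (t : T), t ∈ (maximalIdeal S ^ n).map (algebraMap S T) ↔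
      AdicCompletion.eval (maximalIdeal S) S n t = 0 := fun n t => by
    rw [← LinearMap.mem_ker, ← AdicCompletion.pow_smul_top_eq_ker_eval hfg, Ideal.smul_top_eq_map,
      Submodule.restrictScalars_mem]
  have hof : ∀ (n : ℕ) (x : S), AdicCompletion.eval (maximalIdeal S) S n (algebraMap S T x) = 0 ↔
      x ∈ maximalIdeal S ^ n := fun n x => by
    rw [show algebraMap S T x = AdicCompletion.of (maximalIdeal S) S x from rfl, AdicCompletion.eval_of,
      Submodule.mkQ_apply, Submodule.Quotient.mk_eq_zero, smul_eq_mul, Ideal.mul_top]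
  haveI : Nontrivial T := ⟨algebraMap S T 1, 0, fun h => one_ne_zero (α := S ⧸ maximalIdeal S) (by
    rw [← map_one (Ideal.Quotient.mk (maximalIdeal S)), Ideal.Quotient.eq_zero_iff_mem, ← pow_one (maximalIdeal S),
      ← hof, h, map_zero])⟩
  refine (isNoetherianRing_iff_ideal_fg S).2 fun I => ?_
  obtain ⟨f, hfI, hf⟩ := (Submodule.fg_span_iff_fg_span_finset_subset (R := T) (algebraMap S T '' (I : Set S))).1
    (IsNoetherian.noetherian (Ideal.span _ : Ideal T))
  have hfI' : ∀ t ∈ f, ∃ x ∈ I, algebraMap S T x = t := fun t ht => hfI ht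
  choose g hgI hg using hfI'
  let G : Finset S := f.attach.image fun t => g t.1 t.2
  refine ⟨G, le_antisymm (Submodule.span_le.2 fun x hx => ?_) fun x hx => ?_⟩
  · obtain ⟨t, -, rfl⟩ := Finset.mem_image.1 hx
    exact hgI _ _
  obtain ⟨U, _, _, _, q, _, ψ, hloc, hflat, hs⟩ := exists_local_cover hcov (insert x G)
  let B := Localization.AtPrime q
  haveI : IsNoetherianRing B := by
    haveI : IsNoetherianRing U := Algebra.FiniteType.isNoetherianRing R U
    exact IsLocalization.isNoetherianRing q.primeCompl B inferInstance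
  letI : Algebra B S := (ψ : B →+* S).toAlgebra
  haveI : IsScalarTower R B S := IsScalarTower.of_algebraMap_eq fun r => (ψ.commutes r).symm
  haveI : Module.Flat B S := hflat
  haveI : IsLocalHom (algebraMap B S) := hloc
  have hBm : (maximalIdeal B).map (algebraMap B S) = maximalIdeal S := by
    refine le_antisymm (Ideal.map_le_iff_le_comap.2 fun b hb => map_nonunit _ b hb) ?_
    rw [← hm, IsScalarTower.algebraMap_eq R B S, ← Ideal.map_map]
    refine Ideal.map_mono (Ideal.map_le_iff_le_comap.2 fun r hr => ?_)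
    refine fun hu => ?_
    have h1 : IsUnit (algebraMap R S r) := IsScalarTower.algebraMap_apply R B S r ▸ hu.map (algebraMap B S)
    exact (IsLocalRing.mem_maximalIdeal _).1 (hm ▸ Ideal.mem_map_of_mem (algebraMap R S) hr) h1
  have hmap : ∀ n, ((maximalIdeal B) ^ n).map (algebraMap B T) = (maximalIdeal S ^ n).map (algebraMap S T) := fun n => by
    rw [IsScalarTower.algebraMap_eq B S T, ← Ideal.map_map, Ideal.map_pow, hBm]
  have hBjac : (maximalIdeal B).map (algebraMap B T) ≤ Ideal.jacobson ⊥ := by
    simpa using (hmap 1).trans_le (by simpa using hjac)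
  haveI : Module.Flat B T := by
    refine FlatCrit.flat_of_flat_quotientMap (R := B) (S := T) (maximalIdeal B) hBjac fun n => ?_
    let e := Ideal.quotientMap ((maximalIdeal B ^ n).map (algebraMap B T)) (algebraMap S T)
      (I := (maximalIdeal B ^ n).map (algebraMap B S)) (Ideal.map_le_iff_le_comap.1
        (by rw [Ideal.map_map, ← IsScalarTower.algebraMap_eq]))
    have he : Function.Bijective e := by
      refine ⟨Ideal.quotientMap_injective' fun y hy => ?_, fun z => ?_⟩
      · rw [Ideal.mem_comap, hmap, hker, hof] at hy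
        rwa [Ideal.map_pow, hBm]
      · obtain ⟨t, rfl⟩ := Ideal.Quotient.mk_surjective z
        obtain ⟨y, hy⟩ := Submodule.mkQ_surjective _ (AdicCompletion.eval (maximalIdeal S) S n t)
        refine ⟨Ideal.Quotient.mk _ y, ?_⟩
        rw [Ideal.quotientMap_mk, Ideal.Quotient.eq, hmap, hker, map_sub, sub_eq_zero]
        exact hy
    convert (FlatCrit.flat_quotientMap (R := B) (S := S) (maximalIdeal B ^ n)).comp (RingHom.Flat.of_bijective he) using 1
    exact Ideal.Quotient.ringHom_ext (RingHom.ext fun b => by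
      simp [e, IsScalarTower.algebraMap_apply B S T])
  haveI : Module.FaithfullyFlat B T := ⟨fun m hm' h => by
    obtain rfl := IsLocalRing.eq_maximalIdeal hm'
    rw [Ideal.smul_top_eq_map, Submodule.restrictScalars_eq_top_iff] at h
    have h1 := hBjac (h ▸ Submodule.mem_top (x := (1 : T)))
    rw [Ideal.mem_jacobson_bot] at h1
    have h2 := h1 (-1)
    rw [one_mul, neg_add_cancel] at h2
    exact not_isUnit_zero h2⟩
  obtain ⟨x', hx'⟩ := hs x (Finset.mem_insert_self _ _)
  have hG : ∀ y : G, ∃ b : B, algebraMap B S b = y := fun y => hs y (Finset.mem_insert_of_mem y.2)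
  choose b hb using hG
  let J : Ideal B := Ideal.span (Set.range b)
  have h1 : algebraMap B T x' ∈ J.map (algebraMap B T) := by
    rw [IsScalarTower.algebraMap_apply B S T, show algebraMap B S x' = x from hx']
    have h2 : algebraMap S T x ∈ Ideal.span (f : Set T) := hf.le (Submodule.subset_span ⟨x, hx, rfl⟩)
    refine Ideal.span_le.2 (fun t ht => ?_) h2
    have hy : g t ht ∈ G := Finset.mem_image.2 ⟨⟨t, ht⟩, Finset.mem_attach _ _, rfl⟩
    rw [SetLike.mem_coe, ← hg t ht, show g t ht = algebraMap B S (b ⟨_, hy⟩) from (hb ⟨_, hy⟩).symm,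
      ← IsScalarTower.algebraMap_apply]
    exact Ideal.mem_map_of_mem _ (Ideal.subset_span (Set.mem_range_self _))
  rw [← Ideal.mem_comap, Ideal.comap_map_eq_self_of_faithfullyFlat] at h1
  have h3 := Ideal.mem_map_of_mem (algebraMap B S) h1
  rw [show algebraMap B S x' = x from hx', Ideal.map_span] at h3
  refine Ideal.span_mono ?_ h3
  rintro _ ⟨_, ⟨y, rfl⟩, rfl⟩
  rw [hb]
  exact y.2

theorem eq_of_le_of_comap_eq [IsLocalRing S] [Module.Flat R S] (hcov : ∀ x : S, EtCov (R := R) x)
    (p p' : Ideal S) [p.IsPrime] [p'.IsPrime] (hle : p ≤ p')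
    (h : p.comap (algebraMap R S) = p'.comap (algebraMap R S)) : p = p' := by
  refine le_antisymm hle fun x hx => ?_
  obtain ⟨U, _, _, _, q, _, ψ, -, -, hs⟩ := exists_local_cover hcov {x}
  obtain ⟨x', rfl⟩ := hs x (Finset.mem_singleton_self x)
  have hu : ∀ P : Ideal S, (P.comap (ψ : Localization.AtPrime q →+* S)).under R = P.comap (algebraMap R S) := fun P => by
    rw [Ideal.under_def, Ideal.comap_comap, ψ.comp_algebraMap]
  have := Algebra.QuasiFinite.eq_of_le_of_under_eq (R := R) (p.comap (ψ : Localization.AtPrime q →+* S))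
    (p'.comap (ψ : Localization.AtPrime q →+* S)) (Ideal.comap_mono hle) (by rw [hu, hu, h])
  exact (this.ge hx : _)

theorem ringKrullDim_eq_of_etCov [IsLocalRing S] [Module.FaithfullyFlat R S] (hcov : ∀ x : S, EtCov (R := R) x) :
    ringKrullDim S = ringKrullDim R := by
  refine le_antisymm (Order.krullDim_le_of_strictMono (PrimeSpectrum.comap (algebraMap R S)) fun p p' hlt => ?_) ?_
  · refine lt_of_le_of_ne (Ideal.comap_mono hlt.le) fun h => hlt.ne (PrimeSpectrum.ext ?_)
    exact eq_of_le_of_comap_eq hcov p.asIdeal p'.asIdeal hlt.le (congrArg PrimeSpectrum.asIdeal h)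
  · refine iSup_le fun l => ?_
    haveI : Algebra.HasGoingDown R S := Algebra.HasGoingDown.of_flat
    obtain ⟨P, hP⟩ := PrimeSpectrum.comap_surjective_of_faithfullyFlat (B := S) l.last
    haveI : P.asIdeal.LiesOver l.last.asIdeal := ⟨(congrArg PrimeSpectrum.asIdeal hP).symm⟩
    obtain ⟨L, hL, -⟩ := Ideal.exists_ltSeries_of_hasGoingDown l P.asIdeal
    exact le_iSup_of_le L (by rw [hL])

theorem isReduced_of_etCov [IsLocalRing S] [Module.Flat R S] [IsReduced R] (hcov : ∀ x : S, EtCov (R := R) x) :
    IsReduced S := by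
  refine ⟨fun x hx => ?_⟩
  obtain ⟨U, _, _, _, q, _, ψ, hloc, hflat, hs⟩ := exists_local_cover hcov {x}
  obtain ⟨x', rfl⟩ := hs x (Finset.mem_singleton_self x)
  haveI : IsReduced U := Groth.Agent.S9407.result R U
  haveI : IsReduced (Localization.AtPrime q) := inferInstance
  letI : Algebra (Localization.AtPrime q) S := (ψ : Localization.AtPrime q →+* S).toAlgebra
  haveI : Module.Flat (Localization.AtPrime q) S := hflat
  haveI : IsLocalHom (algebraMap (Localization.AtPrime q) S) := hloc
  haveI : Module.FaithfullyFlat (Localization.AtPrime q) S := Module.FaithfullyFlat.of_flat_of_isLocalHom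
  obtain ⟨n, hn⟩ := hx
  have h0 : IsNilpotent x' := ⟨n, FaithfulSMul.algebraMap_injective (Localization.AtPrime q) S (by
    rw [map_pow, map_zero]; exact hn)⟩
  rw [h0.eq_zero]
  exact map_zero _

end HenselLib

namespace HenselLib

theorem isNoetherianRing_of_faithfullyFlat' {A B : Type u} [CommRing A] [CommRing B] [Algebra A B]
    [Module.FaithfullyFlat A B] [IsNoetherianRing B] : IsNoetherianRing A := by
  rw [isNoetherianRing_iff, isNoetherian_iff']
  exact (OrderEmbedding.ofMapLEIff (fun I : Ideal A => I.map (algebraMap A B)) fun a b =>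
    ⟨fun h => by
      simpa [Ideal.comap_map_eq_self_of_faithfullyFlat] using Ideal.comap_mono (f := algebraMap A B) h,
      Ideal.map_mono⟩).wellFoundedGT

theorem etCov_of_algEquiv {R S S' : Type u} [CommRing R] [CommRing S] [Algebra R S] [CommRing S'] [Algebra R S']
    (e : S ≃ₐ[R] S') (h : ∀ x : S, EtCov (R := R) x) (x : S') : EtCov (R := R) x := by
  simpa using (h (e.symm x)).map e.toAlgHom

end HenselLib
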