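import Groth.Agent.HenselLib.Criteria
import Mathlib.RingTheory.Smooth.StandardSmoothCotangent
import Mathlib.LinearAlgebra.Matrix.ToLinearEquiv

/-! Square systems with invertible Jacobian over henselian pairs, and factorisations. -/

set_option autoImplicit false
universe u

open Polynomial

namespace HenselLib

theorem etale_away_jacobian {A : Type u} [CommRing A] {ι : Type} [Fintype ι] [DecidableEq ι]
    (P : ι → MvPolynomial ι A) :
    Algebra.Etale A (Localization.Away
      (Ideal.Quotient.mk (Ideal.span (Set.range P)) (Matrix.of fun i j => MvPolynomial.pderiv i (P j)).det)) := by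
  set Q := MvPolynomial ι A ⧸ Ideal.span (Set.range P)
  set J : Q := Ideal.Quotient.mk _ (Matrix.of fun i j => MvPolynomial.pderiv i (P j)).det with hJ
  let p : Algebra.PreSubmersivePresentation A Q ι ι :=
    Algebra.PreSubmersivePresentation.naive (R := A) (v := P) id Function.injective_id
  have hp : p.jacobian = J := by
    rw [Algebra.PreSubmersivePresentation.jacobian_eq_jacobiMatrix_det, hJ,
      show p.jacobiMatrix = Matrix.of fun i j => MvPolynomial.pderiv i (P j) from
        Matrix.ext fun i j => Algebra.PreSubmersivePresentation.jacobiMatrix_naive (a := id) _ _ _ i j]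
    rfl
  let T := Localization.Away J
  have hu : IsUnit (algebraMap Q T J) := IsLocalization.Away.algebraMap_isUnit J
  let c := (Algebra.PreSubmersivePresentation.localizationAway T J).comp p
  have hcu : IsUnit c.jacobian := by
    rw [Algebra.PreSubmersivePresentation.comp_jacobian_eq_jacobian_smul_jacobian, hp,
      Algebra.PreSubmersivePresentation.localizationAway_jacobian, Algebra.smul_def]
    exact hu.mul hu
  let s : Algebra.SubmersivePresentation A T (Unit ⊕ ι) (Unit ⊕ ι) := { c with jacobian_isUnit := hcu }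
  haveI : Algebra.IsStandardSmoothOfRelativeDimension 0 A T :=
    s.isStandardSmoothOfRelativeDimension (by simp [Algebra.Presentation.dimension])
  infer_instance

/-- Square systems with invertible Jacobian have roots lifting approximate roots. -/
theorem exists_root_system {A : Type u} [CommRing A] {I : Ideal A} [HenselianRing A I] {ι : Type} [Fintype ι]
    [DecidableEq ι] (P : ι → MvPolynomial ι A) (x₀ : ι → A) (h₁ : ∀ i, MvPolynomial.eval x₀ (P i) ∈ I)
    (h₂ : IsUnit (Ideal.Quotient.mk I
      (MvPolynomial.eval x₀ (Matrix.of fun i j => MvPolynomial.pderiv i (P j)).det))) :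
    ∃ x : ι → A, (∀ i, MvPolynomial.eval x (P i) = 0) ∧ ∀ i, x i - x₀ i ∈ I := by
  haveI := etale_away_jacobian P
  set det := (Matrix.of fun i j => MvPolynomial.pderiv i (P j)).det
  let φ : MvPolynomial ι A →ₐ[A] A ⧸ I := (Ideal.Quotient.mkₐ A I).comp (MvPolynomial.aeval x₀)
  have hφ : ∀ q, φ q = Ideal.Quotient.mk I (MvPolynomial.eval x₀ q) := fun q => by
    simp [φ, MvPolynomial.aeval_def, MvPolynomial.eval₂_eq_eval_map]
  let σ₁ : MvPolynomial ι A ⧸ Ideal.span (Set.range P) →ₐ[A] A ⧸ I := Ideal.Quotient.liftₐ _ φ fun a ha => by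
    have : Ideal.span (Set.range P) ≤ RingHom.ker φ := Ideal.span_le.2 fun _ ⟨i, hi⟩ => by
      rw [← hi, SetLike.mem_coe, RingHom.mem_ker, hφ, Ideal.Quotient.eq_zero_iff_mem]
      exact h₁ i
    exact this ha
  let σ : Localization.Away (Ideal.Quotient.mk (Ideal.span (Set.range P)) det) →ₐ[A] A ⧸ I :=
    IsLocalization.Away.liftAlgHom (Ideal.Quotient.mk (Ideal.span (Set.range P)) det) (f := σ₁) (by show IsUnit (φ det); rw [hφ]; exact h₂)
  obtain ⟨τ, hτ⟩ := etaleLifts_of_henselianRing (I := I) _ σ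
  let ψ : MvPolynomial ι A →ₐ[A] A :=
    (τ.comp (IsScalarTower.toAlgHom A (MvPolynomial ι A ⧸ Ideal.span (Set.range P)) _)).comp (Ideal.Quotient.mkₐ A _)
  refine ⟨fun i => ψ (MvPolynomial.X i), fun i => ?_, fun i => ?_⟩
  · have h : ψ (P i) = 0 := by
      show τ (algebraMap _ _ (Ideal.Quotient.mk _ (P i))) = 0
      rw [Ideal.Quotient.eq_zero_iff_mem.2 (Ideal.subset_span (Set.mem_range_self i)), map_zero, map_zero]
    rw [← h]
    conv_rhs => rw [MvPolynomial.aeval_unique ψ]
    exact (RingHom.congr_fun (MvPolynomial.coe_aeval_eq_eval _) (P i)).symm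
  · rw [← Ideal.Quotient.eq]
    have h := DFunLike.congr_fun hτ
      (algebraMap _ _ (Ideal.Quotient.mk (Ideal.span (Set.range P)) (MvPolynomial.X i)))
    refine h.trans ?_
    simp only [σ, IsLocalization.Away.liftAlgHom]
    erw [IsLocalization.liftAlgHom_apply, IsLocalization.lift_eq]
    show φ (MvPolynomial.X i) = _
    rw [hφ, MvPolynomial.eval_X]

theorem pderiv_coeff_mul {A : Type u} [CommRing A] {ι : Type} (s : ι) {G H G' H' : (MvPolynomial ι A)[X]}
    (hG : ∀ k, MvPolynomial.pderiv s (G.coeff k) = G'.coeff k)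
    (hH : ∀ k, MvPolynomial.pderiv s (H.coeff k) = H'.coeff k) (i : ℕ) :
    MvPolynomial.pderiv s ((G * H).coeff i) = (G' * H + G * H').coeff i := by
  simp only [coeff_add, coeff_mul, map_sum, ← Finset.sum_add_distrib]
  refine Finset.sum_congr rfl fun x _ => ?_
  rw [Derivation.leibniz, hG, hH, smul_eq_mul, smul_eq_mul]
  ring

set_option maxHeartbeats 1000000 in
/-- Coprime factorisations with one monic factor lift (the cofactor may be arbitrary). -/
theorem exists_factor_lift_left {R : Type u} [CommRing R] [HenselianLocalRing R] (f : R[X])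
    (g₀ h₀ : (IsLocalRing.ResidueField R)[X]) (hg : g₀.Monic) (hc : IsCoprime g₀ h₀)
    (hf : f.map (IsLocalRing.residue R) = g₀ * h₀) :
    ∃ g h : R[X], f = g * h ∧ g.Monic ∧ g.map (IsLocalRing.residue R) = g₀ ∧
      h.map (IsLocalRing.residue R) = h₀ := by
  classical
  let k := IsLocalRing.ResidueField R
  let res := IsLocalRing.residue R
  set d := g₀.natDegree with hd
  set e := max h₀.natDegree f.natDegree with he
  let σ := Fin d ⊕ Fin (e + 1)
  let n : σ ≃ Fin (d + (e + 1)) := finSumFinEquiv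
  let Gv : (MvPolynomial σ R)[X] := X ^ d + ∑ j : Fin d, C (MvPolynomial.X (Sum.inl j)) * X ^ (j : ℕ)
  let Hv : (MvPolynomial σ R)[X] := ∑ j : Fin (e + 1), C (MvPolynomial.X (Sum.inr j)) * X ^ (j : ℕ)
  let P : σ → MvPolynomial σ R := fun i => (Gv * Hv - f.map MvPolynomial.C).coeff (n i : ℕ)
  let Gx : (σ → R) → R[X] := fun x => X ^ d + ∑ j : Fin d, C (x (Sum.inl j)) * X ^ (j : ℕ)
  let Hx : (σ → R) → R[X] := fun x => ∑ j : Fin (e + 1), C (x (Sum.inr j)) * X ^ (j : ℕ)
  have hGx : ∀ x, Gv.map (MvPolynomial.eval x) = Gx x := fun x => by simp [Gv, Gx, Polynomial.map_sum]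
  have hHx : ∀ x, Hv.map (MvPolynomial.eval x) = Hx x := fun x => by simp [Hv, Hx, Polynomial.map_sum]
  have hev : ∀ x i, MvPolynomial.eval x (P i) = (Gx x * Hx x - f).coeff (n i : ℕ) := fun x i => by
    rw [← coeff_map, Polynomial.map_sub, Polynomial.map_mul, hGx, hHx, Polynomial.map_map,
      show (MvPolynomial.eval x).comp MvPolynomial.C = RingHom.id R from
        RingHom.ext fun r => MvPolynomial.eval_C r, Polynomial.map_id]
  choose G₀c hG₀c using fun j : Fin d => IsLocalRing.residue_surjective (R := R) (g₀.coeff j)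
  choose H₀c hH₀c using fun j : Fin (e + 1) => IsLocalRing.residue_surjective (R := R) (h₀.coeff j)
  let x₀ : σ → R := Sum.elim G₀c H₀c
  have hG₀ : (Gx x₀).map res = g₀ := by
    conv_rhs => rw [hg.as_sum]
    simp only [Gx, Polynomial.map_add, Polynomial.map_pow, Polynomial.map_X, Polynomial.map_sum,
      Polynomial.map_mul, Polynomial.map_C, x₀, Sum.elim_inl, res, hG₀c]
    rw [Finset.sum_range]
  have hH₀ : (Hx x₀).map res = h₀ := by
    conv_rhs => rw [h₀.as_sum_range' (e + 1) (Nat.lt_succ_of_le (le_max_left _ _))]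
    simp only [Hx, Polynomial.map_pow, Polynomial.map_X, Polynomial.map_sum,
      Polynomial.map_mul, Polynomial.map_C, x₀, Sum.elim_inr, res, hH₀c, C_mul_X_pow_eq_monomial, Polynomial.map_monomial]
    rw [Finset.sum_range]
  have h₁ : ∀ i, MvPolynomial.eval x₀ (P i) ∈ IsLocalRing.maximalIdeal R := fun i => by
    rw [← IsLocalRing.residue_eq_zero_iff, hev, ← coeff_map, Polynomial.map_sub, Polynomial.map_mul, hG₀, hH₀, hf,
      sub_self, coeff_zero]
  let G' : σ → (MvPolynomial σ R)[X] := Sum.elim (fun j => X ^ (j : ℕ)) fun _ => 0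
  let H' : σ → (MvPolynomial σ R)[X] := Sum.elim (fun _ => 0) fun j => X ^ (j : ℕ)
  have hGd : ∀ s k, MvPolynomial.pderiv s (Gv.coeff k) = (G' s).coeff k := fun s k => by
    rcases s with s | s <;>
    simp [Gv, G', coeff_X_pow, apply_ite (MvPolynomial.pderiv _), MvPolynomial.pderiv_X, Pi.single_apply, eq_comm]
    rw [Finset.sum_eq_single s (fun b _ hb => if_ctx_congr Iff.rfl (fun _ => if_neg fun h => hb.symm (Sum.inl.inj h)) (fun _ => rfl) |>.trans (ite_self _)) (by simp)]
    simp
  have hHd : ∀ s k, MvPolynomial.pderiv s (Hv.coeff k) = (H' s).coeff k := fun s k => by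
    rcases s with s | s <;>
    simp [Hv, H', coeff_X_pow, apply_ite (MvPolynomial.pderiv _), MvPolynomial.pderiv_X, Pi.single_apply, eq_comm]
    rw [Finset.sum_eq_single s (fun b _ hb => if_ctx_congr Iff.rfl (fun _ => if_neg fun h => hb.symm (Sum.inr.inj h)) (fun _ => rfl) |>.trans (ite_self _)) (by simp)]
    simp
  let D : σ → k[X] := Sum.elim (fun j => X ^ (j : ℕ) * h₀) fun j => g₀ * X ^ (j : ℕ)
  have hD : ∀ s i, res (MvPolynomial.eval x₀ (MvPolynomial.pderiv s (P i))) = (D s).coeff (n i : ℕ) := fun s i => by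
    have : MvPolynomial.pderiv s (P i) = (G' s * Hv + Gv * H' s).coeff (n i : ℕ) := by
      simp only [P, coeff_sub, map_sub, coeff_map, MvPolynomial.pderiv_C, sub_zero]
      exact pderiv_coeff_mul s (hGd s) (hHd s) _
    rw [this, ← coeff_map, ← coeff_map, Polynomial.map_add, Polynomial.map_mul, Polynomial.map_mul, hGx, hHx,
      Polynomial.map_add, Polynomial.map_mul, Polynomial.map_mul, hG₀, hH₀]
    rcases s with s | s <;> simp [G', H', D]
  have h₂ : IsUnit (Ideal.Quotient.mk (IsLocalRing.maximalIdeal R)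
      (MvPolynomial.eval x₀ (Matrix.of fun i j => MvPolynomial.pderiv i (P j)).det)) := by
    refine IsUnit.map _ ((IsLocalRing.residue_ne_zero_iff_isUnit _).1 fun h0 => ?_)
    rw [RingHom.map_det, RingHom.map_det] at h0
    obtain ⟨v, hv0, hv⟩ := Matrix.exists_vecMul_eq_zero_iff.2 h0
    let V : k[X] := ∑ j : Fin d, C (v (Sum.inl j)) * X ^ (j : ℕ)
    let W : k[X] := ∑ j : Fin (e + 1), C (v (Sum.inr j)) * X ^ (j : ℕ)
    have hsum : ∑ s, C (v s) * D s = V * h₀ + g₀ * W := by
      simp only [σ, Fintype.sum_sum_type, D, Sum.elim_inl, Sum.elim_inr, V, W, Finset.sum_mul, Finset.mul_sum]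
      congr 1 <;> exact Finset.sum_congr rfl fun j _ => by ring
    have hVd : V.degree < d := (degree_sum_le _ _).trans_lt ((Finset.sup_lt_iff (WithBot.bot_lt_coe _)).2
      fun j _ => (degree_C_mul_X_pow_le _ _).trans_lt (by exact_mod_cast j.2))
    have hWd : W.natDegree ≤ e := natDegree_sum_le_of_forall_le _ _ fun j _ =>
      (natDegree_C_mul_X_pow_le _ _).trans (Nat.lt_succ_iff.1 j.2)
    have hz : V * h₀ + g₀ * W = 0 := by
      ext m
      rw [coeff_zero]
      by_cases hm : m < d + (e + 1)
      · have h' := congrFun hv (n.symm ⟨m, hm⟩)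
        rw [Pi.zero_apply] at h'
        rw [← hsum, finsetSum_coeff, ← h']
        simp only [Matrix.vecMul, dotProduct]
        refine Finset.sum_congr rfl fun s _ => ?_
        rw [coeff_C_mul, RingHom.mapMatrix_apply, RingHom.mapMatrix_apply, Matrix.map_apply, Matrix.map_apply,
          Matrix.of_apply, hD, Equiv.apply_symm_apply]
      · refine coeff_eq_zero_of_natDegree_lt ((natDegree_add_le_of_degree_le (n := d + e) ?_ ?_).trans_lt (by omega))
        · have hV : V.natDegree ≤ d := natDegree_le_of_degree_le hVd.le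
          exact natDegree_mul_le.trans (add_le_add hV (le_max_left _ _))
        · exact natDegree_mul_le.trans (add_le_add hd.ge hWd)
    have hV : V = 0 := by
      by_contra hne
      have hdvd : g₀ ∣ V * h₀ := ⟨-W, by rw [mul_neg, eq_neg_iff_add_eq_zero]; exact hz⟩
      exact (not_le_of_gt hVd) (degree_eq_natDegree hg.ne_zero ▸ degree_le_of_dvd (hc.dvd_of_dvd_mul_right hdvd) hne)
    have hW : W = 0 := by
      rw [hV, zero_mul, zero_add] at hz
      exact (mul_eq_zero.1 hz).resolve_left hg.ne_zero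
    refine hv0 (funext fun s => ?_)
    rcases s with j | j
    · simpa [V, coeff_X_pow, Fin.val_inj] using congrArg (fun p => p.coeff (j : ℕ)) hV
    · simpa [W, coeff_X_pow, Fin.val_inj] using congrArg (fun p => p.coeff (j : ℕ)) hW
  obtain ⟨x, hx, hxx⟩ := exists_root_system (I := IsLocalRing.maximalIdeal R) P x₀ h₁ h₂
  refine ⟨Gx x, Hx x, ?_, monic_X_pow_add ((degree_sum_le _ _).trans_lt ((Finset.sup_lt_iff (WithBot.bot_lt_coe _)).2
    fun j _ => (degree_C_mul_X_pow_le _ _).trans_lt (by exact_mod_cast j.2))), ?_, ?_⟩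
  · ext m
    by_cases hm : m < d + (e + 1)
    · have h0 := hev x (n.symm ⟨m, hm⟩)
      rw [hx, Equiv.apply_symm_apply, coeff_sub] at h0
      exact (sub_eq_zero.1 h0.symm).symm
    · rw [coeff_eq_zero_of_natDegree_lt (lt_of_le_of_lt (le_max_right h₀.natDegree _) (by omega)),
        coeff_eq_zero_of_natDegree_lt]
      refine lt_of_le_of_lt (natDegree_mul_le.trans (add_le_add (b := d) (d := e) ?_ ?_)) (by omega)
      · exact natDegree_add_le_of_degree_le (natDegree_X_pow_le _)
          (natDegree_sum_le_of_forall_le _ _ fun j _ => (natDegree_C_mul_X_pow_le _ _).trans j.2.le)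
      · exact natDegree_sum_le_of_forall_le _ _ fun j _ =>
          (natDegree_C_mul_X_pow_le _ _).trans (Nat.lt_succ_iff.1 j.2)
  · rw [← hG₀]
    have : ∀ j, res (x j) = res (x₀ j) := fun j => by
      rw [← sub_eq_zero, ← map_sub, IsLocalRing.residue_eq_zero_iff]; exact hxx j
    simp only [Gx, Polynomial.map_add, Polynomial.map_sum, Polynomial.map_mul, Polynomial.map_C, this, res] at *
  · rw [← hH₀]
    have : ∀ j, res (x j) = res (x₀ j) := fun j => by
      rw [← sub_eq_zero, ← map_sub, IsLocalRing.residue_eq_zero_iff]; exact hxx j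
    simp only [Hx, Polynomial.map_sum, Polynomial.map_mul, Polynomial.map_C, res] at *
    simp [this]

end HenselLib
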