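import Groth.Prelude
import Mathlib.RingTheory.Etale.Locus
import Mathlib.RingTheory.MvPolynomial.Localization
import Mathlib.RingTheory.Localization.Ideal

/-! Localisations of étale algebras over localisations are localisations of étale algebras. -/

set_option autoImplicit false
universe u

namespace HenselLib

variable {R : Type u} [CommRing R] (M : Submonoid R) (S : Type u) [CommRing S] [Algebra R S] [IsLocalization M S]

/-- A finitely presented algebra over a localisation is a localisation of a finitely presented algebra. -/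
theorem exists_fp_model (D : Type u) [CommRing D] [Algebra S D] [Algebra R D] [IsScalarTower R S D]
    [Algebra.FinitePresentation S D] :
    ∃ (D₁ : Type u) (_ : CommRing D₁) (_ : Algebra R D₁) (_ : Algebra D₁ D) (_ : IsScalarTower R D₁ D),
      Algebra.FinitePresentation R D₁ ∧ IsLocalization (Algebra.algebraMapSubmonoid D₁ M) D := by
  classical
  obtain ⟨n, π, hπ, s, hs⟩ := Algebra.FinitePresentation.out (R := S) (A := D)
  letI := MvPolynomial.algebraMvPolynomial (R := R) (S := S) (σ := Fin n)
  let MP := M.map (MvPolynomial.C (σ := Fin n))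
  haveI : IsLocalization MP (MvPolynomial (Fin n) S) := MvPolynomial.isLocalization ..
  choose x hx using fun f : MvPolynomial (Fin n) S => IsLocalization.surj MP f
  let I : Ideal (MvPolynomial (Fin n) R) := Ideal.span (Set.range fun f : s => (x f.1).1)
  have hI : I.map (algebraMap (MvPolynomial (Fin n) R) (MvPolynomial (Fin n) S)) = RingHom.ker π := by
    have hs' : Ideal.span (s : Set (MvPolynomial (Fin n) S)) = RingHom.ker π := hs
    rw [← hs', Ideal.map_span, ← Set.range_comp]
    refine le_antisymm (Ideal.span_le.2 ?_) (Ideal.span_le.2 fun f hf => ?_)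
    · rintro _ ⟨f, rfl⟩
      show algebraMap _ _ (x f.1).1 ∈ Ideal.span _
      rw [← hx f.1]
      exact Ideal.mul_mem_right _ _ (Ideal.subset_span f.2)
    · have h1 := Ideal.subset_span (s := Set.range ((algebraMap (MvPolynomial (Fin n) R) (MvPolynomial (Fin n) S)) ∘
        fun g : s => (x g.1).1)) ⟨⟨f, hf⟩, rfl⟩
      rw [Function.comp_apply, ← hx f] at h1
      exact (Ideal.mul_unit_mem_iff_mem _ (IsLocalization.map_units _ (x f).2)).1 h1
  let D₁ := MvPolynomial (Fin n) R ⧸ I
  let φ : D₁ →ₐ[R] D := Ideal.Quotient.liftₐ I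
    ((π.restrictScalars R).comp (IsScalarTower.toAlgHom R (MvPolynomial (Fin n) R) (MvPolynomial (Fin n) S)))
    fun a ha => by
      show π (algebraMap _ _ a) = 0
      exact RingHom.mem_ker.1 (hI ▸ Ideal.mem_map_of_mem _ ha)
  letI : Algebra D₁ D := φ.toRingHom.toAlgebra
  haveI : IsScalarTower R D₁ D := IsScalarTower.of_algHom φ
  refine ⟨D₁, inferInstance, inferInstance, inferInstance, inferInstance,
    Algebra.FinitePresentation.quotient ⟨Finset.univ.image fun f : s => (x f.1).1, by
      simp [I, Set.image_univ]⟩, ?_⟩
  have hloc : IsLocalization (MP.map (Ideal.Quotient.mk I)) D :=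
    IsLocalization.of_surjective MP (MvPolynomial (Fin n) S) (Ideal.Quotient.mk I) Ideal.Quotient.mk_surjective
      π.toRingHom hπ rfl (by rw [Ideal.mk_ker, hI]; rfl)
  have heq : MP.map (Ideal.Quotient.mk I) = Algebra.algebraMapSubmonoid D₁ M := by
    ext y
    constructor
    · rintro ⟨_, ⟨m, hm, rfl⟩, rfl⟩; exact ⟨m, hm, rfl⟩
    · rintro ⟨m, hm, rfl⟩; exact ⟨_, ⟨m, hm, rfl⟩, rfl⟩
  rwa [heq] at hloc

include M in
/-- A localisation at a prime of an étale algebra over a localisation of an étale algebra is a localisation at a prime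
of an étale algebra. -/
theorem exists_etale_model (A : Type u) [CommRing A] [Algebra A R] [Algebra A S] [IsScalarTower A R S]
    [Algebra.Etale A R] (D : Type u) [CommRing D] [Algebra S D] [Algebra A D] [IsScalarTower A S D]
    [Algebra.Etale S D] (r : Ideal D) [r.IsPrime] :
    ∃ (E : Type u) (_ : CommRing E) (_ : Algebra A E) (q : Ideal E) (_ : q.IsPrime),
      Algebra.Etale A E ∧ q.comap (algebraMap A E) = r.comap (algebraMap A D) ∧
        Nonempty (Localization.AtPrime r ≃ₐ[A] Localization.AtPrime q) := by
  letI : Algebra R D := ((algebraMap S D).comp (algebraMap R S)).toAlgebra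
  haveI : IsScalarTower R S D := .of_algebraMap_eq' rfl
  haveI : IsScalarTower A R D := .of_algebraMap_eq fun a => by
    rw [IsScalarTower.algebraMap_apply A S D, IsScalarTower.algebraMap_apply A R S,
      IsScalarTower.algebraMap_apply R S D]
  obtain ⟨D₁, _, _, _, _, hfp, hloc⟩ := exists_fp_model M S D
  letI : Algebra A D₁ := ((algebraMap R D₁).comp (algebraMap A R)).toAlgebra
  haveI : IsScalarTower A R D₁ := .of_algebraMap_eq' rfl
  haveI : IsScalarTower A D₁ D := .of_algebraMap_eq fun a => by
    rw [IsScalarTower.algebraMap_apply A R D, IsScalarTower.algebraMap_apply A R D₁,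
      IsScalarTower.algebraMap_apply R D₁ D]
  haveI : Algebra.FinitePresentation A D₁ := .trans A R D₁
  let r₁ := r.comap (algebraMap D₁ D)
  haveI : r₁.IsPrime := Ideal.IsPrime.comap _
  haveI hat : IsLocalization.AtPrime (Localization.AtPrime r) r₁ :=
    IsLocalization.isLocalization_isLocalization_atPrime_isLocalization (Algebra.algebraMapSubmonoid D₁ M)
      (Localization.AtPrime r) r
  haveI : Algebra.FormallyEtale R S := .of_isLocalization M
  haveI : Algebra.FormallyEtale A S := .comp A R S
  haveI : Algebra.FormallyEtale A D := .comp A S D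
  haveI : Algebra.FormallyEtale D (Localization.AtPrime r) := .of_isLocalization r.primeCompl
  haveI : Algebra.FormallyEtale A (Localization.AtPrime r) := .comp A D _
  let e₁ : Localization.AtPrime r ≃ₐ[A] Localization.AtPrime r₁ :=
    (IsLocalization.algEquiv r₁.primeCompl (Localization.AtPrime r) (Localization.AtPrime r₁)).restrictScalars A
  haveI : Algebra.IsEtaleAt A r₁ := .of_equiv e₁
  obtain ⟨g, hg, hget⟩ := Algebra.exists_etale_of_isEtaleAt (R := A) r₁
  let E := Localization.Away g
  have hdis : Disjoint ((Submonoid.powers g : Submonoid D₁) : Set D₁) (r₁ : Set D₁) := by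
    refine Set.disjoint_left.2 fun y ⟨k, hk⟩ hy => hg (‹r₁.IsPrime›.mem_of_pow_mem k ?_)
    simp only at hk
    rw [hk]; exact hy
  let q := r₁.map (algebraMap D₁ E)
  haveI hq : q.IsPrime := IsLocalization.isPrime_of_isPrime_disjoint _ _ _ ‹_› hdis
  have hqr : q.comap (algebraMap D₁ E) = r₁ :=
    IsLocalization.comap_map_of_isPrime_disjoint _ _ ‹_› hdis
  refine ⟨E, inferInstance, inferInstance, q, hq, hget, ?_, ?_⟩
  · rw [IsScalarTower.algebraMap_eq A D₁ E, ← Ideal.comap_comap, hqr, Ideal.comap_comap,
      ← IsScalarTower.algebraMap_eq]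
  · haveI h1 : IsLocalization.AtPrime (Localization.AtPrime q) (q.comap (algebraMap D₁ E)) :=
      IsLocalization.isLocalization_isLocalization_atPrime_isLocalization (Submonoid.powers g) (Localization.AtPrime q) q
    have h2 : IsLocalization.AtPrime (Localization.AtPrime q) r₁ := by
      simp only [hqr] at h1; exact h1
    exact ⟨(IsLocalization.algEquiv r₁.primeCompl (Localization.AtPrime r) (Localization.AtPrime q)).restrictScalars A⟩

end HenselLib
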