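import Groth.Agent.HenselLib.LocalCover
import Mathlib.RingTheory.TensorProduct.Quotient

/-! The nilradical of an ind-etale local algebra. -/

set_option autoImplicit false
set_option linter.style.haveILetI false
universe u

open TensorProduct

namespace HenselLib

variable {R : Type u} [CommRing R]

theorem isNilpotent_mem_map_nilradical (U : Type u) [CommRing U] [Algebra R U] [Algebra.Etale R U]
    {u : U} (hu : IsNilpotent u) : u ∈ (nilradical R).map (algebraMap R U) := by
  haveI : IsReduced (R ⧸ nilradical R) :=
    (Ideal.isRadical_iff_quotient_reduced _).1 (Ideal.radical_isRadical _)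
  haveI : Algebra.Etale (R ⧸ nilradical R) ((R ⧸ nilradical R) ⊗[R] U) := inferInstance
  haveI : IsReduced ((R ⧸ nilradical R) ⊗[R] U) := Groth.Agent.S9407.result (R ⧸ nilradical R) _
  let e : U ⧸ (nilradical R).map (algebraMap R U) ≃+* (R ⧸ nilradical R) ⊗[R] U :=
    (Algebra.TensorProduct.quotIdealMapEquivTensorQuot U (nilradical R)).toRingEquiv.trans
      (Algebra.TensorProduct.comm R U (R ⧸ nilradical R)).toRingEquiv
  haveI : IsReduced (U ⧸ (nilradical R).map (algebraMap R U)) :=
    isReduced_of_injective e.toRingHom e.injective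
  exact Ideal.Quotient.eq_zero_iff_mem.1 (IsNilpotent.eq_zero (hu.map (Ideal.Quotient.mk _)))

theorem nilradical_map_of_etCov {S : Type u} [CommRing S] [Algebra R S] [IsLocalRing S] [Module.Flat R S]
    (hcov : ∀ x : S, EtCov (R := R) x) : (nilradical R).map (algebraMap R S) = nilradical S := by
  refine le_antisymm (Ideal.map_le_iff_le_comap.2 fun r hr => ?_) fun x hx => ?_
  · exact (show IsNilpotent r from hr).map (algebraMap R S)
  obtain ⟨U, _, _, _, q, _, ψ, hloc, hflat, hs⟩ := exists_local_cover hcov {x}
  obtain ⟨x', rfl⟩ := hs x (Finset.mem_singleton_self x)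
  letI : Algebra (Localization.AtPrime q) S := (ψ : Localization.AtPrime q →+* S).toAlgebra
  haveI : Module.Flat (Localization.AtPrime q) S := hflat
  haveI : IsLocalHom (algebraMap (Localization.AtPrime q) S) := hloc
  haveI : Module.FaithfullyFlat (Localization.AtPrime q) S := Module.FaithfullyFlat.of_flat_of_isLocalHom
  obtain ⟨n, hn⟩ := hx
  have h0 : x' ^ n = 0 := FaithfulSMul.algebraMap_injective (Localization.AtPrime q) S (by
    rw [map_pow, map_zero]; exact hn)
  obtain ⟨⟨u, s⟩, hus⟩ := IsLocalization.surj q.primeCompl x'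
  have h1 : algebraMap U (Localization.AtPrime q) u ^ n = 0 := by rw [← hus, mul_pow, h0, zero_mul]
  rw [← map_pow] at h1
  obtain ⟨t, ht⟩ := (IsLocalization.map_eq_zero_iff q.primeCompl (Localization.AtPrime q) _).1 h1
  have h2 : IsNilpotent ((t : U) * u) := ⟨n + 1, by rw [mul_pow, pow_succ (t : U), pow_succ u]
                                                    linear_combination ((t : U) ^ n * u) * ht⟩
  have h3 : x' ∈ (nilradical R).map (algebraMap R (Localization.AtPrime q)) := by
    rw [IsScalarTower.algebraMap_eq R U (Localization.AtPrime q), ← Ideal.map_map]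
    refine (Ideal.mul_unit_mem_iff_mem _ (IsLocalization.map_units (Localization.AtPrime q) s)).1 ?_
    rw [hus]
    refine (Ideal.unit_mul_mem_iff_mem _ (IsLocalization.map_units (Localization.AtPrime q) t)).1 ?_
    rw [← map_mul]
    exact Ideal.mem_map_of_mem _ (isNilpotent_mem_map_nilradical U h2)
  have h4 := Ideal.mem_map_of_mem (ψ : Localization.AtPrime q →+* S) h3
  rw [Ideal.map_map, ψ.comp_algebraMap] at h4
  exact h4

end HenselLib
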