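import Groth.Agent.HenselLib.HenselizationExists
import Groth.Agent.HenselLib.Local
import Groth.Agent.HenselLib.Perm
import Groth.Prelude.Def_Hens2

/-! Henselizations of local rings map uniquely to Henselian pairs. -/

set_option autoImplicit false
set_option maxHeartbeats 1000000
universe u

noncomputable section

namespace HenselLib

namespace Step

variable {A : Type u} [CommRing A] [IsLocalRing A] {Ω : Type u} [Field Ω] (θ : A →+* Ω)

/-- Lifting one stage to a Henselian pair. -/
theorem existsUnique_lift_pair {T : Type u} [CommRing T] {J : Ideal T} [HenselianRing T J] (g : A →+* T)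
    (τ : Ω →+* T ⧸ J) (hg : (Ideal.Quotient.mk J).comp g = τ.comp θ) :
    ∃! g' : Next θ →+* T, g'.comp (algebraMap A (Next θ)) = g ∧
      (Ideal.Quotient.mk J).comp g' = τ.comp (nextθ θ) := by
  classical
  have hres : ∀ (F : Polynomial A) (c : T) (a : Ω), Ideal.Quotient.mk J c = τ a →
      Ideal.Quotient.mk J (F.eval₂ g c) = τ (F.eval₂ θ a) := fun F c a h => by
    rw [Polynomial.hom_eval₂, hg, Polynomial.hom_eval₂ F θ τ a, h]
  have hex : ∀ i : Idx θ, ∃ c : T, i.1.1.eval₂ g c = 0 ∧ Ideal.Quotient.mk J c = τ i.1.2 := fun i => by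
    obtain ⟨c₀, hc₀⟩ := Ideal.Quotient.mk_surjective (τ i.1.2)
    obtain ⟨c, hc, hc'⟩ := HenselianRing.is_henselian (I := J) (i.1.1.map g) (i.2.1.map g) c₀
      (by rw [← Ideal.Quotient.eq_zero_iff_mem, Polynomial.eval_map, hres _ _ _ hc₀, i.2.2.1, map_zero])
      (by
        rw [Polynomial.derivative_map, Polynomial.eval_map, hres _ _ _ hc₀]
        exact (isUnit_iff_ne_zero.2 i.2.2.2).map τ)
    exact ⟨c, by rw [← Polynomial.eval_map]; exact hc,
      by rw [← hc₀, ← sub_eq_zero, ← map_sub, Ideal.Quotient.eq_zero_iff_mem]; exact hc'⟩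
  choose c hc hcres using hex
  let φ := MvPolynomial.eval₂Hom g c
  let gp : Pre θ →+* T := Ideal.Quotient.lift _ φ fun x hx => by
    have : Ideal.span (Set.range (rel θ)) ≤ RingHom.ker φ := by
      rw [Ideal.span_le]
      rintro _ ⟨i, rfl⟩
      show φ (rel θ i) = 0
      rw [rel, Polynomial.aeval_def, Polynomial.hom_eval₂, MvPolynomial.eval₂Hom_X',
        show φ.comp (algebraMap A _) = g from RingHom.ext fun a => MvPolynomial.eval₂Hom_C _ _ a]
      exact hc i
    exact this hx
  have hgp : (Ideal.Quotient.mk J).comp gp = τ.comp (preθ θ) := by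
    refine Ideal.Quotient.ringHom_ext (MvPolynomial.ringHom_ext (fun a => ?_) fun i => ?_)
    · simp only [RingHom.comp_apply, gp, φ, preθ, Ideal.Quotient.lift_mk, MvPolynomial.eval₂Hom_C]
      exact RingHom.congr_fun hg a
    · simp only [RingHom.comp_apply, gp, φ, preθ, Ideal.Quotient.lift_mk, MvPolynomial.eval₂Hom_X']
      exact hcres i
  let g' : Next θ →+* T := IsLocalization.lift (M := (q θ).primeCompl) (g := gp) fun t => by
    obtain ⟨w, hw⟩ := Ideal.Quotient.mk_surjective (I := J) (τ ↑(isUnit_iff_ne_zero.2 t.2).unit⁻¹)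
    refine isUnit_of_mul_isUnit_left (y := w) (isUnit_of_sub_mem (HenselianRing.jac (I := J)) isUnit_one ?_)
    rw [← Ideal.Quotient.eq, map_mul, ← RingHom.comp_apply, hgp, RingHom.comp_apply, hw, ← map_mul, map_one,
      IsUnit.mul_val_inv, map_one]
  have hg'π : ∀ P, g' (π θ P) = φ P := fun P => IsLocalization.lift_eq _ _
  have h1 : g'.comp (algebraMap A (Next θ)) = g := by
    ext a
    rw [RingHom.comp_apply, ← (π θ).commutes a, hg'π]
    exact MvPolynomial.eval₂Hom_C _ _ a
  refine ⟨g', ⟨h1, IsLocalization.ringHom_ext (q θ).primeCompl ?_⟩, fun g'' ⟨h2, h3⟩ => ?_⟩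
  · refine RingHom.ext fun t => ?_
    simp only [RingHom.comp_apply]
    rw [show g' (algebraMap (Pre θ) (Next θ) t) = gp t from IsLocalization.lift_eq _ _, nextθ_algebraMap]
    exact RingHom.congr_fun hgp t
  · refine IsLocalization.ringHom_ext (q θ).primeCompl (Ideal.Quotient.ringHom_ext
      (MvPolynomial.ringHom_ext (fun a => ?_) fun i => ?_))
    · exact ((RingHom.congr_fun h2 a).trans (RingHom.congr_fun h1 a).symm)
    · show g'' (root θ i) = g' (root θ i)
      rw [show g' (root θ i) = c i from (hg'π _).trans (MvPolynomial.eval₂Hom_X' _ _ _)]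
      have hroot : i.1.1.eval₂ g (g'' (root θ i)) = 0 := by
        rw [← h2, ← Polynomial.hom_eval₂, ← Polynomial.aeval_def, aeval_root, map_zero]
      have hr : Ideal.Quotient.mk J (g'' (root θ i)) = τ i.1.2 :=
        (RingHom.congr_fun h3 (root θ i)).trans (congrArg τ (nextθ_root θ i))
      refine root_eq_of_sub_mem (I := J) (HenselianRing.jac (I := J))
        (f := i.1.1.map g) (by rw [Polynomial.IsRoot, Polynomial.eval_map]; exact hroot)
        (by rw [Polynomial.IsRoot, Polynomial.eval_map]; exact hc i) ?_ ?_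
      · rw [Polynomial.derivative_map, Polynomial.eval_map, hres _ _ _ hr]
        exact (isUnit_iff_ne_zero.2 i.2.2.2).map τ
      · rw [← Ideal.Quotient.eq_zero_iff_mem, map_sub, hr, hcres i, sub_self]

end Step

variable {R : Type u} [CommRing R] [IsLocalRing R] {Ω : Type u} [Field Ω] {θ₀ : R →+* Ω}
  (hθ₀ : RingHom.ker θ₀ = IsLocalRing.maximalIdeal R)

/-- Lifting the henselization to a Henselian pair. -/
theorem existsUnique_hens_lift_pair {T : Type u} [CommRing T] {J : Ideal T} [HenselianRing T J] (g : R →+* T)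
    (τ : Ω →+* T ⧸ J) (hg : (Ideal.Quotient.mk J).comp g = τ.comp θ₀) :
    ∃! h : Hens hθ₀ →+* T, h.comp (algebraMap R (Hens hθ₀)) = g ∧
      (Ideal.Quotient.mk J).comp h = τ.comp (hensθ hθ₀) := by
  classical
  let gs : ∀ n, {h : G hθ₀ n →+* T // h.comp (algebraMap R (G hθ₀ n)) = g ∧
      (Ideal.Quotient.mk J).comp h = τ.comp (seq hθ₀ n).θ} := fun n => by
    induction n with
    | zero => exact ⟨g, RingHom.comp_id g, hg⟩
    | succ n ih =>
      have hh := (Step.existsUnique_lift_pair (seq hθ₀ n).θ ih.1 τ ih.2.2).choose_spec.1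
      refine ⟨(Step.existsUnique_lift_pair (seq hθ₀ n).θ ih.1 τ ih.2.2).choose, ?_, hh.2⟩
      exact RingHom.ext fun r => (RingHom.congr_fun hh.1 (algebraMap R (G hθ₀ n) r)).trans (RingHom.congr_fun ih.2.1 r)
  have hsucc : ∀ n (x : G hθ₀ n), (gs (n + 1)).1 (up hθ₀ n x) = (gs n).1 x := fun n x =>
    RingHom.congr_fun (Step.existsUnique_lift_pair (seq hθ₀ n).θ (gs n).1 τ (gs n).2.2).choose_spec.1.1 x
  have hcompat : ∀ i j (h : i ≤ j) (x : G hθ₀ i), (gs i).1 x = (gs j).1 (tr hθ₀ i j h x) := by
    intro i j h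
    induction j, h using Nat.le_induction with
    | base => intro x; rw [tr_self]; rfl
    | succ j hj ih => intro x; rw [tr_succ hθ₀ hj, AlgHom.comp_apply, hsucc, ← ih]
  let h : Hens hθ₀ →+* T :=
    { toFun := DirectLimit.lift _ (fun n x => (gs n).1 x) hcompat
      map_one' := by rw [DirectLimit.one_def 0]; exact map_one _
      map_mul' := DirectLimit.induction₂ _ fun i x y => by rw [DirectLimit.mul_def]; exact map_mul _ _ _
      map_zero' := by rw [DirectLimit.zero_def 0]; exact map_zero _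
      map_add' := DirectLimit.induction₂ _ fun i x y => by rw [DirectLimit.add_def]; exact map_add _ _ _ }
  refine ⟨h, ⟨?_, ?_⟩, fun h' ⟨h1, h2⟩ => ?_⟩
  · exact RingHom.ext fun r => by
      rw [RingHom.comp_apply, ← (of hθ₀ 0).commutes r]
      exact RingHom.congr_fun (gs 0).2.1 r
  · refine RingHom.ext fun z => ?_
    obtain ⟨n, x, rfl⟩ := exists_of hθ₀ z
    exact RingHom.congr_fun (gs n).2.2 x
  · refine RingHom.ext fun z => ?_
    obtain ⟨n, x, rfl⟩ := exists_of hθ₀ z
    show h' (of hθ₀ n x) = (gs n).1 x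
    induction n with
    | zero =>
      exact ((congrArg h' ((of hθ₀ 0).commutes x)).trans (RingHom.congr_fun h1 x))
    | succ n ih =>
      have huni := (Step.existsUnique_lift_pair (seq hθ₀ n).θ (gs n).1 τ (gs n).2.2).choose_spec.2
      have heq : h'.comp (of hθ₀ (n + 1) : G hθ₀ (n + 1) →+* Hens hθ₀) = (gs (n + 1)).1 := by
        refine huni _ ⟨RingHom.ext fun y => ?_, RingHom.ext fun y => RingHom.congr_fun h2 (of hθ₀ (n + 1) y)⟩
        refine (congrArg h' ?_).trans (ih y)
        rw [← of_tr hθ₀ (Nat.le_succ n) y, tr_succ hθ₀ le_rfl, tr_self]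
        rfl
      exact RingHom.congr_fun heq x

open IsLocalRing

theorem isPairHenselization_HR (R : Type u) [CommRing R] [IsLocalRing R] :
    Hens2.IsPairHenselization R (maximalIdeal R) (HR R) := by
  haveI : HenselianLocalRing (HR R) := henselianLocalRing_hens _
  refine ⟨?_, fun C _ J f hJ hfJ => ?_⟩
  · exact henselianRing_of_le (J := maximalIdeal (HR R)) (map_maximalIdeal_hens _).le
  · haveI := hJ
    let τ : ResidueField R →+* C ⧸ J := Ideal.Quotient.lift (maximalIdeal R) ((Ideal.Quotient.mk J).comp f)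
      fun a ha => Ideal.Quotient.eq_zero_iff_mem.2 (hfJ (Ideal.mem_map_of_mem f ha))
    obtain ⟨g, ⟨hg1, hg2⟩, huniq⟩ := existsUnique_hens_lift_pair (θ₀ := residue R) ker_residue f τ
      (RingHom.ext fun a => rfl)
    refine ⟨g, hg1, fun g' hg' => huniq g' ⟨hg', RingHom.ext fun z => ?_⟩⟩
    obtain ⟨r, hr⟩ := exists_sub_mem_max R z
    have hz : g' z - f r ∈ J := by
      rw [← hg', RingHom.comp_apply, ← map_sub]
      rw [← map_maximalIdeal_hens ker_residue] at hr
      refine hfJ ?_
      rw [← hg', ← Ideal.map_map]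
      exact Ideal.mem_map_of_mem g' hr
    rw [← ker_hensθ, RingHom.mem_ker, map_sub, sub_eq_zero] at hr
    rw [RingHom.comp_apply, RingHom.comp_apply, Ideal.Quotient.eq.2 hz, hr, ← RingHom.comp_apply (hensθ ker_residue),
      hensθ_comp]
    rfl

end HenselLib
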