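import Groth.Agent.HenselLib.Local
import Mathlib.RingTheory.Unramified.Field
import Mathlib.FieldTheory.IsSepClosed
import Mathlib.RingTheory.Etale.Basic

/-! Points of étale algebras in henselian local rings with separably closed residue field. -/

set_option autoImplicit false
universe u

open TensorProduct IsLocalRing

namespace HenselLib

theorem exists_residue_factor {k : Type u} [Field k] [IsSepClosed k] {L : Type u} [Field L] [Algebra k L]
    {R : Type u} [CommRing R] [Algebra R k] [Algebra R L] [IsScalarTower R k L] {Q : Type u} [CommRing Q] [Algebra R Q]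
    [Algebra.Etale R Q] (θ : Q →ₐ[R] L) (q : Q) : ∃ x : k, algebraMap k L x = θ q := by
  let V := k ⊗[R] Q
  let Θ : V →ₐ[k] L := Algebra.TensorProduct.lift (Algebra.ofId k L) θ fun _ _ => .all _ _
  haveI : IsReduced V := Algebra.FormallyUnramified.isReduced_of_field k V
  haveI : Module.Finite k V := Algebra.FormallyUnramified.finite_of_free k V
  haveI : IsArtinianRing V := IsArtinianRing.of_finite k V
  let M := RingHom.ker (Θ : V →+* L)
  haveI : M.IsPrime := RingHom.ker_isPrime _
  haveI : M.IsMaximal := IsArtinianRing.isMaximal_of_isPrime M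
  letI : Field (V ⧸ M) := Ideal.Quotient.field M
  haveI : Algebra.FormallyUnramified k (V ⧸ M) := inferInstance
  haveI : Algebra.EssFiniteType k (V ⧸ M) := inferInstance
  haveI : Algebra.IsSeparable k (V ⧸ M) := Algebra.FormallyUnramified.isSeparable k (V ⧸ M)
  obtain ⟨x, hx⟩ := IsSepClosed.algebraMap_surjective k (V ⧸ M) (Ideal.Quotient.mk M (1 ⊗ₜ q))
  refine ⟨x, ?_⟩
  rw [← Ideal.Quotient.mk_algebraMap, Ideal.Quotient.eq, RingHom.mem_ker] at hx
  have h2 : Θ (algebraMap k V x - 1 ⊗ₜ q) = 0 := hx
  rw [map_sub, AlgHom.commutes, sub_eq_zero] at h2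
  exact h2.trans ((Algebra.TensorProduct.lift_tmul _ _ _ _ _).trans (by rw [map_one, one_mul]))

theorem rootSet_bijOn {R S : Type u} [CommRing R] [HenselianLocalRing R] [IsSepClosed (ResidueField R)]
    [CommRing S] [HenselianLocalRing S] (φ : R →+* S) [IsLocalHom φ] (n : ℕ)
    (P : Fin n → MvPolynomial (Fin n) R)
    [Algebra.Etale R (MvPolynomial (Fin n) R ⧸ Ideal.span (Set.range P))] :
    Set.BijOn (fun r : Fin n → R => φ ∘ r)
      {r : Fin n → R | ∀ i, MvPolynomial.eval r (P i) = 0}
      {s : Fin n → S | ∀ i, MvPolynomial.eval s (MvPolynomial.map φ (P i)) = 0} := by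
  let Q := MvPolynomial (Fin n) R ⧸ Ideal.span (Set.range P)
  letI : Algebra R S := φ.toAlgebra
  have mkhom : ∀ {T : Type u} [CommRing T] [Algebra R T] (t : Fin n → T),
      (∀ i, MvPolynomial.aeval t (P i) = 0) → ∃ f : Q →ₐ[R] T, ∀ i, f (Ideal.Quotient.mk _ (MvPolynomial.X i)) = t i :=
    fun t ht => ⟨Ideal.Quotient.liftₐ _ (MvPolynomial.aeval t) fun a ha => by
      have : Ideal.span (Set.range P) ≤ RingHom.ker (MvPolynomial.aeval t) := Ideal.span_le.2 fun _ ⟨i, hi⟩ => by
        rw [← hi]; exact ht i
      exact this ha, fun i => MvPolynomial.aeval_X t i⟩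
  have heval : ∀ (s : Fin n → S) (p : MvPolynomial (Fin n) R),
      MvPolynomial.eval s (MvPolynomial.map φ p) = MvPolynomial.aeval s p := fun s p => by
    rw [MvPolynomial.eval_map, MvPolynomial.aeval_def]; rfl
  have hhom : ∀ {T : Type u} [CommRing T] [Algebra R T] (f : Q →ₐ[R] T) (i : Fin n),
      MvPolynomial.aeval (fun j => f (Ideal.Quotient.mk _ (MvPolynomial.X j))) (P i) = 0 := fun f i => by
    have h : (f.comp (Ideal.Quotient.mkₐ R _)) (P i) = 0 := by
      show f (Ideal.Quotient.mk _ (P i)) = 0
      rw [Ideal.Quotient.eq_zero_iff_mem.2 (Ideal.subset_span (Set.mem_range_self i)), map_zero]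
    rw [MvPolynomial.aeval_unique (f.comp (Ideal.Quotient.mkₐ R _))] at h
    exact h
  refine ⟨fun r hr i => ?_, fun r hr r' hr' heq => ?_, fun s hs => ?_⟩
  · show MvPolynomial.eval (φ ∘ r) (MvPolynomial.map φ (P i)) = 0
    rw [MvPolynomial.eval_map, show MvPolynomial.eval₂ φ (φ ∘ r) (P i) = φ (MvPolynomial.eval r (P i)) from
      MvPolynomial.eval₂_comp φ r (P i) |>.symm, hr i, map_zero]
  · obtain ⟨f, hf⟩ := mkhom (T := R) r fun i => (RingHom.congr_fun (MvPolynomial.coe_aeval_eq_eval r) (P i)).trans (hr i)
    obtain ⟨g, hg⟩ := mkhom (T := R) r' fun i => (RingHom.congr_fun (MvPolynomial.coe_aeval_eq_eval r') (P i)).trans (hr' i)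
    have hfg : f = g := algHom_ext_of_sub_mem (J := maximalIdeal R) (maximalIdeal_le_jacobson _) f g fun x => by
      obtain ⟨p, rfl⟩ := Ideal.Quotient.mk_surjective x
      induction p using MvPolynomial.induction_on with
      | C a => rw [← MvPolynomial.algebraMap_eq, Ideal.Quotient.mk_algebraMap, AlgHom.commutes, AlgHom.commutes, sub_self]; exact zero_mem _
      | add p q hp hq => rw [map_add, map_add, map_add, add_sub_add_comm]; exact add_mem hp hq
      | mul_X p i hp =>
        have hi : r i - r' i ∈ maximalIdeal R := fun hu => by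
          have h1 := hu.map φ
          rw [map_sub, show φ (r i) = φ (r' i) from congrFun heq i, sub_self] at h1
          exact not_isUnit_zero h1
        rw [map_mul, map_mul, map_mul, hf, hg, show f _ * r i - g _ * r' i =
          (f (Ideal.Quotient.mk _ p) - g (Ideal.Quotient.mk _ p)) * r i + g (Ideal.Quotient.mk _ p) * (r i - r' i) by ring]
        exact add_mem (Ideal.mul_mem_right _ _ hp) (Ideal.mul_mem_left _ _ hi)
    exact funext fun i => by rw [← hf i, hfg, hg i]
  · obtain ⟨g, hg⟩ := mkhom (T := S) s fun i => by rw [← heval]; exact hs i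
    letI : Algebra (ResidueField R) (ResidueField S) := (ResidueField.map φ).toAlgebra
    haveI : IsScalarTower R (ResidueField R) (ResidueField S) :=
      IsScalarTower.of_algebraMap_eq fun r => (ResidueField.map_residue φ r).symm
    let θS : Q →ₐ[R] ResidueField S := (IsScalarTower.toAlgHom R S (ResidueField S)).comp g
    choose θ hθ using exists_residue_factor (k := ResidueField R) θS
    have hinj := (algebraMap (ResidueField R) (ResidueField S)).injective
    let θR : Q →+* ResidueField R :=
      { toFun := θ
        map_one' := hinj (by rw [hθ, map_one, map_one])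
        map_mul' := fun a b => hinj (by rw [hθ, map_mul, map_mul, hθ, hθ])
        map_zero' := hinj (by rw [hθ, map_zero, map_zero])
        map_add' := fun a b => hinj (by rw [hθ, map_add, map_add, hθ, hθ]) }
    obtain ⟨f, hf, -⟩ := existsUnique_algHom (R := R) (S := R) (B := Q) θR (RingHom.ext fun r => hinj (by
      show algebraMap _ _ (θ (algebraMap R Q r)) = algebraMap (ResidueField R) _ (residue R (algebraMap R R r))
      rw [hθ, AlgHom.commutes]
      exact (ResidueField.map_residue φ r).symm))
    refine ⟨fun i => f (Ideal.Quotient.mk _ (MvPolynomial.X i)), fun i => ?_, ?_⟩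
    · show MvPolynomial.eval _ (P i) = 0
      rw [← hhom f i]
      exact (RingHom.congr_fun (MvPolynomial.coe_aeval_eq_eval _) (P i)).symm
    · have : (Algebra.ofId R S).comp f = g :=
        algHom_ext_of_sub_mem (J := maximalIdeal S) (maximalIdeal_le_jacobson _) _ _ fun x => by
          rw [← residue_eq_zero_iff, map_sub, sub_eq_zero]
          show residue S (φ (f x)) = θS x
          rw [← ResidueField.map_residue φ, hf x, ← hθ x]
          rfl
      funext i
      rw [← hg i, ← this]
      rfl

end HenselLib
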