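import Groth.Agent.HenselLib.Local

/-! One step in the construction of (strict) henselizations: adjoining all simple roots. -/

set_option autoImplicit false
set_option maxHeartbeats 1000000
universe u

noncomputable section

open TensorProduct

namespace HenselLib

namespace Step

variable {A : Type u} [CommRing A] [IsLocalRing A] {Ω : Type u} [Field Ω] (θ : A →+* Ω)

/-- The index type: simple roots in `Ω` of monic polynomials over `A`. -/
def Idx : Type u :=
  {p : Polynomial A × Ω // p.1.Monic ∧ p.1.eval₂ θ p.2 = 0 ∧ p.1.derivative.eval₂ θ p.2 ≠ 0}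

/-- The defining relation of a variable. -/
def rel (i : Idx θ) : MvPolynomial (Idx θ) A := Polynomial.aeval (MvPolynomial.X i) i.1.1

/-- All roots adjoined. -/
abbrev Pre : Type u := MvPolynomial (Idx θ) A ⧸ Ideal.span (Set.range (rel θ))

/-- Evaluation at the chosen roots. -/
def preθ : Pre θ →+* Ω :=
  Ideal.Quotient.lift _ (MvPolynomial.eval₂Hom θ (fun i => i.1.2)) fun x hx => by
    have : Ideal.span (Set.range (rel θ)) ≤ RingHom.ker (MvPolynomial.eval₂Hom θ (fun i : Idx θ => i.1.2)) := by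
      rw [Ideal.span_le]
      rintro _ ⟨i, rfl⟩
      show MvPolynomial.eval₂Hom θ (fun i : Idx θ => i.1.2) (rel θ i) = 0
      rw [rel, Polynomial.aeval_def, Polynomial.hom_eval₂, MvPolynomial.eval₂Hom_X',
        show (MvPolynomial.eval₂Hom θ (fun i : Idx θ => i.1.2)).comp (algebraMap A _) = θ from
          RingHom.ext fun a => MvPolynomial.eval₂Hom_C _ _ a]
      exact i.2.2.1
    exact this hx

/-- The prime of the chosen point. -/
abbrev q : Ideal (Pre θ) := RingHom.ker (preθ θ)

instance : (q θ).IsPrime := RingHom.ker_isPrime _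

/-- The local ring of the chosen point. -/
abbrev Next : Type u := Localization.AtPrime (q θ)

/-- The map to `Ω`. -/
def nextθ : Next θ →+* Ω :=
  IsLocalization.lift (M := (q θ).primeCompl) (g := preθ θ) fun t => isUnit_iff_ne_zero.2 t.2

theorem nextθ_algebraMap (t : Pre θ) : nextθ θ (algebraMap (Pre θ) (Next θ) t) = preθ θ t :=
  IsLocalization.lift_eq _ _

theorem nextθ_comp : (nextθ θ).comp (algebraMap A (Next θ)) = θ := by
  ext a
  rw [RingHom.comp_apply, IsScalarTower.algebraMap_apply A (Pre θ) (Next θ), nextθ_algebraMap]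
  exact MvPolynomial.eval₂Hom_C _ _ a

theorem ker_nextθ : RingHom.ker (nextθ θ) = IsLocalRing.maximalIdeal (Next θ) := by
  ext x
  obtain ⟨t, s, rfl⟩ := IsLocalization.exists_mk'_eq (q θ).primeCompl x
  rw [IsLocalization.AtPrime.mk'_mem_maximal_iff (Next θ) (q θ) t s, RingHom.mem_ker, nextθ, IsLocalization.lift_mk'_spec,
    mul_zero]
  exact Iff.rfl

/-- The adjoined root. -/
def root (i : Idx θ) : Next θ := algebraMap (Pre θ) (Next θ) (Ideal.Quotient.mk _ (MvPolynomial.X i))

theorem nextθ_root (i : Idx θ) : nextθ θ (root θ i) = i.1.2 := by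
  rw [root, nextθ_algebraMap]
  exact MvPolynomial.eval₂Hom_X' _ _ i

/-- The quotient map to the next stage. -/
def π : MvPolynomial (Idx θ) A →ₐ[A] Next θ :=
  (IsScalarTower.toAlgHom A (Pre θ) (Next θ)).comp (Ideal.Quotient.mkₐ A _)

theorem π_X (i : Idx θ) : π θ (MvPolynomial.X i) = root θ i := rfl

theorem π_rel (i : Idx θ) : π θ (rel θ i) = 0 := by
  show algebraMap (Pre θ) (Next θ) (Ideal.Quotient.mk _ (rel θ i)) = 0
  rw [Ideal.Quotient.eq_zero_iff_mem.2 (Ideal.subset_span (Set.mem_range_self i)), map_zero]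

theorem aeval_root (i : Idx θ) : Polynomial.aeval (root θ i) i.1.1 = 0 := by
  rw [← π_X, Polynomial.aeval_algHom_apply]
  exact π_rel θ i

theorem isUnit_iff (x : Next θ) : IsUnit x ↔ nextθ θ x ≠ 0 := by
  rw [← IsLocalRing.notMem_maximalIdeal, ← ker_nextθ, RingHom.mem_ker]

theorem isUnit_derivative_root (i : Idx θ) : IsUnit (Polynomial.aeval (root θ i) i.1.1.derivative) := by
  rw [isUnit_iff, Polynomial.aeval_def, Polynomial.hom_eval₂, nextθ_comp, nextθ_root]
  exact i.2.2.2

/-- Finitely many roots live in an étale algebra. -/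
theorem exists_etale_stage (s : Finset (Idx θ)) :
    ∃ (U : Type u) (_ : CommRing U) (_ : Algebra A U) (_ : Algebra.Etale A U)
      (φ : MvPolynomial (Idx θ) A →ₐ[A] U) (ξ : U →ₐ[A] Next θ),
      ∀ i ∈ s, φ (rel θ i) = 0 ∧ ξ (φ (MvPolynomial.X i)) = root θ i := by
  classical
  induction s using Finset.induction_on with
  | empty =>
    exact ⟨A, inferInstance, inferInstance, inferInstance, MvPolynomial.aeval fun _ => (0 : A),
      Algebra.ofId A (Next θ), by simp⟩
  | @insert i s hi ih =>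
    obtain ⟨U, _, _, _, φ, ξ, hU⟩ := ih
    let P := rootPair (i.1.1.map (algebraMap A U)) (i.2.1.map _)
    letI : Algebra U (Next θ) := ξ.toRingHom.toAlgebra
    haveI : IsScalarTower A U (Next θ) := IsScalarTower.of_algebraMap_eq fun a => (ξ.commutes a).symm
    have hm : P.HasMap (root θ i) := by
      refine ⟨?_, ?_⟩
      · rw [show P.f = i.1.1.map (algebraMap A U) from rfl, Polynomial.aeval_map_algebraMap]
        exact aeval_root θ i
      · rw [show P.g = Polynomial.derivative (i.1.1.map (algebraMap A U)) from rfl, Polynomial.derivative_map,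
          Polynomial.aeval_map_algebraMap]
        exact isUnit_derivative_root θ i
    letI : Algebra A P.Ring := ((algebraMap U P.Ring).comp (algebraMap A U)).toAlgebra
    haveI : IsScalarTower A U P.Ring := IsScalarTower.of_algebraMap_eq' rfl
    haveI : Algebra.Etale A P.Ring := Algebra.Etale.comp A U P.Ring
    let φ' : MvPolynomial (Idx θ) A →ₐ[A] P.Ring :=
      MvPolynomial.aeval fun j => if j = i then P.X else algebraMap U P.Ring (φ (MvPolynomial.X j))
    refine ⟨P.Ring, inferInstance, inferInstance, inferInstance, φ', (P.lift _ hm).restrictScalars A, fun j hj => ?_⟩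
    have hrel : φ' (rel θ j) = Polynomial.aeval (φ' (MvPolynomial.X j)) j.1.1 :=
      (Polynomial.aeval_algHom_apply φ' _ _).symm
    rcases eq_or_ne j i with rfl | hne
    · have hX : φ' (MvPolynomial.X j) = P.X := by simp [φ']
      refine ⟨?_, ?_⟩
      · rw [hrel, hX, ← Polynomial.aeval_map_algebraMap U]
        exact (StandardEtalePair.hasMap_X (P := P)).1
      · rw [hX]
        exact P.lift_X _ hm
    · have hjs : j ∈ s := (Finset.mem_insert.1 hj).resolve_left hne
      have hX : φ' (MvPolynomial.X j) = algebraMap U P.Ring (φ (MvPolynomial.X j)) := by simp [φ', hne]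
      refine ⟨?_, ?_⟩
      · rw [hrel, hX, Polynomial.aeval_algebraMap_apply, Polynomial.aeval_algHom_apply,
          show φ (Polynomial.aeval (MvPolynomial.X j) j.1.1) = φ (rel θ j) from rfl, (hU j hjs).1, map_zero]
      · rw [hX]
        exact ((P.lift _ hm).commutes _).trans (hU j hjs).2

theorem ξ_φ_eq {U : Type u} [CommRing U] [Algebra A U] (φ : MvPolynomial (Idx θ) A →ₐ[A] U)
    (ξ : U →ₐ[A] Next θ) (P : MvPolynomial (Idx θ) A)
    (h : ∀ i ∈ P.vars, ξ (φ (MvPolynomial.X i)) = root θ i) : ξ (φ P) = π θ P :=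
  MvPolynomial.hom_congr_vars (f₁ := ((ξ.comp φ : _ →ₐ[A] _) : _ →+* Next θ))
    (f₂ := ((π θ : _ →ₐ[A] _) : _ →+* Next θ))
    (RingHom.ext fun a => ((ξ.comp φ).commutes a).trans ((π θ).commutes a).symm)
    (fun i hi _ => h i hi) rfl

theorem exists_rep (x : Next θ) : ∃ P Q : MvPolynomial (Idx θ) A, IsUnit (π θ Q) ∧ x * π θ Q = π θ P := by
  obtain ⟨t, ⟨s, hs⟩, rfl⟩ := IsLocalization.exists_mk'_eq (q θ).primeCompl x
  obtain ⟨P, rfl⟩ := Ideal.Quotient.mk_surjective t
  obtain ⟨Q, rfl⟩ := Ideal.Quotient.mk_surjective s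
  exact ⟨P, Q, IsLocalization.map_units (Next θ) (⟨_, hs⟩ : (q θ).primeCompl),
    IsLocalization.mk'_spec (Next θ) _ _⟩

instance flat : Module.Flat A (Next θ) := by
  classical
  refine (Module.Flat.iff_forall_isTrivialRelation (R := A) (M := Next θ)).2 ?_
  intro l f x hfx
  obtain ⟨⟨b, hb⟩, hbx⟩ := IsLocalization.exist_integer_multiples_of_finite (q θ).primeCompl x
  have hex : ∀ j, ∃ P, π θ P = algebraMap (Pre θ) (Next θ) b * x j := fun j => by
    obtain ⟨t, ht⟩ := hbx j
    obtain ⟨P, rfl⟩ := Ideal.Quotient.mk_surjective t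
    exact ⟨P, ht.trans (Algebra.smul_def _ _)⟩
  choose P hP using hex
  have hsum : π θ (∑ j, MvPolynomial.C (f j) * P j) = 0 := by
    rw [map_sum]
    have : ∀ j, π θ (MvPolynomial.C (f j) * P j) = algebraMap (Pre θ) (Next θ) b * (f j • x j) := fun j => by
      rw [map_mul, hP, ← MvPolynomial.algebraMap_eq, AlgHom.commutes, Algebra.smul_def]; ring
    rw [Finset.sum_congr rfl fun j _ => this j, ← Finset.mul_sum, hfx, mul_zero]
  obtain ⟨⟨c, hc⟩, hc0⟩ := (IsLocalization.map_eq_zero_iff (q θ).primeCompl (Next θ) _).1 hsum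
  obtain ⟨C, rfl⟩ := Ideal.Quotient.mk_surjective c
  have hc1 : C * (∑ j, MvPolynomial.C (f j) * P j) ∈ Ideal.span (Set.range (rel θ)) :=
    Ideal.Quotient.eq_zero_iff_mem.1 hc0
  obtain ⟨coef, hcoef⟩ := Finsupp.mem_ideal_span_range_iff_exists_finsupp.1 hc1
  let s : Finset (Idx θ) := (Finset.univ.biUnion fun j => (P j).vars) ∪ C.vars ∪ coef.support
  obtain ⟨U, _, _, _, φ, ξ, hU⟩ := exists_etale_stage θ s
  have hφ0 : φ C * ∑ j, algebraMap A U (f j) * φ (P j) = 0 := by
    have h1 := congrArg φ hcoef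
    rw [Finsupp.sum, map_sum, Finset.sum_eq_zero (fun k hk => by
      rw [map_mul, (hU k (by simp only [s, Finset.mem_union]; exact Or.inr hk)).1, mul_zero]), map_mul, map_sum] at h1
    rw [h1]
    exact congrArg _ (Finset.sum_congr rfl fun j _ => by rw [map_mul, ← MvPolynomial.algebraMap_eq, AlgHom.commutes])
  let U' := Localization.Away (φ C)
  haveI : Algebra.Etale U U' := Algebra.Etale.of_isLocalizationAway (φ C)
  haveI : Algebra.Etale A U' := Algebra.Etale.comp A U U'
  have hξC : IsUnit (ξ (φ C)) := by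
    rw [ξ_φ_eq θ φ ξ C fun i hi => (hU i (by simp [s, hi])).2]
    exact IsLocalization.map_units (Next θ) (⟨_, hc⟩ : (q θ).primeCompl)
  let ξ' : U' →ₐ[A] Next θ := IsLocalization.Away.liftAlgHom (φ C) (f := ξ) hξC
  have hrel : ∑ j, f j • algebraMap U U' (φ (P j)) = 0 := by
    have h1 := congrArg (algebraMap U U') hφ0
    rw [map_mul, map_zero, map_sum] at h1
    rw [← (IsLocalization.Away.algebraMap_isUnit (S := U') (φ C)).mul_right_eq_zero.1 h1]
    exact Finset.sum_congr rfl fun j _ => by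
      rw [Algebra.smul_def, map_mul, ← IsScalarTower.algebraMap_apply]
  obtain ⟨k, a, y, hy, hay⟩ := Module.Flat.iff_forall_isTrivialRelation.1 (inferInstance : Module.Flat A U') hrel
  obtain ⟨v, hv⟩ := IsLocalization.map_units (Next θ) (⟨b, hb⟩ : (q θ).primeCompl)
  refine ⟨k, a, fun j => ↑v⁻¹ * ξ' (y j), fun j => ?_, hay⟩
  have h2 : ξ' (algebraMap U U' (φ (P j))) = π θ (P j) := by
    rw [← ξ_φ_eq θ φ ξ (P j) fun i hi => (hU i (by simp only [s, Finset.mem_union, Finset.mem_biUnion]; exact Or.inl (Or.inl ⟨j, Finset.mem_univ _, hi⟩))).2]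
    simp [ξ']
  have h3 : x j = ↑v⁻¹ * π θ (P j) := by
    rw [hP, show algebraMap (Pre θ) (Next θ) b = ↑v from hv.symm, Units.inv_mul_cancel_left]
  rw [h3, ← h2, show algebraMap U U' (φ (P j)) = ∑ m, a j m • y m from hy j, map_sum, Finset.mul_sum]
  exact Finset.sum_congr rfl fun m _ => by rw [map_smul, mul_smul_comm]

theorem map_maximalIdeal (hθ : RingHom.ker θ = IsLocalRing.maximalIdeal A) :
    (IsLocalRing.maximalIdeal A).map (algebraMap A (Next θ)) = IsLocalRing.maximalIdeal (Next θ) := by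
  classical
  let m := IsLocalRing.maximalIdeal A
  have hcomm : ∀ a, nextθ θ (algebraMap A (Next θ) a) = θ a := RingHom.congr_fun (nextθ_comp θ)
  refine le_antisymm (Ideal.map_le_iff_le_comap.2 fun a ha => ?_) fun x hx => ?_
  · rw [Ideal.mem_comap, ← ker_nextθ, RingHom.mem_ker, hcomm]
    exact (hθ.ge ha : _)
  rw [← ker_nextθ, RingHom.mem_ker] at hx
  obtain ⟨P, Q, hQ, hxQ⟩ := exists_rep θ x
  have hP : nextθ θ (π θ P) = 0 := by rw [← hxQ, map_mul, hx, zero_mul]
  obtain ⟨U, _, _, _, φ, ξ, hU⟩ := exists_etale_stage θ P.vars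
  let mU := m.map (algebraMap A U)
  let V := U ⧸ mU
  letI : Field (A ⧸ m) := Ideal.Quotient.field m
  haveI : Algebra.FormallyUnramified (A ⧸ m) V := Algebra.FormallyUnramified.of_restrictScalars A (A ⧸ m) V
  haveI : Algebra.EssFiniteType (A ⧸ m) V := Algebra.EssFiniteType.of_comp A (A ⧸ m) V
  haveI : IsReduced V := Algebra.FormallyUnramified.isReduced_of_field (A ⧸ m) V
  haveI : Module.Finite (A ⧸ m) V := Algebra.FormallyUnramified.finite_of_free (A ⧸ m) V
  haveI : IsArtinianRing V := IsArtinianRing.of_finite (A ⧸ m) V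
  let e := IsArtinianRing.equivPi V
  let z : V := Ideal.Quotient.mk mU (φ P)
  have hy : ∀ M : MaximalSpectrum V, ∃ y : V ⧸ M.asIdeal, e z M * y * e z M = e z M := fun M => by
    letI : Field (V ⧸ M.asIdeal) := Ideal.Quotient.field M.asIdeal
    rcases eq_or_ne (e z M) 0 with h | h
    · exact ⟨0, by rw [h]; simp⟩
    · exact ⟨(e z M)⁻¹, by rw [mul_inv_cancel₀ h, one_mul]⟩
  choose y hy using hy
  obtain ⟨w, hw⟩ := Ideal.Quotient.mk_surjective (e.symm y)
  have hz : z * Ideal.Quotient.mk mU w * z = z := e.injective (funext fun M => by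
    rw [map_mul, map_mul, hw, AlgEquiv.apply_symm_apply]; exact hy M)
  have hmem : φ P * (φ P * w - 1) ∈ mU := by
    rw [← Ideal.Quotient.eq_zero_iff_mem, map_mul, map_sub, map_mul, map_one]
    linear_combination hz
  have hξ : ξ (φ P * (φ P * w - 1)) ∈ m.map (algebraMap A (Next θ)) := by
    have h1 := Ideal.mem_map_of_mem (ξ : U →+* Next θ) hmem
    rwa [Ideal.map_map, ξ.comp_algebraMap] at h1
  have hφP : ξ (φ P) = π θ P := ξ_φ_eq θ φ ξ P fun i hi => (hU i hi).2
  have hu : IsUnit (ξ (φ P * w - 1)) := by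
    rw [isUnit_iff, map_sub, map_mul, map_one, hφP, map_sub, map_mul, hP, map_one, zero_mul, zero_sub]
    exact neg_ne_zero.2 one_ne_zero
  rw [map_mul, hφP, Ideal.mul_unit_mem_iff_mem _ hu, ← hxQ, Ideal.mul_unit_mem_iff_mem _ hQ] at hξ
  exact hξ

theorem existsUnique_lift {T : Type u} [CommRing T] [HenselianLocalRing T] (g : A →+* T)
    (τ : Ω →+* IsLocalRing.ResidueField T) (hg : (IsLocalRing.residue T).comp g = τ.comp θ) :
    ∃! g' : Next θ →+* T, g'.comp (algebraMap A (Next θ)) = g ∧
      (IsLocalRing.residue T).comp g' = τ.comp (nextθ θ) := by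
  classical
  have hres : ∀ (F : Polynomial A) (c : T) (a : Ω), IsLocalRing.residue T c = τ a →
      IsLocalRing.residue T (F.eval₂ g c) = τ (F.eval₂ θ a) := fun F c a h => by
    rw [Polynomial.hom_eval₂, hg, Polynomial.hom_eval₂ F θ τ a, h]
  have hex : ∀ i : Idx θ, ∃ c : T, i.1.1.eval₂ g c = 0 ∧ IsLocalRing.residue T c = τ i.1.2 := fun i => by
    obtain ⟨c₀, hc₀⟩ := IsLocalRing.residue_surjective (τ i.1.2)
    obtain ⟨c, hc, hc'⟩ := HenselianLocalRing.is_henselian (i.1.1.map g) (i.2.1.map g) c₀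
      (by rw [← IsLocalRing.residue_eq_zero_iff, Polynomial.eval_map, hres _ _ _ hc₀, i.2.2.1, map_zero])
      (by
        rw [← IsLocalRing.residue_ne_zero_iff_isUnit, Polynomial.derivative_map, Polynomial.eval_map, hres _ _ _ hc₀]
        exact (map_ne_zero τ).2 i.2.2.2)
    exact ⟨c, by rw [← Polynomial.eval_map]; exact hc,
      by rw [← hc₀, ← sub_eq_zero, ← map_sub, IsLocalRing.residue_eq_zero_iff]; exact hc'⟩
  choose c hc hcres using hex
  let φ := MvPolynomial.eval₂Hom g c
  let gp : Pre θ →+* T := Ideal.Quotient.lift _ φ fun x hx => by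
    have : Ideal.span (Set.range (rel θ)) ≤ RingHom.ker φ := by
      rw [Ideal.span_le]
      rintro _ ⟨i, rfl⟩
      show φ (rel θ i) = 0
      rw [rel, Polynomial.aeval_def, Polynomial.hom_eval₂, MvPolynomial.eval₂Hom_X',
        show φ.comp (algebraMap A _) = g from RingHom.ext fun a => MvPolynomial.eval₂Hom_C _ _ a]
      exact hc i
    exact this hx
  have hgp : (IsLocalRing.residue T).comp gp = τ.comp (preθ θ) := by
    refine Ideal.Quotient.ringHom_ext (MvPolynomial.ringHom_ext (fun a => ?_) fun i => ?_)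
    · simp only [RingHom.comp_apply, gp, φ, preθ, Ideal.Quotient.lift_mk, MvPolynomial.eval₂Hom_C]
      exact RingHom.congr_fun hg a
    · simp only [RingHom.comp_apply, gp, φ, preθ, Ideal.Quotient.lift_mk, MvPolynomial.eval₂Hom_X']
      exact hcres i
  let g' : Next θ →+* T := IsLocalization.lift (M := (q θ).primeCompl) (g := gp) fun t => by
    rw [← IsLocalRing.residue_ne_zero_iff_isUnit, ← RingHom.comp_apply, hgp, RingHom.comp_apply]
    exact (map_ne_zero τ).2 t.2
  have hg'π : ∀ P, g' (π θ P) = φ P := fun P => IsLocalization.lift_eq _ _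
  have h1 : g'.comp (algebraMap A (Next θ)) = g := by
    ext a
    rw [RingHom.comp_apply, ← (π θ).commutes a, hg'π]
    exact MvPolynomial.eval₂Hom_C _ _ a
  refine ⟨g', ⟨h1, IsLocalization.ringHom_ext (q θ).primeCompl ?_⟩, fun g'' ⟨h2, h3⟩ => ?_⟩
  · refine RingHom.ext fun t => ?_
    simp only [RingHom.comp_apply]
    rw [show g' (algebraMap (Pre θ) (Next θ) t) = gp t from IsLocalization.lift_eq _ _, nextθ_algebraMap]
    exact RingHom.congr_fun hgp t
  · refine IsLocalization.ringHom_ext (q θ).primeCompl (Ideal.Quotient.ringHom_ext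
      (MvPolynomial.ringHom_ext (fun a => ?_) fun i => ?_))
    · exact ((RingHom.congr_fun h2 a).trans (RingHom.congr_fun h1 a).symm)
    · show g'' (root θ i) = g' (root θ i)
      rw [show g' (root θ i) = c i from (hg'π _).trans (MvPolynomial.eval₂Hom_X' _ _ _)]
      have hroot : i.1.1.eval₂ g (g'' (root θ i)) = 0 := by
        rw [← h2, ← Polynomial.hom_eval₂, ← Polynomial.aeval_def, aeval_root, map_zero]
      have hr : IsLocalRing.residue T (g'' (root θ i)) = τ i.1.2 :=
        (RingHom.congr_fun h3 (root θ i)).trans (congrArg τ (nextθ_root θ i))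
      refine root_eq_of_sub_mem (I := IsLocalRing.maximalIdeal T) (HenselianRing.jac (I := IsLocalRing.maximalIdeal T))
        (f := i.1.1.map g) (by rw [Polynomial.IsRoot, Polynomial.eval_map]; exact hroot)
        (by rw [Polynomial.IsRoot, Polynomial.eval_map]; exact hc i) ?_ ?_
      · refine IsUnit.map _ ?_
        rw [← IsLocalRing.residue_ne_zero_iff_isUnit, Polynomial.derivative_map, Polynomial.eval_map, hres _ _ _ hr]
        exact (map_ne_zero τ).2 i.2.2.2
      · rw [← IsLocalRing.residue_eq_zero_iff, map_sub, hr, hcres i, sub_self]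

end Step

end HenselLib
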